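import Cfsg.Agent.H99.FiTwoTwo.Derive

/-!
The tenth power of the spider element is central (generated data).
-/

set_option autoImplicit false
set_option maxRecDepth 100000
set_option linter.all false

namespace H99
namespace FiTwoTwo
namespace CentOne

open H93.Coset

/-- the diagram on b c d e f h i -/
def adjList : List (ℕ × ℕ) := [(0,1),(1,0),(1,2),(2,1),(2,3),(2,5),(3,2),(3,4),(4,3),(5,2),(5,6),(6,5)]
def adj (i j : ℕ) : Bool := adjList.contains (i, j)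
def word : List ℕ := [6,5,2,4,3,2,0,1,2,6,5,2,4,3,2,0,1,2,6,5,2,4,3,2,0,1,2,6,5,2,4,3,2,0,1,2,6,5,2,4,3,2,0,1,2,6,5,2,4,3,2,0,1,2,6,5,2,4,3,2,0,1,2,6,5,2,4,3,2,0,1,2,6,5,2,4,3,2,0,1,2,6,5,2,4,3,2,0,1,2]
def extras : List (List ℕ) := [[0,1,2,5,6,3,2,5,4,3,2,1,2,3,4,5,2,3,6,5,2,1,0,1,2,5,6,3,2,5,4,3,2,1,2,3,4,5,2,3,6,5,2,1,0,1,2,5,6,3,2,5,4,3,2,1,2,3,4,5,2,3,6,5,2,1]]
def words : List (List ℕ) := [[0,0],[1,1],[2,2],[3,3],[4,4],[5,5],[6,6],[0,1,0,1,0,1],[0,2,0,2],[0,3,0,3],[0,4,0,4],[0,5,0,5],[0,6,0,6],[1,2,1,2,1,2],[1,3,1,3],[1,4,1,4],[1,5,1,5],[1,6,1,6],[2,3,2,3,2,3],[2,4,2,4],[2,5,2,5,2,5],[2,6,2,6],[3,4,3,4,3,4],[3,5,3,5],[3,6,3,6],[4,5,4,5],[4,6,4,6],[5,6,5,6,5,6],[0,1,2,5,6,3,2,5,4,3,2,1,2,3,4,5,2,3,6,5,2,1,0,1,2,5,6,3,2,5,4,3,2,1,2,3,4,5,2,3,6,5,2,1,0,1,2,5,6,3,2,5,4,3,2,1,2,3,4,5,2,3,6,5,2,1],[0,1,0,1,0],[0,1,2,1,0]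,[0,1,3,1,0],[0,1,4,1,0],[0,1,5,1,0],[0,1,6,1,0],[1],[3],[4],[5],[6],[2,1,0,1,2],[2,1,2,1,2],[2,1,4,1,2],[2,1,6,1,2],[2,1,3,2,0,2,3,1,2],[2,1,3,2,1,2,3,1,2],[2,1,3,2,3,2,3,1,2],[2,1,3,2,5,2,3,1,2],[2,1,3,2,6,2,3,1,2],[2,1,3,2,4,3,0,3,4,2,3,1,2],[2,1,3,2,4,3,1,3,4,2,3,1,2],[2,1,3,2,4,3,2,3,4,2,3,1,2],[2,1,3,2,4,3,4,3,4,2,3,1,2],[2,1,3,2,4,3,5,3,4,2,3,1,2],[2,1,3,2,4,3,6,3,4,2,3,1,2],[2,1,5,2,0,2,5,1,2],[2,1,5,2,1,2,5,1,2],[2,1,5,2,3,2,5,1,2],[2,1,5,2,4,2,5,1,2],[2,1,5,2,5,2,5,1,2],[2,1,5,2,6,5,0,5,6,2,5,1,2],[2,1,5,2,6,5,1,5,6,2,5,1,2],[2,1,5,2,6,5,2,5,6,2,5,1,2],[2,1,5,2,6,5,3,5,6,2,5,1,2],[2,1,5,2,6,5,4,5,6,2,5,1,2],[2,1,5,2,6,5,6,5,6,2,5,1,2]]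
def data : Data := ⟨1, 7, fun _ _ => 0, fun _ _ => 0, fun _ _ => 0, fun _ => 0, words, 29, []⟩
def defs0 : List (ℕ × ℕ) := [(0,0),(1,1),(0,2),(3,1),(4,3),(5,2),(6,4),(7,3),(4,5),(9,2),(10,6),(11,5),(1,2),(3,3),(3,5),(13,3),(16,4),(17,5),(18,2),(19,3),(20,6),(21,5),(22,2),(23,1),(24,0),(25,1),(26,2),(27,5),(28,6),(29,3),(30,2),(31,5),(32,4),(33,3),(34,2),(35,1),(36,2),(37,3),(38,4),(39,5),(40,2),(41,3),(42,6),(43,5),(44,2),(45,1),(46,0),(47,1),(48,2),(49,5),(50,6),(51,3),(52,2),(53,5),(54,4),(55,3),(56,2),(57,1),(58,2),(59,3),(60,4),(61,5),(62,2),(63,3),(13,5),(65,6),(66,3),(67,2),(68,5),(69,4),(70,3),(71,2),(72,1),(73,2),(74,3),(75,4),(76,5),(77,2),(78,3),(79,6),(80,5),(81,2),(82,1),(83,0),(84,1),(85,2),(86,5),(87,6),(88,3),(89,2),(90,5),(91,4),(14,4),(14,5),(65,4),(95,3),(96,2),(97,1),(98,2),(99,3),(100,4),(101,5),(102,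2),(103,3),(104,6),(105,5),(106,2),(107,1),(108,0),(109,1),(110,2),(111,5),(112,6),(113,3),(114,2),(115,5),(116,4),(117,3),(118,2),(119,1),(120,2),(121,3),(122,4),(123,5),(124,2),(125,3),(126,6),(127,5),(128,2),(129,1),(130,0),(131,1),(132,2),(133,5),(134,6),(135,3),(136,2),(137,5),(138,4),(139,3),(140,2),(141,1),(142,2),(143,3),(144,4),(145,5),(146,2),(147,3),(5,4),(5,5),(94,2),(151,1),(149,5),(150,6),(94,6),(155,3),(156,2),(157,5),(158,4),(159,3),(160,2),(161,1),(162,2),(154,3),(153,6),(94,4),(166,3),(167,2),(168,1),(169,2),(16,5),(96,6),(172,3),(173,2),(174,5),(175,4),(176,3),(177,2),(178,1),(179,2),(180,3),(181,4),(182,5),(183,2),(184,3),(185,6),(186,5),(187,2),(188,1),(189,0),(190,1),(191,2),(192,5),(193,6),(194,3),(195,2),(196,5),(197,4),(198,3),(199,2),(200,1),(201,2),(202,3),(203,4),(204,5),(205,2),(206,3),(207,6)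,(208,5),(209,2),(210,1),(211,0),(212,1),(213,2),(214,5),(215,6),(216,3),(217,2),(218,5),(219,4),(220,3),(221,2),(96,4),(223,3),(224,2),(225,1),(226,2),(227,3),(228,4),(229,5),(230,2),(231,3),(232,6),(233,5),(234,2),(235,1),(236,0),(237,1),(238,2),(239,5),(240,6),(241,3),(242,2),(243,5),(244,4),(245,3),(246,2),(247,1),(248,2),(249,3),(250,4),(251,5),(252,2),(253,3),(254,6),(255,5),(256,2),(257,1),(258,0),(259,1),(260,2),(261,5),(262,6),(263,3),(264,2),(265,5),(266,4),(267,3),(268,2),(18,6),(151,6),(271,5),(272,2),(273,1),(274,0),(275,1),(276,2),(277,5),(278,6),(279,3),(280,2),(281,5),(282,4),(283,3),(284,2),(285,1),(286,2),(287,3),(288,4),(289,5),(290,2),(291,3),(292,6),(293,5),(294,2),(295,1),(296,0),(297,1),(298,2),(299,5),(300,6),(301,3),(302,2),(303,5),(304,4),(305,3),(306,2),(307,1),(308,2),(309,3),(310,4),(311,5),(3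12,2),(166,1),(166,6),(19,6),(314,2),(317,5),(318,6),(319,3),(320,2),(321,5),(322,4),(323,3),(324,2),(325,1),(326,2),(327,3),(328,4),(329,5),(330,2),(331,3),(332,6),(333,5),(334,2),(335,1),(336,0),(337,1),(338,2),(339,5),(340,6),(341,3),(342,2),(343,5),(344,4),(345,3),(346,2),(347,1),(348,2),(349,3),(350,4),(351,5),(352,2),(353,3),(354,6),(355,5),(356,2),(357,1),(358,0),(359,1),(360,2),(361,5),(362,6),(363,3),(364,2),(365,5),(366,4),(367,3),(368,2),(369,1),(370,2),(371,3),(372,4),(373,5),(374,2),(169,0),(376,1),(168,3),(168,4),(168,6),(226,6),(20,4),(382,3),(383,4),(97,6),(170,5),(386,6),(387,3),(388,2),(389,5),(390,4),(391,3),(392,2),(393,1),(394,2),(395,3),(396,4),(397,5),(398,2),(399,3)]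
def defs400 : List (ℕ × ℕ) := [(400,6),(401,5),(402,2),(403,1),(404,0),(405,1),(406,2),(407,5),(408,6),(409,3),(410,2),(411,5),(412,4),(413,3),(414,2),(415,1),(416,2),(417,3),(418,4),(419,5),(420,2),(421,3),(422,6),(423,5),(424,2),(425,1),(426,0),(427,1),(428,2),(429,5),(430,6),(431,3),(432,2),(433,5),(434,4),(435,3),(436,2),(437,1),(438,2),(439,3),(440,4),(441,5),(442,2),(378,1),(444,0),(445,1),(378,4),(378,6),(228,2),(228,6),(382,6),(444,2),(452,5),(453,6),(454,3),(455,2),(456,5),(457,4),(458,3),(459,2),(460,1),(461,2),(462,3),(463,4),(464,5),(465,2),(466,3),(467,6),(468,5),(469,2),(470,1),(471,0),(472,1),(473,2),(474,5),(475,6),(476,3),(477,2),(478,5),(479,4),(480,3),(481,2),(482,1),(483,2),(484,3),(485,4),(486,5),(487,2),(488,3),(489,6),(490,5),(491,2),(492,1),(493,0),(494,1),(495,2),(496,5),(497,6),(498,3),(499,2),(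500,5),(501,4),(502,3),(503,2),(504,1),(505,2),(506,3),(507,4),(508,5),(509,2),(510,3),(511,6),(448,5),(443,4),(443,5),(513,1),(516,0),(517,1),(513,2),(515,2),(520,1),(515,3),(515,4),(23,3),(524,2),(525,3),(23,4),(516,2),(528,5),(529,6),(530,3),(531,2),(532,5),(533,4),(534,3),(535,2),(536,1),(537,2),(538,3),(539,4),(540,5),(541,2),(542,3),(543,6),(544,5),(545,2),(546,1),(547,0),(548,1),(549,2),(550,5),(551,6),(552,3),(553,2),(554,5),(555,4),(556,3),(557,2),(558,1),(559,2),(560,3),(561,4),(562,5),(563,2),(564,3),(565,6),(566,5),(567,2),(568,1),(569,0),(570,1),(571,2),(572,5),(573,6),(574,3),(575,2),(576,5),(577,4),(578,3),(579,2),(580,1),(581,2),(582,3),(583,4),(584,5),(585,2),(586,3),(587,6),(519,1),(24,3),(24,4),(589,2),(592,5),(593,6),(594,3),(595,2),(596,5),(597,4),(598,3),(599,2),(600,1),(601,2),(25,2),(25,3),(25,4),(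521,3),(606,2),(607,3),(521,4),(27,1),(610,2),(26,3),(26,4),(603,3),(614,2),(615,3),(603,5),(27,3),(617,6),(619,3),(620,2),(621,5),(610,5),(618,5),(623,6),(624,2),(625,3),(627,2),(628,1),(629,2),(31,4),(630,4),(630,5),(630,6),(631,3),(631,6),(633,4),(637,3),(599,1),(638,2),(638,5),(639,2),(642,5),(643,6),(644,3),(645,2),(646,5),(647,4),(648,3),(649,2),(650,1),(651,2),(652,3),(653,4),(654,5),(655,2),(656,3),(657,6),(658,5),(659,2),(660,1),(661,0),(662,1),(663,2),(664,5),(665,6),(666,3),(667,2),(668,5),(669,4),(670,3),(671,2),(672,1),(673,2),(674,3),(675,4),(676,5),(677,2),(678,3),(679,6),(680,5),(681,2),(682,1),(683,0),(684,1),(685,2),(686,5),(687,6),(688,3),(689,2),(690,5),(691,4),(692,3),(693,2),(694,1),(695,2),(696,3),(697,4),(698,5),(699,2),(700,3),(701,6),(601,0),(703,1),(602,5),(705,6),(706,3),(707,2),(708,5),(709,4)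,(710,3),(711,2),(712,1),(713,2),(714,3),(715,4),(716,5),(717,2),(718,3),(719,6),(720,5),(721,2),(722,1),(723,0),(724,1),(725,2),(726,5),(727,6),(728,3),(729,2),(730,5),(731,4),(732,3),(733,2),(734,1),(735,2),(736,3),(737,4),(738,5),(739,2),(740,3),(741,6),(742,5),(743,2),(744,1),(745,0),(746,1),(747,2),(748,5),(749,6),(750,3),(751,2),(752,5),(753,4),(754,3),(755,2),(756,1),(757,2),(758,3),(759,4),(760,5),(761,2),(762,3),(763,6),(704,2),(37,6),(765,1),(765,3),(640,3),(38,5),(38,6),(767,2),(772,5),(773,6),(774,3),(775,2),(776,5),(777,4),(778,3),(779,2),(780,1),(781,2),(782,3),(783,4),(784,5),(785,2),(786,3),(787,6),(788,5),(789,2),(790,1),(791,0),(792,1),(793,2),(794,5),(795,6),(796,3),(797,2),(798,5),(799,4)]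
def defs800 : List (ℕ × ℕ) := [(800,3),(801,2),(802,1),(803,2),(804,3),(805,4),(806,5),(807,2),(808,3),(809,6),(810,5),(811,2),(812,1),(813,0),(814,1),(815,2),(816,5),(817,6),(818,3),(819,2),(820,5),(821,4),(822,3),(823,2),(824,1),(825,2),(826,3),(827,4),(828,5),(829,2),(830,3),(768,1),(768,4),(768,5),(769,2),(769,4),(769,5),(770,2),(39,6),(770,6),(832,2),(841,5),(842,6),(843,3),(844,2),(845,5),(846,4),(847,3),(848,2),(849,1),(850,2),(851,3),(852,4),(853,5),(854,2),(855,3),(856,6),(857,5),(858,2),(859,1),(860,0),(861,1),(862,2),(863,5),(864,6),(865,3),(866,2),(867,5),(868,4),(869,3),(870,2),(871,1),(872,2),(873,3),(874,4),(875,5),(876,2),(877,3),(878,6),(879,5),(880,2),(881,1),(882,0),(883,1),(884,2),(885,5),(886,6),(887,3),(888,2),(889,5),(890,4),(891,3),(892,2),(893,1),(894,2),(895,3),(896,4),(897,5),(898,2),(899,3),(9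00,6),(833,1),(902,0),(903,1),(833,5),(833,6),(836,2),(836,5),(40,6),(909,5),(910,6),(902,2),(912,5),(913,6),(914,3),(915,2),(916,5),(917,4),(918,3),(919,2),(920,1),(921,2),(922,3),(923,4),(924,5),(925,2),(926,3),(927,6),(928,5),(929,2),(930,1),(931,0),(932,1),(933,2),(934,5),(935,6),(936,3),(937,2),(938,5),(939,4),(940,3),(941,2),(942,1),(943,2),(944,3),(945,4),(946,5),(947,2),(948,3),(949,6),(950,5),(951,2),(952,1),(953,0),(954,1),(955,2),(956,5),(957,6),(958,3),(959,2),(960,5),(961,4),(962,3),(963,2),(964,1),(965,2),(966,3),(967,4),(968,5),(969,2),(970,3),(971,6),(905,1),(973,0),(974,1),(905,2),(905,6),(908,2),(978,1),(979,2),(908,6),(41,6),(973,2),(983,5),(984,6),(985,3),(986,2),(987,5),(988,4),(989,3),(990,2),(991,1),(992,2),(993,3),(994,4),(995,5),(996,2),(997,3),(998,6),(999,5),(1000,2),(1001,1),(1002,0),(1003,1),(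1004,2),(1005,5),(1006,6),(1007,3),(1008,2),(1009,5),(1010,4),(1011,3),(1012,2),(1013,1),(1014,2),(1015,3),(1016,4),(1017,5),(1018,2),(1019,3),(1020,6),(1021,5),(1022,2),(1023,1),(1024,0),(1025,1),(1026,2),(1027,5),(1028,6),(1029,3),(1030,2),(1031,5),(1032,4),(1033,3),(1034,2),(1035,1),(1036,2),(1037,3),(1038,4),(1039,5),(1040,2),(1041,3),(1042,6),(976,1),(1044,0),(1045,1),(976,3),(976,4),(976,6),(980,3),(980,4),(980,6),(42,4),(1053,3),(1054,4),(838,6),(982,5),(1044,2),(1058,5),(1059,6),(1060,3),(1061,2),(1062,5),(1063,4),(1064,3),(1065,2),(1066,1),(1067,2),(1068,3),(1047,1),(1070,0),(1071,1),(1047,4),(1047,6),(1050,2),(1050,4),(1050,6),(1053,6),(1070,2),(1079,5),(1080,6),(1081,3),(1082,2),(1083,5),(1084,4),(1085,3),(1086,2),(1087,1),(1088,2),(1089,3),(1090,4),(1091,5),(1092,2),(1093,3),(1094,6),(1095,5),(1096,2),(1097,1)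,(1098,0),(1099,1),(1100,2),(1101,5),(1102,6),(1103,3),(1104,2),(1105,5),(1106,4),(1107,3),(1108,2),(1109,1),(1110,2),(1111,3),(1112,4),(1113,5),(1114,2),(1115,3),(1116,6),(1117,5),(1118,2),(1119,1),(1120,0),(1121,1),(1122,2),(1123,5),(1124,6),(1125,3),(1126,2),(1127,5),(1128,4),(1129,3),(1130,2),(1131,1),(1132,2),(1133,3),(1134,4),(1135,5),(1136,2),(1137,3),(1138,6),(1074,1),(1140,0),(1141,1),(1074,4),(1074,5),(1077,2),(1077,5),(1078,5),(1140,2),(1148,5),(1149,6),(1150,3),(1151,2),(1152,5),(1153,4),(1154,3),(1155,2),(1156,1),(1157,2),(1158,3),(1159,4),(1160,5),(1161,2),(1162,3),(1144,1),(1144,2),(1146,2),(1166,1),(1146,3),(1146,4),(1057,4),(1170,3),(1171,4),(1164,2),(1173,5),(1174,6),(1175,3),(1176,2),(1177,5),(1178,4),(1179,3),(1180,2),(1181,1),(1182,2),(1183,3),(1184,4),(1185,5),(1186,2),(1187,3),(1188,6),(1189,5),(1190,2),(1191,1),(1192,0),(1193,1),(1194,2),(1195,5),(1196,6),(1197,3),(1198,2),(1199,5)]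
def defs1200 : List (ℕ × ℕ) := [(1200,4),(1201,3),(1202,2),(1203,1),(1204,2),(1205,3),(1206,4),(1207,5),(1208,2),(1209,3),(1210,6),(1211,5),(1212,2),(1213,1),(1214,0),(1215,1),(1216,2),(1217,5),(1218,6),(1219,3),(1220,2),(1221,5),(1222,4),(1223,3),(1224,2),(1225,1),(1226,2),(1227,3),(1228,4),(1229,5),(1230,2),(1231,3),(1232,6),(1165,1),(1234,2),(1235,5),(1236,6),(1237,3),(1238,2),(1239,5),(1240,4),(1241,3),(1242,2),(1243,1),(1244,2),(1245,3),(1246,4),(47,2),(47,3),(47,4),(49,1),(1251,2),(48,3),(48,4),(49,3),(49,4),(1251,5),(1255,5),(1256,5),(1257,6),(1258,2),(1259,6),(1260,3),(52,4),(1263,2),(1265,1),(1266,2),(53,4),(1239,1),(1267,5),(54,6),(1269,2),(1272,5),(1273,6),(1274,3),(1275,2),(1276,5),(1277,4),(1278,3),(1279,2),(1280,1),(1281,2),(1282,3),(1283,4),(1284,5),(1285,2),(1286,3),(1287,6),(1288,5),(1289,2),(1290,1),(12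91,0),(1292,1),(1293,2),(1294,5),(1295,6),(1296,3),(1297,2),(1298,5),(1299,4),(1300,3),(1301,2),(1302,1),(1303,2),(1304,3),(1305,4),(1306,5),(1307,2),(1308,3),(1309,6),(1310,5),(1311,2),(1312,1),(1313,0),(1314,1),(1315,2),(1316,5),(1317,6),(1318,3),(1319,2),(1320,5),(1321,4),(1322,3),(1323,2),(1324,1),(1325,2),(1326,3),(1327,4),(1328,5),(1329,2),(1330,3),(1331,6),(1270,4),(55,6),(1333,3),(56,6),(1242,1),(1335,2),(57,6),(1337,2),(1340,5),(1341,6),(1342,3),(1343,2),(1344,5),(1345,4),(1346,3),(1347,2),(1348,1),(1349,2),(1350,3),(1351,4),(1352,5),(1353,2),(1354,3),(1355,6),(1356,5),(1357,2),(1358,1),(1359,0),(1360,1),(1361,2),(1362,5),(1363,6),(1364,3),(1365,2),(1366,5),(1367,4),(1368,3),(1369,2),(1370,1),(1371,2),(1372,3),(1373,4),(1374,5),(1375,2),(1376,3),(1377,6),(1378,5),(1379,2),(1380,1),(1381,0),(1382,1),(1383,2),(1384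,5),(1385,6),(1386,3),(1387,2),(1388,5),(1389,4),(1390,3),(1391,2),(1392,1),(1393,2),(1394,3),(1395,4),(1396,5),(1397,2),(1398,3),(1399,6),(1244,0),(1401,1),(58,5),(58,6),(1245,5),(1405,6),(1406,3),(1407,2),(1408,5),(1409,4),(1410,3),(1411,2),(1412,1),(1413,2),(1414,3),(1415,4),(1416,5),(1417,2),(1418,3),(1419,6),(1420,5),(1421,2),(1422,1),(1423,0),(1424,1),(1425,2),(1426,5),(1427,6),(1428,3),(1429,2),(1430,5),(1431,4),(1432,3),(1433,2),(1434,1),(1435,2),(1436,3),(1437,4),(1438,5),(1439,2),(1440,3),(1441,6),(1442,5),(1443,2),(1444,1),(1445,0),(1446,1),(1447,2),(1448,5),(1449,6),(1450,3),(1451,2),(1452,5),(1453,4),(1454,3),(1455,2),(1456,1),(1457,2),(1458,3),(1459,4),(1460,5),(1461,2),(1462,3),(1463,6),(1402,2),(1464,2),(1466,5),(59,6),(1465,1),(1469,0),(1470,1),(1465,3),(1465,5),(1338,3),(60,5),(60,6),(1463,5),(1477,6),(1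472,1),(1479,0),(1480,1),(1472,4),(1472,5),(1472,6),(1474,2),(1474,4),(1474,5),(1475,2),(61,6),(1475,6),(1479,2),(1491,5),(1492,6),(1493,3),(1494,2),(1495,5),(1496,4),(1497,3),(1498,2),(1499,1),(1500,2),(1501,3),(1502,4),(1503,5),(1504,2),(1505,3),(1506,6),(1507,5),(1508,2),(1509,1),(1510,0),(1511,1),(1512,2),(1513,5),(1514,6),(1515,3),(1516,2),(1517,5),(1518,4),(1519,3),(1520,2),(1521,1),(1522,2),(1523,3),(1524,4),(1525,5),(1526,2),(1527,3),(1528,6),(1529,5),(1530,2),(1531,1),(1532,0),(1533,1),(1534,2),(1535,5),(1536,6),(1537,3),(1538,2),(1539,5),(1540,4),(1541,3),(1542,2),(1543,1),(1544,2),(1545,3),(1546,4),(1547,5),(1548,2),(1549,3),(1550,6),(1482,1),(1552,0),(1553,1),(1482,5),(1482,6),(62,6),(1557,5),(1558,6),(1555,1),(1560,0),(1561,1),(1555,2),(1555,6),(163,1),(1565,2),(162,6),(1560,2),(1568,5),(1569,6),(1570,3),(1571,2),(1572,5),(1573,4),(1563,1),(1575,0),(1576,1),(67,4),(1575,2),(1579,5),(1580,6),(1581,3),(1582,2),(1583,5),(1584,4),(1585,3),(1586,2),(1587,1),(1588,2),(1589,3),(1590,4),(1591,5),(1592,2),(1593,3),(1594,6),(1595,5),(1596,2),(1597,1),(1598,0),(1599,1)]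
def defs1600 : List (ℕ × ℕ) := [(1600,2),(1601,5),(1602,6),(1603,3),(1604,2),(1605,5),(1606,4),(1607,3),(1608,2),(1609,1),(1610,2),(1611,3),(1612,4),(1613,5),(1614,2),(1615,3),(1616,6),(1617,5),(449,3),(1619,4),(1620,5),(1621,2),(1622,3),(1623,6),(1624,5),(1625,2),(1626,1),(1627,0),(1628,1),(1629,2),(1630,5),(1631,6),(1632,3),(1633,2),(1634,5),(1635,4),(1636,3),(1637,2),(1638,1),(1639,2),(1640,3),(1641,4),(1642,5),(1643,2),(1644,3),(1645,6),(1646,5),(1647,2),(1648,1),(1649,0),(1650,1),(182,2),(1652,3),(1653,4),(1654,5),(1655,2),(1656,3),(1657,6),(1658,5),(1659,2),(144,5),(1661,2),(1662,1),(1663,0),(1664,1),(1665,2),(1666,5),(1667,6),(1668,3),(1669,2),(1670,5),(1671,4),(1672,3),(1673,2),(1674,1),(1675,2),(1676,3),(1677,4),(1678,5),(1679,2),(1680,3),(1681,6),(487,4),(1092,4),(281,1)]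
def defs : List (ℕ × ℕ) := defs0 ++ defs400 ++ defs800 ++ defs1200 ++ defs1600
def facts0 : List Fact := [(0,0,1,0,[],[]),(1,1,2,0,[],[]),(2,0,2,31,[(1,0,0),(1,0,1)],[(1,0,0),(1,0,1)]),(2,2,2,32,[(1,0,0),(1,0,1)],[(1,0,0),(1,0,1)]),(2,3,2,33,[(1,0,0),(1,0,1)],[(1,0,0),(1,0,1)]),(2,4,2,34,[(1,0,0),(1,0,1)],[(1,0,0),(1,0,1)]),(2,5,2,35,[(1,0,0),(1,0,1)],[(1,0,0),(1,0,1)]),(2,6,2,36,[(1,0,0),(1,0,1)],[(1,0,0),(1,0,1)]),(0,1,0,37,[],[]),(0,3,0,38,[],[]),(0,4,0,39,[],[]),(0,5,0,40,[],[]),(0,6,0,41,[],[]),(0,2,3,0,[],[]),(3,1,4,0,[],[]),(4,0,4,42,[(1,0,13),(1,0,14)],[(1,0,13),(1,0,14)]),(4,2,4,43,[(1,0,13),(1,0,14)],[(1,0,13),(1,0,14)]),(4,4,4,44,[(1,0,13),(1,0,14)],[(1,0,13),(1,0,14)]),(4,6,4,45,[(1,0,13),(1,0,14)],[(1,0,13),(1,0,14)]),(4,3,5,0,[],[]),(5,2,6,0,[],[]),(6,0,6,46,[(1,0,13),(1,0,14),(1,0,19),(1,0,20)],[(1,0,13),(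1,0,14),(1,0,19),(1,0,20)]),(6,1,6,47,[(1,0,13),(1,0,14),(1,0,19),(1,0,20)],[(1,0,13),(1,0,14),(1,0,19),(1,0,20)]),(6,3,6,48,[(1,0,13),(1,0,14),(1,0,19),(1,0,20)],[(1,0,13),(1,0,14),(1,0,19),(1,0,20)]),(6,5,6,49,[(1,0,13),(1,0,14),(1,0,19),(1,0,20)],[(1,0,13),(1,0,14),(1,0,19),(1,0,20)]),(6,6,6,50,[(1,0,13),(1,0,14),(1,0,19),(1,0,20)],[(1,0,13),(1,0,14),(1,0,19),(1,0,20)]),(6,4,7,0,[],[]),(7,3,8,0,[],[]),(8,0,8,51,[(1,0,13),(1,0,14),(1,0,19),(1,0,20),(1,0,26),(1,0,27)],[(1,0,13),(1,0,14),(1,0,19),(1,0,20),(1,0,26),(1,0,27)]),(8,1,8,52,[(1,0,13),(1,0,14),(1,0,19),(1,0,20),(1,0,26),(1,0,27)],[(1,0,13),(1,0,14),(1,0,19),(1,0,20),(1,0,26),(1,0,27)]),(8,2,8,53,[(1,0,13),(1,0,14),(1,0,19),(1,0,20),(1,0,26),(1,0,27)],[(1,0,13),(1,0,14),(1,0,19),(1,0,20),(1,0,26),(1,0,27)]),(8,4,8,54,[(1,0,13),(1,0,14),(1,0,19),(1,0,20),(1,0,26),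(1,0,27)],[(1,0,13),(1,0,14),(1,0,19),(1,0,20),(1,0,26),(1,0,27)]),(8,5,8,55,[(1,0,13),(1,0,14),(1,0,19),(1,0,20),(1,0,26),(1,0,27)],[(1,0,13),(1,0,14),(1,0,19),(1,0,20),(1,0,26),(1,0,27)]),(8,6,8,56,[(1,0,13),(1,0,14),(1,0,19),(1,0,20),(1,0,26),(1,0,27)],[(1,0,13),(1,0,14),(1,0,19),(1,0,20),(1,0,26),(1,0,27)]),(4,5,9,0,[],[]),(9,2,10,0,[],[]),(10,0,10,57,[(1,0,13),(1,0,14),(1,0,34),(1,0,35)],[(1,0,13),(1,0,14),(1,0,34),(1,0,35)]),(10,1,10,58,[(1,0,13),(1,0,14),(1,0,34),(1,0,35)],[(1,0,13),(1,0,14),(1,0,34),(1,0,35)]),(10,3,10,59,[(1,0,13),(1,0,14),(1,0,34),(1,0,35)],[(1,0,13),(1,0,14),(1,0,34),(1,0,35)]),(10,4,10,60,[(1,0,13),(1,0,14),(1,0,34),(1,0,35)],[(1,0,13),(1,0,14),(1,0,34),(1,0,35)]),(10,5,10,61,[(1,0,13),(1,0,14),(1,0,34),(1,0,35)],[(1,0,13),(1,0,14),(1,0,34),(1,0,35)]),(10,6,11,0,[],[]),(11,5,12,0,[],[]),(12,0,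12,62,[(1,0,13),(1,0,14),(1,0,34),(1,0,35),(1,0,41),(1,0,42)],[(1,0,13),(1,0,14),(1,0,34),(1,0,35),(1,0,41),(1,0,42)]),(12,1,12,63,[(1,0,13),(1,0,14),(1,0,34),(1,0,35),(1,0,41),(1,0,42)],[(1,0,13),(1,0,14),(1,0,34),(1,0,35),(1,0,41),(1,0,42)]),(12,2,12,64,[(1,0,13),(1,0,14),(1,0,34),(1,0,35),(1,0,41),(1,0,42)],[(1,0,13),(1,0,14),(1,0,34),(1,0,35),(1,0,41),(1,0,42)]),(12,3,12,65,[(1,0,13),(1,0,14),(1,0,34),(1,0,35),(1,0,41),(1,0,42)],[(1,0,13),(1,0,14),(1,0,34),(1,0,35),(1,0,41),(1,0,42)]),(12,4,12,66,[(1,0,13),(1,0,14),(1,0,34),(1,0,35),(1,0,41),(1,0,42)],[(1,0,13),(1,0,14),(1,0,34),(1,0,35),(1,0,41),(1,0,42)]),(12,6,12,67,[(1,0,13),(1,0,14),(1,0,34),(1,0,35),(1,0,41),(1,0,42)],[(1,0,13),(1,0,14),(1,0,34),(1,0,35),(1,0,41),(1,0,42)]),(1,2,13,0,[],[]),(13,0,3,10,[(1,0,0),(1,0,49)],[(1,0,13)]),(1,3,1,11,[(1,0,0)],[(1,0,9),(1,0,0)]),(1,4,1,12,[(1,0,0)],[(1,0,10),(1,0,0)]),(1,5,1,13,[(1,0,0)],[(1,0,11),(1,0,0)]),(1,6,1,14,[(1,0,0)],[(1,0,12),(1,0,0)]),(3,3,14,0,[],[]),(14,2,14,20,[(1,0,13),(1,0,55)],[(1,0,9),(1,0,13),(1,0,55)]),(3,4,3,21,[(1,0,13)],[(1,0,10),(1,0,13)]),(3,5,15,0,[],[]),(15,2,15,22,[(1,0,13),(1,0,58)],[(1,0,11),(1,0,13),(1,0,58)])]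
def facts60 : List Fact := [(3,6,3,23,[(1,0,13)],[(1,0,12),(1,0,13)]),(13,3,16,0,[],[]),(16,4,17,0,[],[]),(17,5,18,0,[],[]),(18,2,19,0,[],[]),(19,3,20,0,[],[]),(20,6,21,0,[],[]),(21,5,22,0,[],[]),(22,2,23,0,[],[]),(23,1,24,0,[],[]),(24,0,25,0,[],[]),(25,1,26,0,[],[]),(26,2,27,0,[],[]),(27,5,28,0,[],[]),(28,6,29,0,[],[]),(29,3,30,0,[],[]),(30,2,31,0,[],[]),(31,5,32,0,[],[]),(32,4,33,0,[],[]),(33,3,34,0,[],[]),(34,2,35,0,[],[]),(35,1,36,0,[],[]),(36,2,37,0,[],[]),(37,3,38,0,[],[]),(38,4,39,0,[],[]),(39,5,40,0,[],[]),(40,2,41,0,[],[]),(41,3,42,0,[],[]),(42,6,43,0,[],[]),(43,5,44,0,[],[]),(44,2,45,0,[],[]),(45,1,46,0,[],[]),(46,0,47,0,[],[]),(47,1,48,0,[],[]),(48,2,49,0,[],[]),(49,5,50,0,[],[]),(50,6,51,0,[],[]),(51,3,52,0,[],[]),(52,2,53,0,[],[]),(53,5,54,0,[],[]),(54,4,55,0,[],[]),(55,3,56,0,[],[]),(56,2,57,0,[],[]),(57,1,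58,0,[],[]),(58,2,59,0,[],[]),(59,3,60,0,[],[]),(60,4,61,0,[],[]),(61,5,62,0,[],[]),(62,2,63,0,[],[]),(63,3,64,0,[],[]),(64,6,15,30,[(1,0,0),(1,0,1),(1,0,3),(1,0,6),(1,0,7),(1,0,4),(1,0,3),(1,0,6),(1,0,5),(1,0,4),(1,0,3),(2,0,1),(1,0,49),(1,0,61),(1,0,62),(1,0,63),(1,0,64),(1,0,65),(1,0,66),(1,0,67),(1,0,68),(1,0,69),(1,0,70),(1,0,71),(1,0,72),(1,0,73),(1,0,74),(1,0,75),(1,0,76),(1,0,77),(1,0,78),(1,0,79),(1,0,80),(1,0,81),(1,0,82),(1,0,83),(1,0,84),(1,0,85),(1,0,86),(1,0,87),(1,0,88),(1,0,89),(1,0,90),(1,0,91),(1,0,92),(1,0,93),(1,0,94),(1,0,95),(1,0,96),(1,0,97),(1,0,98),(1,0,99),(1,0,100),(1,0,101),(1,0,102),(1,0,103),(1,0,104),(1,0,105),(1,0,106),(1,0,107),(1,0,108),(1,0,109)],[(1,0,8),(1,0,13),(1,0,58)]),(13,1,13,15,[(1,0,1),(1,0,3),(2,0,1),(1,0,49)],[(1,0,49)]),(16,2,16,20,[(1,0,49),(1,0,61)],[(1,0,51),(1,0,49),(1,0,61)]),(13,4,13,21,[(1,0,49)],[(1,0,52),(1,0,49)]),(13,5,65,0,[],[]),(65,2,65,22,[(1,0,49),(1,0,114)],[(1,0,53),(1,0,49),(1,0,114)]),(13,6,13,23,[(1,0,49)],[(1,0,54),(1,0,49)]),(65,6,66,0,[],[]),(66,3,67,0,[],[]),(67,2,68,0,[],[])]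
def facts120 : List Fact := [(68,5,69,0,[],[]),(69,4,70,0,[],[]),(70,3,71,0,[],[]),(71,2,72,0,[],[]),(72,1,73,0,[],[]),(73,2,74,0,[],[]),(74,3,75,0,[],[]),(75,4,76,0,[],[]),(76,5,77,0,[],[]),(77,2,78,0,[],[]),(78,3,79,0,[],[]),(79,6,80,0,[],[]),(80,5,81,0,[],[]),(81,2,82,0,[],[]),(82,1,83,0,[],[]),(83,0,84,0,[],[]),(84,1,85,0,[],[]),(85,2,86,0,[],[]),(86,5,87,0,[],[]),(87,6,88,0,[],[]),(88,3,89,0,[],[]),(89,2,90,0,[],[]),(90,5,91,0,[],[]),(91,4,92,0,[],[]),(16,0,14,11,[(2,0,50),(1,0,61)],[(1,0,55)]),(65,0,15,13,[(2,0,50),(1,0,114)],[(1,0,58)]),(5,1,14,16,[(1,0,14),(1,0,19)],[(1,0,55)]),(9,1,15,18,[(1,0,14),(1,0,34)],[(1,0,58)]),(14,4,93,0,[],[]),(93,3,93,24,[(1,0,55),(1,0,148)],[(1,0,57),(1,0,55),(1,0,148)]),(14,5,94,0,[],[]),(94,3,15,25,[(1,0,55),(1,0,150)],[(1,0,58)]),(14,6,14,26,[(1,0,55)],[(1,0,60),(1,0,55)]),(15,4,1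5,27,[(1,0,57),(1,0,58)],[(1,0,58)]),(64,5,64,29,[(1,0,58),(2,0,110)],[(1,0,60),(1,0,58),(2,0,110)]),(65,4,95,0,[],[]),(95,3,96,0,[],[]),(96,2,97,0,[],[]),(97,1,98,0,[],[]),(98,2,99,0,[],[]),(99,3,100,0,[],[]),(100,4,101,0,[],[]),(101,5,102,0,[],[]),(102,2,103,0,[],[]),(103,3,104,0,[],[]),(104,6,105,0,[],[]),(105,5,106,0,[],[]),(106,2,107,0,[],[]),(107,1,108,0,[],[]),(108,0,109,0,[],[]),(109,1,110,0,[],[]),(110,2,111,0,[],[]),(111,5,112,0,[],[]),(112,6,113,0,[],[]),(113,3,114,0,[],[]),(114,2,115,0,[],[]),(115,5,116,0,[],[]),(116,4,117,0,[],[]),(117,3,118,0,[],[]),(118,2,119,0,[],[])]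
def facts180 : List Fact := [(119,1,120,0,[],[]),(120,2,121,0,[],[]),(121,3,122,0,[],[]),(122,4,123,0,[],[]),(123,5,124,0,[],[]),(124,2,125,0,[],[]),(125,3,126,0,[],[]),(126,6,127,0,[],[]),(127,5,128,0,[],[]),(128,2,129,0,[],[]),(129,1,130,0,[],[]),(130,0,131,0,[],[]),(131,1,132,0,[],[]),(132,2,133,0,[],[]),(133,5,134,0,[],[]),(134,6,135,0,[],[]),(135,3,136,0,[],[]),(136,2,137,0,[],[]),(137,5,138,0,[],[]),(138,4,139,0,[],[]),(139,3,140,0,[],[]),(140,2,141,0,[],[]),(141,1,142,0,[],[]),(142,2,143,0,[],[]),(143,3,144,0,[],[]),(144,4,145,0,[],[]),(145,5,146,0,[],[]),(146,2,147,0,[],[]),(147,3,148,0,[],[]),(148,6,9,30,[(2,0,50),(1,0,111),(2,0,49),(1,0,53),(1,0,54),(1,0,51),(1,0,49),(1,0,114),(1,0,155),(1,0,156),(1,0,157),(1,0,158),(1,0,159),(1,0,160),(1,0,161),(1,0,162),(1,0,163),(1,0,164),(1,0,165),(1,0,166),(1,0,167),(1,0,1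68),(1,0,169),(1,0,170),(1,0,171),(1,0,172),(1,0,173),(1,0,174),(1,0,175),(1,0,176),(1,0,177),(1,0,178),(1,0,179),(1,0,180),(1,0,181),(1,0,182),(1,0,183),(1,0,184),(1,0,185),(1,0,186),(1,0,187),(1,0,188),(1,0,189),(1,0,190),(1,0,191),(1,0,192),(1,0,193),(1,0,194),(1,0,195),(1,0,196),(1,0,197),(1,0,198),(1,0,199),(1,0,200),(1,0,201),(1,0,202),(1,0,203),(1,0,204),(1,0,205),(1,0,206),(1,0,207),(1,0,208)],[(1,0,14),(1,0,16),(1,0,34)]),(5,0,5,11,[(1,0,15),(1,0,19)],[(1,0,19)]),(9,0,9,13,[(1,0,15),(1,0,34)],[(1,0,34)]),(5,4,149,0,[],[]),(149,3,149,24,[(1,0,19),(1,0,212)],[(1,0,17),(1,0,19),(1,0,212)]),(5,5,150,0,[],[]),(150,3,9,25,[(1,0,19),(1,0,214)],[(1,0,34)]),(5,6,5,26,[(1,0,19)],[(1,0,18),(1,0,19)]),(9,4,9,27,[(1,0,17),(1,0,34)],[(1,0,34)]),(148,5,148,29,[(1,0,34),(2,0,209)],[(1,0,18),(1,0,34),(2,0,209)]),(94,2,151,0,[],[]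),(151,1,152,0,[],[]),(16,1,16,9,[(1,0,210),(1,0,146),(2,0,144)],[(1,0,146),(2,0,144)]),(149,0,149,12,[(1,0,210),(1,0,212)],[(1,0,212)]),(93,1,149,17,[(1,0,146),(1,0,148)],[(1,0,212)]),(94,1,150,18,[(1,0,146),(1,0,150)],[(1,0,214)]),(7,2,149,21,[(1,0,20),(1,0,26)],[(1,0,212)]),(149,5,153,0,[],[]),(153,4,150,27,[(1,0,212),(1,0,226)],[(1,0,214)]),(149,6,149,28,[(1,0,212)],[(1,0,216),(1,0,212)]),(150,6,154,0,[],[]),(154,5,154,29,[(1,0,214),(1,0,229)],[(1,0,216),(1,0,214),(1,0,229)]),(94,6,155,0,[],[]),(155,3,156,0,[],[]),(156,2,157,0,[],[]),(157,5,158,0,[],[]),(158,4,159,0,[],[]),(159,3,160,0,[],[]),(160,2,161,0,[],[]),(161,1,162,0,[],[]),(162,2,163,0,[],[])]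
def facts240 : List Fact := [(7,0,7,12,[(1,0,21),(1,0,26)],[(1,0,26)]),(7,1,7,17,[(1,0,22),(1,0,26)],[(1,0,26)]),(7,5,7,27,[(1,0,26)],[(1,0,24),(1,0,26)]),(7,6,7,28,[(1,0,26)],[(1,0,25),(1,0,26)]),(154,3,164,0,[],[]),(93,2,93,15,[(1,0,241),(1,0,225),(2,0,223)],[(1,0,225),(2,0,223)]),(153,2,153,22,[(1,0,225),(1,0,226)],[(1,0,242),(1,0,225),(1,0,226)]),(153,6,165,0,[],[]),(65,1,65,9,[(1,0,211),(1,0,147),(2,0,145)],[(1,0,147),(2,0,145)]),(148,0,148,14,[(1,0,211),(2,0,209)],[(2,0,209)]),(64,1,148,19,[(1,0,147),(2,0,110)],[(2,0,209)]),(11,2,148,23,[(1,0,35),(1,0,41)],[(2,0,209)]),(153,3,153,24,[(2,0,215),(2,0,227)],[(1,0,217),(2,0,215),(2,0,227)]),(164,7,148,26,[(2,0,215),(1,0,229),(1,0,244)],[(2,0,209)]),(147,7,154,1,[(1,0,208),(2,0,253),(2,0,244)],[]),(148,4,148,28,[(1,0,217),(2,0,209)],[(2,0,209)]),(94,4,166,0,[],[]),(166,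3,167,0,[],[]),(167,2,168,0,[],[]),(168,1,169,0,[],[]),(169,2,170,0,[],[]),(11,1,11,19,[(1,0,37),(1,0,41)],[(1,0,41)]),(11,3,11,26,[(1,0,38),(1,0,41)],[(1,0,41)]),(11,4,11,28,[(1,0,39),(1,0,41)],[(1,0,41)]),(64,2,64,15,[(1,0,261),(1,0,251),(2,0,250)],[(1,0,251),(2,0,250)]),(146,7,147,20,[(1,0,251),(2,0,208),(2,0,207)],[(1,0,262),(1,0,251),(2,0,208)]),(145,7,154,1,[(1,0,206),(1,0,265),(1,0,254),(1,0,230)],[]),(17,3,17,24,[(1,0,61),(1,0,62)],[(1,0,113),(1,0,61),(1,0,62)]),(16,5,171,0,[],[]),(171,3,65,25,[(1,0,61),(1,0,268)],[(1,0,114)]),(16,6,16,26,[(1,0,61)],[(1,0,116),(1,0,61)]),(95,7,65,27,[(1,0,113),(1,0,114),(1,0,155)],[(1,0,114)]),(171,7,96,1,[(1,0,269),(2,0,271),(1,0,156)],[]),(66,5,66,29,[(1,0,114),(1,0,117)],[(1,0,116),(1,0,114),(1,0,117)]),(17,0,93,12,[(2,0,144),(1,0,62)],[(1,0,148)]),(171,0,94,13,[(2,0,144),(1,0,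268)],[(1,0,150)]),(151,5,151,22,[(1,0,56),(1,0,150),(1,0,219)],[(1,0,150),(1,0,219)]),(93,5,166,27,[(1,0,148)],[(1,0,150),(1,0,256)]),(93,6,93,28,[(1,0,148)],[(1,0,152),(1,0,148)]),(155,5,155,29,[(1,0,150),(1,0,231)],[(1,0,152),(1,0,150),(1,0,231)]),(96,6,172,0,[],[]),(172,3,173,0,[],[]),(173,2,174,0,[],[]),(174,5,175,0,[],[]),(175,4,176,0,[],[]),(176,3,177,0,[],[]),(177,2,178,0,[],[]),(178,1,179,0,[],[]),(179,2,180,0,[],[]),(180,3,181,0,[],[]),(181,4,182,0,[],[]),(182,5,183,0,[],[]),(183,2,184,0,[],[]),(184,3,185,0,[],[]),(185,6,186,0,[],[]),(186,5,187,0,[],[]),(187,2,188,0,[],[]),(188,1,189,0,[],[]),(189,0,190,0,[],[]),(190,1,191,0,[],[])]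
def facts300 : List Fact := [(191,2,192,0,[],[]),(192,5,193,0,[],[]),(193,6,194,0,[],[]),(194,3,195,0,[],[]),(195,2,196,0,[],[]),(196,5,197,0,[],[]),(197,4,198,0,[],[]),(198,3,199,0,[],[]),(199,2,200,0,[],[]),(200,1,201,0,[],[]),(201,2,202,0,[],[]),(202,3,203,0,[],[]),(203,4,204,0,[],[]),(204,5,205,0,[],[]),(205,2,206,0,[],[]),(206,3,207,0,[],[]),(207,6,208,0,[],[]),(208,5,209,0,[],[]),(209,2,210,0,[],[]),(210,1,211,0,[],[]),(211,0,212,0,[],[]),(212,1,213,0,[],[]),(213,2,214,0,[],[]),(214,5,215,0,[],[]),(215,6,216,0,[],[]),(216,3,217,0,[],[]),(217,2,218,0,[],[]),(218,5,219,0,[],[]),(219,4,220,0,[],[]),(220,3,221,0,[],[]),(221,2,222,0,[],[]),(222,1,153,30,[(2,0,144),(1,0,221),(1,0,112),(1,0,268),(1,0,272),(1,0,280),(1,0,281),(1,0,282),(1,0,283),(1,0,284),(1,0,285),(1,0,286),(1,0,287),(1,0,288),(1,0,289),(1,0,290),(1,0,291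),(1,0,292),(1,0,293),(1,0,294),(1,0,295),(1,0,296),(1,0,297),(1,0,298),(1,0,299),(1,0,300),(1,0,301),(1,0,302),(1,0,303),(1,0,304),(1,0,305),(1,0,306),(1,0,307),(1,0,308),(1,0,309),(1,0,310),(1,0,311),(1,0,312),(1,0,313),(1,0,314),(1,0,315),(1,0,316),(1,0,317),(1,0,318),(1,0,319),(1,0,320),(1,0,321),(1,0,322),(1,0,323),(1,0,324),(1,0,325),(1,0,326),(1,0,327),(1,0,328),(1,0,329),(1,0,330)],[(2,0,146),(1,0,20),(1,0,24),(1,0,25),(1,0,23),(2,0,20),(1,0,214),(2,0,227),(1,0,252),(1,0,246)]),(66,0,64,14,[(2,0,145),(1,0,117)],[(2,0,110)]),(151,3,151,20,[(1,0,59),(2,0,151),(1,0,219)],[(2,0,151),(1,0,219)]),(167,7,166,24,[(2,0,151),(1,0,256),(1,0,257)],[(1,0,153),(2,0,151),(1,0,256)]),(156,7,64,26,[(2,0,151),(1,0,231),(1,0,232)],[(2,0,110)]),(64,7,157,1,[(2,0,264),(2,0,335),(1,0,233)],[]),(63,7,155,1,[(1,0,109),(2,0,335),(2,0,232)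],[]),(64,7,158,1,[(2,0,154),(1,0,336),(1,0,234)],[]),(159,7,64,28,[(1,0,153),(2,0,110),(1,0,338),(1,0,235)],[(2,0,110)]),(63,7,160,1,[(1,0,109),(2,0,339),(1,0,236)],[]),(62,7,161,1,[(1,0,108),(1,0,340),(1,0,237)],[]),(96,4,223,0,[],[]),(223,3,224,0,[],[]),(224,2,225,0,[],[]),(225,1,226,0,[],[]),(226,2,227,0,[],[]),(227,3,228,0,[],[]),(228,4,229,0,[],[]),(229,5,230,0,[],[]),(230,2,231,0,[],[]),(231,3,232,0,[],[]),(232,6,233,0,[],[]),(233,5,234,0,[],[]),(234,2,235,0,[],[]),(235,1,236,0,[],[]),(236,0,237,0,[],[]),(237,1,238,0,[],[]),(238,2,239,0,[],[]),(239,5,240,0,[],[])]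
def facts360 : List Fact := [(240,6,241,0,[],[]),(241,3,242,0,[],[]),(242,2,243,0,[],[]),(243,5,244,0,[],[]),(244,4,245,0,[],[]),(245,3,246,0,[],[]),(246,2,247,0,[],[]),(247,1,248,0,[],[]),(248,2,249,0,[],[]),(249,3,250,0,[],[]),(250,4,251,0,[],[]),(251,5,252,0,[],[]),(252,2,253,0,[],[]),(253,3,254,0,[],[]),(254,6,255,0,[],[]),(255,5,256,0,[],[]),(256,2,257,0,[],[]),(257,1,258,0,[],[]),(258,0,259,0,[],[]),(259,1,260,0,[],[]),(260,2,261,0,[],[]),(261,5,262,0,[],[]),(262,6,263,0,[],[]),(263,3,264,0,[],[]),(264,2,265,0,[],[]),(265,5,266,0,[],[]),(266,4,267,0,[],[]),(267,3,268,0,[],[]),(268,2,269,0,[],[]),(269,1,147,30,[(2,0,145),(1,0,248),(1,0,115),(2,0,114),(1,0,116),(1,0,61),(1,0,112),(1,0,268),(1,0,272),(1,0,342),(1,0,343),(1,0,344),(1,0,345),(1,0,346),(1,0,347),(1,0,348),(1,0,349),(1,0,350),(1,0,351),(1,0,352),(1,0,353)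,(1,0,354),(1,0,355),(1,0,356),(1,0,357),(1,0,358),(1,0,359),(1,0,360),(1,0,361),(1,0,362),(1,0,363),(1,0,364),(1,0,365),(1,0,366),(1,0,367),(1,0,368),(1,0,369),(1,0,370),(1,0,371),(1,0,372),(1,0,373),(1,0,374),(1,0,375),(1,0,376),(1,0,377),(1,0,378),(1,0,379),(1,0,380),(1,0,381),(1,0,382),(1,0,383),(1,0,384),(1,0,385),(1,0,386),(1,0,387),(1,0,388)],[(2,0,147),(1,0,35),(1,0,40),(1,0,41),(1,0,262),(1,0,251),(1,0,218),(1,0,255),(2,0,208),(2,0,265),(1,0,207)]),(17,1,17,17,[(1,0,221),(1,0,62)],[(1,0,62)]),(171,1,171,18,[(1,0,221),(1,0,268)],[(1,0,268)]),(17,2,17,21,[(1,0,112),(1,0,62)],[(1,0,62)]),(97,5,97,22,[(1,0,112),(1,0,268),(1,0,272),(1,0,157)],[(1,0,268),(1,0,272),(1,0,157)]),(18,7,223,27,[(1,0,62),(1,0,63)],[(1,0,268),(1,0,272),(1,0,342)]),(17,6,17,28,[(1,0,62)],[(1,0,270),(1,0,62)]),(166,0,18,13,[(1,0,274),(1,0,277)]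,[(1,0,63)]),(18,1,18,18,[(1,0,390),(1,0,63)],[(1,0,63)]),(19,5,19,22,[(1,0,392),(1,0,63),(1,0,64)],[(1,0,63),(1,0,64)]),(224,7,18,25,[(1,0,267),(1,0,63),(1,0,394),(1,0,343)],[(1,0,63)]),(19,7,225,1,[(2,0,64),(2,0,399),(1,0,344)],[]),(18,6,270,0,[],[]),(270,5,270,29,[(1,0,63),(1,0,401)],[(1,0,395),(1,0,63),(1,0,401)]),(151,6,271,0,[],[]),(271,5,272,0,[],[]),(272,2,273,0,[],[]),(273,1,274,0,[],[]),(274,0,275,0,[],[]),(275,1,276,0,[],[]),(276,2,277,0,[],[]),(277,5,278,0,[],[]),(278,6,279,0,[],[]),(279,3,280,0,[],[]),(280,2,281,0,[],[]),(281,5,282,0,[],[]),(282,4,283,0,[],[]),(283,3,284,0,[],[]),(284,2,285,0,[],[]),(285,1,286,0,[],[]),(286,2,287,0,[],[])]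
def facts420 : List Fact := [(287,3,288,0,[],[]),(288,4,289,0,[],[]),(289,5,290,0,[],[]),(290,2,291,0,[],[]),(291,3,292,0,[],[]),(292,6,293,0,[],[]),(293,5,294,0,[],[]),(294,2,295,0,[],[]),(295,1,296,0,[],[]),(296,0,297,0,[],[]),(297,1,298,0,[],[]),(298,2,299,0,[],[]),(299,5,300,0,[],[]),(300,6,301,0,[],[]),(301,3,302,0,[],[]),(302,2,303,0,[],[]),(303,5,304,0,[],[]),(304,4,305,0,[],[]),(305,3,306,0,[],[]),(306,2,307,0,[],[]),(307,1,308,0,[],[]),(308,2,309,0,[],[]),(309,3,310,0,[],[]),(310,4,311,0,[],[]),(311,5,312,0,[],[]),(312,2,313,0,[],[]),(313,3,270,30,[(1,0,274),(1,0,223),(2,0,225),(1,0,242),(1,0,243),(1,0,27),(1,0,30),(1,0,32),(1,0,31),(2,0,27),(1,0,225),(2,0,223),(1,0,245),(1,0,149),(2,0,148),(1,0,150),(1,0,219),(1,0,333),(1,0,403),(1,0,404),(1,0,405),(1,0,406),(1,0,407),(1,0,408),(1,0,409),(1,0,410),(1,0,411),(1,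0,412),(1,0,413),(1,0,414),(1,0,415),(1,0,416),(1,0,417),(1,0,418),(1,0,419),(1,0,420),(1,0,421),(1,0,422),(1,0,423),(1,0,424),(1,0,425),(1,0,426),(1,0,427),(1,0,428),(1,0,429),(1,0,430),(1,0,431),(1,0,432),(1,0,433),(1,0,434),(1,0,435),(1,0,436),(1,0,437),(1,0,438),(1,0,439),(1,0,440),(1,0,441),(1,0,442),(1,0,443),(1,0,444),(1,0,445)],[(1,0,390),(1,0,392),(1,0,63),(1,0,401)]),(166,1,314,0,[],[]),(168,0,19,10,[(2,0,396),(2,0,334),(1,0,258)],[(1,0,64)]),(166,6,315,0,[],[]),(315,0,270,14,[(2,0,396),(1,0,449)],[(1,0,401)]),(227,7,226,15,[(1,0,397),(1,0,64),(1,0,400),(1,0,345),(1,0,346)],[(1,0,64),(1,0,400),(1,0,345)]),(270,1,270,19,[(1,0,397),(1,0,401)],[(1,0,401)]),(20,2,20,20,[(1,0,64),(1,0,65)],[(1,0,394),(1,0,343),(1,0,399),(1,0,64),(1,0,65)]),(19,4,97,21,[(1,0,64)],[(1,0,394),(2,0,342),(1,0,157)]),(19,6,316,0,[],[]),(31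6,2,270,23,[(1,0,64),(1,0,455)],[(1,0,401)]),(313,7,270,26,[(1,0,394),(1,0,343),(1,0,399),(1,0,401),(2,0,446)],[(1,0,401)]),(316,7,312,1,[(1,0,456),(2,0,457),(2,0,445)],[]),(172,4,270,28,[(1,0,394),(2,0,342),(1,0,280)],[(1,0,401)]),(314,2,317,0,[],[]),(317,5,318,0,[],[]),(318,6,319,0,[],[]),(319,3,320,0,[],[]),(320,2,321,0,[],[]),(321,5,322,0,[],[]),(322,4,323,0,[],[]),(323,3,324,0,[],[]),(324,2,325,0,[],[]),(325,1,326,0,[],[]),(326,2,327,0,[],[]),(327,3,328,0,[],[]),(328,4,329,0,[],[]),(329,5,330,0,[],[]),(330,2,331,0,[],[]),(331,3,332,0,[],[]),(332,6,333,0,[],[]),(333,5,334,0,[],[]),(334,2,335,0,[],[]),(335,1,336,0,[],[])]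
def facts480 : List Fact := [(336,0,337,0,[],[]),(337,1,338,0,[],[]),(338,2,339,0,[],[]),(339,5,340,0,[],[]),(340,6,341,0,[],[]),(341,3,342,0,[],[]),(342,2,343,0,[],[]),(343,5,344,0,[],[]),(344,4,345,0,[],[]),(345,3,346,0,[],[]),(346,2,347,0,[],[]),(347,1,348,0,[],[]),(348,2,349,0,[],[]),(349,3,350,0,[],[]),(350,4,351,0,[],[]),(351,5,352,0,[],[]),(352,2,353,0,[],[]),(353,3,354,0,[],[]),(354,6,355,0,[],[]),(355,5,356,0,[],[]),(356,2,357,0,[],[]),(357,1,358,0,[],[]),(358,0,359,0,[],[]),(359,1,360,0,[],[]),(360,2,361,0,[],[]),(361,5,362,0,[],[]),(362,6,363,0,[],[]),(363,3,364,0,[],[]),(364,2,365,0,[],[]),(365,5,366,0,[],[]),(366,4,367,0,[],[]),(367,3,368,0,[],[]),(368,2,369,0,[],[]),(369,1,370,0,[],[]),(370,2,371,0,[],[]),(371,3,372,0,[],[]),(372,4,373,0,[],[]),(373,5,374,0,[],[]),(374,2,375,0,[],[]),(375,3,316,30,[(2,0,396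),(1,0,447),(1,0,460),(1,0,461),(1,0,462),(1,0,463),(1,0,464),(1,0,465),(1,0,466),(1,0,467),(1,0,468),(1,0,469),(1,0,470),(1,0,471),(1,0,472),(1,0,473),(1,0,474),(1,0,475),(1,0,476),(1,0,477),(1,0,478),(1,0,479),(1,0,480),(1,0,481),(1,0,482),(1,0,483),(1,0,484),(1,0,485),(1,0,486),(1,0,487),(1,0,488),(1,0,489),(1,0,490),(1,0,491),(1,0,492),(1,0,493),(1,0,494),(1,0,495),(1,0,496),(1,0,497),(1,0,498),(1,0,499),(1,0,500),(1,0,501),(1,0,502),(1,0,503),(1,0,504),(1,0,505),(1,0,506),(1,0,507),(1,0,508),(1,0,509),(1,0,510),(1,0,511),(1,0,512),(1,0,513),(1,0,514),(1,0,515),(1,0,516),(1,0,517),(1,0,518)],[(1,0,397),(1,0,64),(1,0,398),(1,0,455)]),(169,0,376,0,[],[]),(376,1,377,0,[],[]),(377,0,226,9,[(2,0,448),(1,0,259),(1,0,520),(1,0,521)],[(1,0,400),(1,0,345)]),(168,3,378,0,[],[]),(378,0,20,11,[(2,0,448),(1,0,523)],[(1,0,65)]),(16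8,4,379,0,[],[]),(379,0,97,12,[(2,0,448),(1,0,525)],[(1,0,454)]),(168,6,380,0,[],[]),(380,0,316,14,[(2,0,448),(1,0,527)],[(1,0,455)]),(228,1,20,16,[(1,0,400),(1,0,345),(2,0,451),(1,0,347)],[(1,0,65)]),(226,4,98,17,[(1,0,400),(1,0,345)],[(1,0,454),(1,0,158)]),(226,5,226,18,[(1,0,400),(1,0,345)],[(1,0,398),(1,0,400),(1,0,345)]),(226,6,381,0,[],[]),(381,1,316,19,[(1,0,400),(1,0,345),(1,0,532)],[(1,0,455)]),(20,4,382,0,[],[]),(382,3,383,0,[],[]),(383,4,384,0,[],[]),(384,3,97,24,[(1,0,65),(1,0,534),(1,0,535),(1,0,536)],[(1,0,454)]),(20,5,20,25,[(1,0,65)],[(1,0,398),(1,0,65)]),(21,7,375,26,[(1,0,65),(1,0,66)],[(1,0,455),(2,0,519)])]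
def facts540 : List Fact := [(97,6,385,0,[],[]),(385,4,316,28,[(1,0,454),(1,0,540)],[(1,0,455)]),(170,5,386,0,[],[]),(386,6,387,0,[],[]),(387,3,388,0,[],[]),(388,2,389,0,[],[]),(389,5,390,0,[],[]),(390,4,391,0,[],[]),(391,3,392,0,[],[]),(392,2,393,0,[],[]),(393,1,394,0,[],[]),(394,2,395,0,[],[]),(395,3,396,0,[],[]),(396,4,397,0,[],[]),(397,5,398,0,[],[]),(398,2,399,0,[],[]),(399,3,400,0,[],[]),(400,6,401,0,[],[]),(401,5,402,0,[],[]),(402,2,403,0,[],[]),(403,1,404,0,[],[]),(404,0,405,0,[],[]),(405,1,406,0,[],[]),(406,2,407,0,[],[]),(407,5,408,0,[],[]),(408,6,409,0,[],[]),(409,3,410,0,[],[]),(410,2,411,0,[],[]),(411,5,412,0,[],[]),(412,4,413,0,[],[]),(413,3,414,0,[],[]),(414,2,415,0,[],[]),(415,1,416,0,[],[]),(416,2,417,0,[],[]),(417,3,418,0,[],[]),(418,4,419,0,[],[]),(419,5,420,0,[],[]),(420,2,421,0,[],[]),(421,3,422,0,[]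,[]),(422,6,423,0,[],[]),(423,5,424,0,[],[]),(424,2,425,0,[],[]),(425,1,426,0,[],[]),(426,0,427,0,[],[]),(427,1,428,0,[],[]),(428,2,429,0,[],[]),(429,5,430,0,[],[]),(430,6,431,0,[],[]),(431,3,432,0,[],[]),(432,2,433,0,[],[]),(433,5,434,0,[],[]),(434,4,435,0,[],[]),(435,3,436,0,[],[]),(436,2,437,0,[],[]),(437,1,438,0,[],[]),(438,2,439,0,[],[]),(439,3,440,0,[],[]),(440,4,441,0,[],[]),(441,5,442,0,[],[]),(442,2,443,0,[],[])]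
def facts600 : List Fact := [(443,3,381,30,[(2,0,448),(1,0,259),(1,0,260),(1,0,542),(1,0,543),(1,0,544),(1,0,545),(1,0,546),(1,0,547),(1,0,548),(1,0,549),(1,0,550),(1,0,551),(1,0,552),(1,0,553),(1,0,554),(1,0,555),(1,0,556),(1,0,557),(1,0,558),(1,0,559),(1,0,560),(1,0,561),(1,0,562),(1,0,563),(1,0,564),(1,0,565),(1,0,566),(1,0,567),(1,0,568),(1,0,569),(1,0,570),(1,0,571),(1,0,572),(1,0,573),(1,0,574),(1,0,575),(1,0,576),(1,0,577),(1,0,578),(1,0,579),(1,0,580),(1,0,581),(1,0,582),(1,0,583),(1,0,584),(1,0,585),(1,0,586),(1,0,587),(1,0,588),(1,0,589),(1,0,590),(1,0,591),(1,0,592),(1,0,593),(1,0,594),(1,0,595),(1,0,596),(1,0,597),(1,0,598),(1,0,599)],[(1,0,400),(1,0,345),(1,0,346),(1,0,451),(1,0,531),(1,0,532)]),(378,1,444,0,[],[]),(444,0,445,0,[],[]),(445,1,446,0,[],[]),(446,0,228,9,[(2,0,524),(1,0,601),(1,0,602),(1,0,603)]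,[(2,0,529)]),(378,2,378,10,[(2,0,524)],[(1,0,453),(2,0,524)]),(378,4,447,0,[],[]),(447,0,382,12,[(2,0,524),(1,0,606)],[(1,0,534)]),(378,5,378,13,[(2,0,524)],[(1,0,538),(2,0,524)]),(378,6,448,0,[],[]),(448,0,21,14,[(2,0,524),(1,0,609)],[(1,0,66)]),(228,2,449,0,[],[]),(449,1,449,15,[(2,0,529),(1,0,611)],[(1,0,453),(2,0,529),(1,0,611)]),(229,1,382,17,[(2,0,529),(1,0,348)],[(1,0,534)]),(228,5,228,18,[(2,0,529)],[(1,0,538),(2,0,529)]),(228,6,450,0,[],[]),(450,1,21,19,[(2,0,529),(1,0,615)],[(1,0,66)]),(374,7,21,23,[(1,0,453),(1,0,66),(1,0,539),(2,0,518)],[(1,0,66)]),(22,7,373,1,[(2,0,67),(2,0,617),(2,0,517)],[]),(382,6,451,0,[],[]),(451,4,21,28,[(1,0,534),(1,0,619)],[(1,0,66)]),(22,6,22,29,[(1,0,538),(1,0,66),(1,0,67)],[(1,0,66),(1,0,67)]),(444,2,452,0,[],[]),(452,5,453,0,[],[]),(453,6,454,0,[],[]),(454,3,455,0,[],[]),(455,2,4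56,0,[],[]),(456,5,457,0,[],[]),(457,4,458,0,[],[]),(458,3,459,0,[],[]),(459,2,460,0,[],[]),(460,1,461,0,[],[]),(461,2,462,0,[],[]),(462,3,463,0,[],[]),(463,4,464,0,[],[]),(464,5,465,0,[],[]),(465,2,466,0,[],[]),(466,3,467,0,[],[]),(467,6,468,0,[],[]),(468,5,469,0,[],[]),(469,2,470,0,[],[]),(470,1,471,0,[],[]),(471,0,472,0,[],[]),(472,1,473,0,[],[]),(473,2,474,0,[],[]),(474,5,475,0,[],[]),(475,6,476,0,[],[]),(476,3,477,0,[],[]),(477,2,478,0,[],[]),(478,5,479,0,[],[]),(479,4,480,0,[],[]),(480,3,481,0,[],[]),(481,2,482,0,[],[]),(482,1,483,0,[],[]),(483,2,484,0,[],[]),(484,3,485,0,[],[]),(485,4,486,0,[],[]),(486,5,487,0,[],[]),(487,2,488,0,[],[]),(488,3,489,0,[],[])]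
def facts660 : List Fact := [(489,6,490,0,[],[]),(490,5,491,0,[],[]),(491,2,492,0,[],[]),(492,1,493,0,[],[]),(493,0,494,0,[],[]),(494,1,495,0,[],[]),(495,2,496,0,[],[]),(496,5,497,0,[],[]),(497,6,498,0,[],[]),(498,3,499,0,[],[]),(499,2,500,0,[],[]),(500,5,501,0,[],[]),(501,4,502,0,[],[]),(502,3,503,0,[],[]),(503,2,504,0,[],[]),(504,1,505,0,[],[]),(505,2,506,0,[],[]),(506,3,507,0,[],[]),(507,4,508,0,[],[]),(508,5,509,0,[],[]),(509,2,510,0,[],[]),(510,3,511,0,[],[]),(511,6,512,0,[],[]),(512,5,449,30,[(2,0,524),(1,0,601),(1,0,622),(1,0,623),(1,0,624),(1,0,625),(1,0,626),(1,0,627),(1,0,628),(1,0,629),(1,0,630),(1,0,631),(1,0,632),(1,0,633),(1,0,634),(1,0,635),(1,0,636),(1,0,637),(1,0,638),(1,0,639),(1,0,640),(1,0,641),(1,0,642),(1,0,643),(1,0,644),(1,0,645),(1,0,646),(1,0,647),(1,0,648),(1,0,649),(1,0,650),(1,0,651),(1,0,652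),(1,0,653),(1,0,654),(1,0,655),(1,0,656),(1,0,657),(1,0,658),(1,0,659),(1,0,660),(1,0,661),(1,0,662),(1,0,663),(1,0,664),(1,0,665),(1,0,666),(1,0,667),(1,0,668),(1,0,669),(1,0,670),(1,0,671),(1,0,672),(1,0,673),(1,0,674),(1,0,675),(1,0,676),(1,0,677),(1,0,678),(1,0,679),(1,0,680),(1,0,681),(1,0,682)],[(2,0,529),(1,0,611)]),(448,2,448,10,[(2,0,610)],[(1,0,539),(2,0,518),(1,0,617),(2,0,610)]),(448,3,380,11,[(2,0,610)],[(1,0,539),(1,0,519),(2,0,528)]),(448,5,513,0,[],[]),(513,0,22,13,[(2,0,610),(1,0,686)],[(1,0,67)]),(450,7,443,16,[(2,0,616)],[(1,0,539),(1,0,519),(2,0,533),(2,0,600)]),(443,4,514,0,[],[]),(514,1,451,17,[(2,0,616),(1,0,688),(1,0,689)],[(2,0,620)]),(443,5,515,0,[],[]),(515,1,22,18,[(2,0,616),(1,0,688),(1,0,691)],[(1,0,67)]),(23,5,23,22,[(1,0,539),(2,0,518),(1,0,617),(1,0,67),(1,0,68)],[(1,0,67),(1,0,68)]),(311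,3,22,25,[(1,0,539),(1,0,519),(1,0,458),(2,0,444)],[(1,0,67)]),(451,5,372,27,[(2,0,620)],[(1,0,67),(1,0,618),(2,0,516)]),(513,1,516,0,[],[]),(516,0,517,0,[],[]),(517,1,518,0,[],[]),(518,0,515,9,[(2,0,687),(1,0,696),(1,0,697),(1,0,698)],[(2,0,692)]),(513,2,519,0,[],[]),(519,0,23,10,[(2,0,687),(1,0,700)],[(1,0,68)]),(515,2,520,0,[],[]),(520,1,521,0,[],[]),(521,2,24,15,[(2,0,692),(1,0,702),(1,0,703)],[(1,0,68),(1,0,69)]),(515,3,522,0,[],[]),(522,1,311,16,[(2,0,692),(1,0,705)],[(2,0,694)]),(515,4,523,0,[],[]),(523,1,372,17,[(2,0,692),(1,0,707)],[(1,0,618),(2,0,516)]),(23,3,524,0,[],[]),(524,2,525,0,[],[]),(525,3,526,0,[],[]),(526,2,311,20,[(1,0,68),(1,0,709),(1,0,710),(1,0,711)],[(2,0,694)]),(23,4,527,0,[],[]),(527,2,372,21,[(1,0,68),(1,0,713)],[(1,0,618),(2,0,516)]),(23,6,23,23,[(1,0,68)],[(1,0,621),(1,0,68)]),(309,4,371,24,[(2,0,694),(2,0,443),(2,0,442)],[(1,0,618),(2,0,516),(2,0,515)]),(516,2,528,0,[],[]),(528,5,529,0,[],[]),(529,6,530,0,[],[])]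
def facts720 : List Fact := [(530,3,531,0,[],[]),(531,2,532,0,[],[]),(532,5,533,0,[],[]),(533,4,534,0,[],[]),(534,3,535,0,[],[]),(535,2,536,0,[],[]),(536,1,537,0,[],[]),(537,2,538,0,[],[]),(538,3,539,0,[],[]),(539,4,540,0,[],[]),(540,5,541,0,[],[]),(541,2,542,0,[],[]),(542,3,543,0,[],[]),(543,6,544,0,[],[]),(544,5,545,0,[],[]),(545,2,546,0,[],[]),(546,1,547,0,[],[]),(547,0,548,0,[],[]),(548,1,549,0,[],[]),(549,2,550,0,[],[]),(550,5,551,0,[],[]),(551,6,552,0,[],[]),(552,3,553,0,[],[]),(553,2,554,0,[],[]),(554,5,555,0,[],[]),(555,4,556,0,[],[]),(556,3,557,0,[],[]),(557,2,558,0,[],[]),(558,1,559,0,[],[]),(559,2,560,0,[],[]),(560,3,561,0,[],[]),(561,4,562,0,[],[]),(562,5,563,0,[],[]),(563,2,564,0,[],[]),(564,3,565,0,[],[]),(565,6,566,0,[],[]),(566,5,567,0,[],[]),(567,2,568,0,[],[]),(568,1,569,0,[],[]),(569,0,570,0,[],[]),(57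0,1,571,0,[],[]),(571,2,572,0,[],[]),(572,5,573,0,[],[]),(573,6,574,0,[],[]),(574,3,575,0,[],[]),(575,2,576,0,[],[]),(576,5,577,0,[],[]),(577,4,578,0,[],[]),(578,3,579,0,[],[]),(579,2,580,0,[],[]),(580,1,581,0,[],[]),(581,2,582,0,[],[]),(582,3,583,0,[],[]),(583,4,584,0,[],[]),(584,5,585,0,[],[]),(585,2,586,0,[],[]),(586,3,587,0,[],[]),(587,6,588,0,[],[]),(588,5,520,30,[(2,0,687),(1,0,696),(1,0,717),(1,0,718),(1,0,719),(1,0,720),(1,0,721),(1,0,722),(1,0,723),(1,0,724),(1,0,725),(1,0,726),(1,0,727),(1,0,728),(1,0,729),(1,0,730),(1,0,731),(1,0,732),(1,0,733),(1,0,734),(1,0,735),(1,0,736),(1,0,737),(1,0,738),(1,0,739),(1,0,740),(1,0,741),(1,0,742),(1,0,743),(1,0,744),(1,0,745),(1,0,746),(1,0,747),(1,0,748),(1,0,749),(1,0,750),(1,0,751),(1,0,752),(1,0,753),(1,0,754),(1,0,755),(1,0,756),(1,0,757),(1,0,758),(1,0,759),(1,0,760),(1,0,761),(1,0,762),(1,0,763),(1,0,764),(1,0,765),(1,0,766),(1,0,767),(1,0,768),(1,0,769),(1,0,770),(1,0,771),(1,0,772),(1,0,773),(1,0,774),(1,0,775),(1,0,776),(1,0,777)],[(2,0,692),(1,0,702)]),(519,1,589,0,[],[])]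
def facts780 : List Fact := [(589,0,26,9,[(2,0,701),(1,0,779)],[(1,0,69),(1,0,70),(1,0,71)]),(24,3,590,0,[],[]),(590,1,524,16,[(1,0,69),(1,0,781)],[(1,0,709)]),(24,4,591,0,[],[]),(591,1,527,17,[(1,0,69),(1,0,783)],[(1,0,713)]),(24,5,24,18,[(1,0,69)],[(1,0,693),(1,0,69)]),(24,6,24,19,[(1,0,69)],[(1,0,715),(1,0,69)]),(589,2,592,0,[],[]),(592,5,593,0,[],[]),(593,6,594,0,[],[]),(594,3,595,0,[],[]),(595,2,596,0,[],[]),(596,5,597,0,[],[]),(597,4,598,0,[],[]),(598,3,599,0,[],[]),(599,2,600,0,[],[]),(600,1,601,0,[],[]),(601,2,602,0,[],[]),(25,2,603,0,[],[]),(603,0,521,10,[(1,0,70),(1,0,798)],[(2,0,704)]),(25,3,604,0,[],[]),(604,0,590,11,[(1,0,70),(1,0,800)],[(1,0,781)]),(25,4,605,0,[],[]),(605,0,591,12,[(1,0,70),(1,0,802)],[(1,0,783)]),(25,5,25,13,[(1,0,70)],[(1,0,785),(1,0,70)]),(25,6,25,14,[(1,0,70)],[(1,0,786),(1,0,70)]),(521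,3,606,0,[],[]),(606,2,607,0,[],[]),(607,3,608,0,[],[]),(608,2,590,20,[(2,0,704),(1,0,806),(1,0,807),(1,0,808)],[(1,0,781)]),(521,4,609,0,[],[]),(609,2,591,21,[(2,0,704),(1,0,810)],[(1,0,783)]),(27,1,610,0,[],[]),(610,2,611,0,[],[]),(611,1,603,15,[(1,0,71),(1,0,72),(1,0,812),(1,0,813)],[(1,0,798)]),(26,3,612,0,[],[]),(26,4,613,0,[],[]),(613,1,605,17,[(1,0,71),(1,0,816)],[(1,0,802)]),(26,5,26,18,[(1,0,71)],[(1,0,804),(1,0,71)]),(26,6,26,19,[(1,0,71)],[(1,0,805),(1,0,71)]),(603,3,614,0,[],[]),(614,2,615,0,[],[]),(615,3,616,0,[],[]),(616,2,604,20,[(1,0,798),(1,0,820),(1,0,821),(1,0,822)],[(1,0,800)]),(603,5,617,0,[],[]),(617,2,617,22,[(1,0,798),(1,0,824)],[(1,0,804),(1,0,798),(1,0,824)]),(603,6,603,23,[(1,0,798)],[(1,0,805),(1,0,798)]),(592,0,27,10,[(2,0,780),(1,0,787)],[(1,0,72)]),(27,3,618,0,[],[]),(28,2,28,22,[(1,0,72),(1,0,73)],[(1,0,818),(1,0,72),(1,0,73)]),(27,6,27,23,[(1,0,72)],[(1,0,819),(1,0,72)]),(617,6,619,0,[],[]),(619,3,620,0,[],[]),(620,2,621,0,[],[]),(621,5,622,0,[],[]),(593,0,28,13,[(2,0,827),(1,0,788)],[(1,0,73)]),(610,5,623,0,[],[]),(623,1,28,18,[(1,0,812),(1,0,836)],[(1,0,73)]),(618,5,624,0,[],[]),(624,3,28,25,[(1,0,828),(1,0,838)],[(1,0,73)])]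
def facts840 : List Fact := [(29,5,29,29,[(1,0,73),(1,0,74)],[(1,0,830),(1,0,73),(1,0,74)]),(594,0,29,14,[(2,0,835),(1,0,789)],[(1,0,74)]),(623,6,625,0,[],[]),(625,1,29,19,[(2,0,837),(1,0,842)],[(1,0,74)]),(624,2,626,0,[],[]),(29,2,29,23,[(1,0,829),(1,0,74)],[(1,0,74)]),(624,6,30,26,[(2,0,839)],[(1,0,74),(1,0,75)]),(595,0,30,11,[(2,0,841),(1,0,790)],[(1,0,75)]),(625,3,627,0,[],[]),(627,1,30,16,[(2,0,843),(1,0,848)],[(1,0,75)]),(31,3,31,20,[(1,0,845),(1,0,75),(1,0,76)],[(1,0,75),(1,0,76)]),(30,5,30,25,[(1,0,75)],[(1,0,840),(1,0,75)]),(596,0,31,10,[(2,0,847),(1,0,791)],[(1,0,76)]),(627,2,628,0,[],[]),(628,1,629,0,[],[]),(629,2,630,0,[],[]),(630,1,31,15,[(2,0,849),(1,0,853),(1,0,854),(1,0,855)],[(1,0,76)]),(31,4,631,0,[],[]),(32,2,32,22,[(1,0,76),(1,0,77)],[(1,0,851),(1,0,76),(1,0,77)]),(31,6,626,23,[(1,0,76)],[(2,0,846),(1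,0,844)]),(597,0,32,13,[(2,0,852),(1,0,792)],[(1,0,77)]),(630,4,632,0,[],[]),(632,1,631,17,[(2,0,856),(1,0,861)],[(1,0,857)]),(630,5,633,0,[],[]),(633,1,32,18,[(2,0,856),(1,0,863)],[(1,0,77)]),(630,6,634,0,[],[]),(634,1,626,19,[(2,0,856),(1,0,865)],[(1,0,859)]),(631,3,635,0,[],[]),(32,3,32,25,[(1,0,850),(1,0,77)],[(1,0,77)]),(631,5,33,27,[(1,0,857)],[(1,0,77),(1,0,78)]),(631,6,636,0,[],[]),(636,4,626,28,[(1,0,857),(1,0,870)],[(1,0,859)]),(598,0,33,12,[(2,0,860),(1,0,793)],[(1,0,78)]),(633,4,637,0,[],[]),(637,1,33,17,[(2,0,864),(1,0,873)],[(1,0,78)]),(33,2,33,21,[(1,0,858),(1,0,78)],[(1,0,78)]),(34,4,34,24,[(1,0,868),(1,0,78),(1,0,79)],[(1,0,78),(1,0,79)]),(599,0,34,11,[(2,0,872),(1,0,794)],[(1,0,79)]),(637,3,638,0,[],[]),(638,1,34,16,[(2,0,874),(1,0,878)],[(1,0,79)]),(637,5,632,18,[(2,0,874)],[(2,0,869),(2,0,862)]),(35,3,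35,20,[(1,0,875),(1,0,79),(1,0,80)],[(1,0,79),(1,0,80)]),(34,5,635,25,[(1,0,79)],[(2,0,869),(1,0,867)]),(599,1,639,0,[],[]),(600,0,35,10,[(2,0,877),(1,0,795)],[(1,0,80)]),(638,2,640,0,[],[]),(640,1,37,15,[(2,0,879),(1,0,885)],[(1,0,80),(1,0,81),(1,0,82)]),(638,5,641,0,[],[]),(641,1,635,18,[(2,0,879),(1,0,887)],[(1,0,882)]),(35,4,35,21,[(1,0,80)],[(1,0,876),(1,0,80)]),(639,2,642,0,[],[]),(642,5,643,0,[],[]),(643,6,644,0,[],[]),(644,3,645,0,[],[]),(645,2,646,0,[],[]),(646,5,647,0,[],[]),(647,4,648,0,[],[]),(648,3,649,0,[],[]),(649,2,650,0,[],[]),(650,1,651,0,[],[])]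
def facts900 : List Fact := [(651,2,652,0,[],[]),(652,3,653,0,[],[]),(653,4,654,0,[],[]),(654,5,655,0,[],[]),(655,2,656,0,[],[]),(656,3,657,0,[],[]),(657,6,658,0,[],[]),(658,5,659,0,[],[]),(659,2,660,0,[],[]),(660,1,661,0,[],[]),(661,0,662,0,[],[]),(662,1,663,0,[],[]),(663,2,664,0,[],[]),(664,5,665,0,[],[]),(665,6,666,0,[],[]),(666,3,667,0,[],[]),(667,2,668,0,[],[]),(668,5,669,0,[],[]),(669,4,670,0,[],[]),(670,3,671,0,[],[]),(671,2,672,0,[],[]),(672,1,673,0,[],[]),(673,2,674,0,[],[]),(674,3,675,0,[],[]),(675,4,676,0,[],[]),(676,5,677,0,[],[]),(677,2,678,0,[],[]),(678,3,679,0,[],[]),(679,6,680,0,[],[]),(680,5,681,0,[],[]),(681,2,682,0,[],[]),(682,1,683,0,[],[]),(683,0,684,0,[],[]),(684,1,685,0,[],[]),(685,2,686,0,[],[]),(686,5,687,0,[],[]),(687,6,688,0,[],[]),(688,3,689,0,[],[]),(689,2,690,0,[],[]),(690,5,691,0,[],[]),(69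1,4,692,0,[],[]),(692,3,693,0,[],[]),(693,2,694,0,[],[]),(694,1,695,0,[],[]),(695,2,696,0,[],[]),(696,3,697,0,[],[]),(697,4,698,0,[],[]),(698,5,699,0,[],[]),(699,2,700,0,[],[]),(700,3,701,0,[],[]),(701,6,702,0,[],[]),(702,5,640,30,[(2,0,877),(1,0,883),(1,0,890),(1,0,891),(1,0,892),(1,0,893),(1,0,894),(1,0,895),(1,0,896),(1,0,897),(1,0,898),(1,0,899),(1,0,900),(1,0,901),(1,0,902),(1,0,903),(1,0,904),(1,0,905),(1,0,906),(1,0,907),(1,0,908),(1,0,909),(1,0,910),(1,0,911),(1,0,912),(1,0,913),(1,0,914),(1,0,915),(1,0,916),(1,0,917),(1,0,918),(1,0,919),(1,0,920),(1,0,921),(1,0,922),(1,0,923),(1,0,924),(1,0,925),(1,0,926),(1,0,927),(1,0,928),(1,0,929),(1,0,930),(1,0,931),(1,0,932),(1,0,933),(1,0,934),(1,0,935),(1,0,936),(1,0,937),(1,0,938),(1,0,939),(1,0,940),(1,0,941),(1,0,942),(1,0,943),(1,0,944),(1,0,945),(1,0,946),(1,0,947),(1,0,948),(1,0,949),(1,0,950)],[(2,0,879),(1,0,885)]),(601,0,703,0,[],[]),(703,1,704,0,[],[]),(704,0,36,9,[(2,0,884),(1,0,796),(1,0,952),(1,0,953)],[(1,0,81)]),(36,3,36,16,[(1,0,81)],[(1,0,881),(1,0,81)]),(36,4,36,17,[(1,0,81)],[(1,0,889),(1,0,81)]),(602,5,705,0,[],[]),(705,6,706,0,[],[]),(706,3,707,0,[],[])]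
def facts960 : List Fact := [(707,2,708,0,[],[]),(708,5,709,0,[],[]),(709,4,710,0,[],[]),(710,3,711,0,[],[]),(711,2,712,0,[],[]),(712,1,713,0,[],[]),(713,2,714,0,[],[]),(714,3,715,0,[],[]),(715,4,716,0,[],[]),(716,5,717,0,[],[]),(717,2,718,0,[],[]),(718,3,719,0,[],[]),(719,6,720,0,[],[]),(720,5,721,0,[],[]),(721,2,722,0,[],[]),(722,1,723,0,[],[]),(723,0,724,0,[],[]),(724,1,725,0,[],[]),(725,2,726,0,[],[]),(726,5,727,0,[],[]),(727,6,728,0,[],[]),(728,3,729,0,[],[]),(729,2,730,0,[],[]),(730,5,731,0,[],[]),(731,4,732,0,[],[]),(732,3,733,0,[],[]),(733,2,734,0,[],[]),(734,1,735,0,[],[]),(735,2,736,0,[],[]),(736,3,737,0,[],[]),(737,4,738,0,[],[]),(738,5,739,0,[],[]),(739,2,740,0,[],[]),(740,3,741,0,[],[]),(741,6,742,0,[],[]),(742,5,743,0,[],[]),(743,2,744,0,[],[]),(744,1,745,0,[],[]),(745,0,746,0,[],[]),(746,1,747,0,[],[]),(74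7,2,748,0,[],[]),(748,5,749,0,[],[]),(749,6,750,0,[],[]),(750,3,751,0,[],[]),(751,2,752,0,[],[]),(752,5,753,0,[],[]),(753,4,754,0,[],[]),(754,3,755,0,[],[]),(755,2,756,0,[],[]),(756,1,757,0,[],[]),(757,2,758,0,[],[]),(758,3,759,0,[],[]),(759,4,760,0,[],[]),(760,5,761,0,[],[]),(761,2,762,0,[],[]),(762,3,763,0,[],[]),(763,6,764,0,[],[]),(764,5,37,30,[(2,0,884),(1,0,796),(1,0,797),(1,0,957),(1,0,958),(1,0,959),(1,0,960),(1,0,961),(1,0,962),(1,0,963),(1,0,964),(1,0,965),(1,0,966),(1,0,967),(1,0,968),(1,0,969),(1,0,970),(1,0,971),(1,0,972),(1,0,973),(1,0,974),(1,0,975),(1,0,976),(1,0,977),(1,0,978),(1,0,979),(1,0,980),(1,0,981),(1,0,982),(1,0,983),(1,0,984),(1,0,985),(1,0,986),(1,0,987),(1,0,988),(1,0,989),(1,0,990),(1,0,991),(1,0,992),(1,0,993),(1,0,994),(1,0,995),(1,0,996),(1,0,997),(1,0,998),(1,0,999),(1,0,1000),(1,0,1001),(1,0,1002),(1,0,1003),(1,0,1004),(1,0,1005),(1,0,1006),(1,0,1007),(1,0,1008),(1,0,1009),(1,0,1010),(1,0,1011),(1,0,1012),(1,0,1013),(1,0,1014),(1,0,1015),(1,0,1016)],[(1,0,81),(1,0,82)]),(704,2,765,0,[],[]),(765,0,37,10,[(2,0,954),(1,0,1018)],[(1,0,82)])]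
def facts1020 : List Fact := [(38,2,38,20,[(1,0,82),(1,0,83)],[(1,0,955),(1,0,82),(1,0,83)]),(37,4,37,21,[(1,0,82)],[(1,0,956),(1,0,82)]),(37,6,766,0,[],[]),(765,1,767,0,[],[]),(765,3,768,0,[],[]),(768,0,38,11,[(2,0,1019),(1,0,1024)],[(1,0,83)]),(640,3,769,0,[],[]),(769,1,38,16,[(2,0,886),(1,0,1026)],[(1,0,83)]),(702,1,764,18,[(2,0,886),(2,0,951)],[(2,0,1017)]),(39,3,39,24,[(1,0,83),(1,0,84)],[(1,0,1021),(1,0,83),(1,0,84)]),(38,5,770,0,[],[]),(770,3,764,25,[(1,0,83),(1,0,1030)],[(2,0,1017)]),(38,6,771,0,[],[]),(771,3,766,26,[(1,0,83),(1,0,1032)],[(1,0,1022)]),(767,2,772,0,[],[]),(772,5,773,0,[],[]),(773,6,774,0,[],[]),(774,3,775,0,[],[]),(775,2,776,0,[],[]),(776,5,777,0,[],[]),(777,4,778,0,[],[]),(778,3,779,0,[],[]),(779,2,780,0,[],[]),(780,1,781,0,[],[]),(781,2,782,0,[],[]),(782,3,783,0,[],[]),(783,4,784,0,[],[]),(784,5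,785,0,[],[]),(785,2,786,0,[],[]),(786,3,787,0,[],[]),(787,6,788,0,[],[]),(788,5,789,0,[],[]),(789,2,790,0,[],[]),(790,1,791,0,[],[]),(791,0,792,0,[],[]),(792,1,793,0,[],[]),(793,2,794,0,[],[]),(794,5,795,0,[],[]),(795,6,796,0,[],[]),(796,3,797,0,[],[]),(797,2,798,0,[],[]),(798,5,799,0,[],[]),(799,4,800,0,[],[]),(800,3,801,0,[],[]),(801,2,802,0,[],[]),(802,1,803,0,[],[]),(803,2,804,0,[],[]),(804,3,805,0,[],[]),(805,4,806,0,[],[]),(806,5,807,0,[],[]),(807,2,808,0,[],[]),(808,3,809,0,[],[]),(809,6,810,0,[],[]),(810,5,811,0,[],[]),(811,2,812,0,[],[]),(812,1,813,0,[],[]),(813,0,814,0,[],[]),(814,1,815,0,[],[]),(815,2,816,0,[],[]),(816,5,817,0,[],[])]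
def facts1080 : List Fact := [(817,6,818,0,[],[]),(818,3,819,0,[],[]),(819,2,820,0,[],[]),(820,5,821,0,[],[]),(821,4,822,0,[],[]),(822,3,823,0,[],[]),(823,2,824,0,[],[]),(824,1,825,0,[],[]),(825,2,826,0,[],[]),(826,3,827,0,[],[]),(827,4,828,0,[],[]),(828,5,829,0,[],[]),(829,2,830,0,[],[]),(830,3,831,0,[],[]),(831,6,641,30,[(2,0,1019),(1,0,1023),(1,0,1034),(1,0,1035),(1,0,1036),(1,0,1037),(1,0,1038),(1,0,1039),(1,0,1040),(1,0,1041),(1,0,1042),(1,0,1043),(1,0,1044),(1,0,1045),(1,0,1046),(1,0,1047),(1,0,1048),(1,0,1049),(1,0,1050),(1,0,1051),(1,0,1052),(1,0,1053),(1,0,1054),(1,0,1055),(1,0,1056),(1,0,1057),(1,0,1058),(1,0,1059),(1,0,1060),(1,0,1061),(1,0,1062),(1,0,1063),(1,0,1064),(1,0,1065),(1,0,1066),(1,0,1067),(1,0,1068),(1,0,1069),(1,0,1070),(1,0,1071),(1,0,1072),(1,0,1073),(1,0,1074),(1,0,1075),(1,0,1076),(1,0,1077),(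1,0,1078),(1,0,1079),(1,0,1080),(1,0,1081),(1,0,1082),(1,0,1083),(1,0,1084),(1,0,1085),(1,0,1086),(1,0,1087),(1,0,1088),(1,0,1089),(1,0,1090),(1,0,1091),(1,0,1092),(1,0,1093)],[(2,0,886),(2,0,885),(1,0,887)]),(768,1,832,0,[],[]),(768,4,833,0,[],[]),(833,0,39,12,[(2,0,1025),(1,0,1096)],[(1,0,84)]),(768,5,834,0,[],[]),(834,0,770,13,[(2,0,1025),(1,0,1098)],[(1,0,1030)]),(769,2,835,0,[],[]),(769,4,836,0,[],[]),(836,1,39,17,[(2,0,1027),(1,0,1101)],[(1,0,84)]),(769,5,837,0,[],[]),(837,1,770,18,[(2,0,1027),(1,0,1103)],[(1,0,1030)]),(39,2,39,21,[(1,0,1020),(1,0,84)],[(1,0,84)]),(770,2,838,0,[],[]),(838,5,838,22,[(1,0,1020),(1,0,1030),(1,0,1106)],[(1,0,1030),(1,0,1106)]),(40,4,770,27,[(1,0,84),(1,0,85)],[(1,0,1030)]),(39,6,839,0,[],[]),(839,4,771,28,[(1,0,84),(1,0,1109)],[(1,0,1032)]),(770,6,840,0,[],[]),(832,2,841,0,[],[]),(841,5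,842,0,[],[]),(842,6,843,0,[],[]),(843,3,844,0,[],[]),(844,2,845,0,[],[]),(845,5,846,0,[],[]),(846,4,847,0,[],[]),(847,3,848,0,[],[]),(848,2,849,0,[],[]),(849,1,850,0,[],[]),(850,2,851,0,[],[]),(851,3,852,0,[],[]),(852,4,853,0,[],[]),(853,5,854,0,[],[]),(854,2,855,0,[],[]),(855,3,856,0,[],[]),(856,6,857,0,[],[]),(857,5,858,0,[],[]),(858,2,859,0,[],[]),(859,1,860,0,[],[]),(860,0,861,0,[],[]),(861,1,862,0,[],[]),(862,2,863,0,[],[]),(863,5,864,0,[],[]),(864,6,865,0,[],[]),(865,3,866,0,[],[]),(866,2,867,0,[],[]),(867,5,868,0,[],[])]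
def facts1140 : List Fact := [(868,4,869,0,[],[]),(869,3,870,0,[],[]),(870,2,871,0,[],[]),(871,1,872,0,[],[]),(872,2,873,0,[],[]),(873,3,874,0,[],[]),(874,4,875,0,[],[]),(875,5,876,0,[],[]),(876,2,877,0,[],[]),(877,3,878,0,[],[]),(878,6,879,0,[],[]),(879,5,880,0,[],[]),(880,2,881,0,[],[]),(881,1,882,0,[],[]),(882,0,883,0,[],[]),(883,1,884,0,[],[]),(884,2,885,0,[],[]),(885,5,886,0,[],[]),(886,6,887,0,[],[]),(887,3,888,0,[],[]),(888,2,889,0,[],[]),(889,5,890,0,[],[]),(890,4,891,0,[],[]),(891,3,892,0,[],[]),(892,2,893,0,[],[]),(893,1,894,0,[],[]),(894,2,895,0,[],[]),(895,3,896,0,[],[]),(896,4,897,0,[],[]),(897,5,898,0,[],[]),(898,2,899,0,[],[]),(899,3,900,0,[],[]),(900,6,901,0,[],[]),(901,5,835,30,[(2,0,1025),(1,0,1095),(1,0,1112),(1,0,1113),(1,0,1114),(1,0,1115),(1,0,1116),(1,0,1117),(1,0,1118),(1,0,1119),(1,0,1120),(1,0,1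121),(1,0,1122),(1,0,1123),(1,0,1124),(1,0,1125),(1,0,1126),(1,0,1127),(1,0,1128),(1,0,1129),(1,0,1130),(1,0,1131),(1,0,1132),(1,0,1133),(1,0,1134),(1,0,1135),(1,0,1136),(1,0,1137),(1,0,1138),(1,0,1139),(1,0,1140),(1,0,1141),(1,0,1142),(1,0,1143),(1,0,1144),(1,0,1145),(1,0,1146),(1,0,1147),(1,0,1148),(1,0,1149),(1,0,1150),(1,0,1151),(1,0,1152),(1,0,1153),(1,0,1154),(1,0,1155),(1,0,1156),(1,0,1157),(1,0,1158),(1,0,1159),(1,0,1160),(1,0,1161),(1,0,1162),(1,0,1163),(1,0,1164),(1,0,1165),(1,0,1166),(1,0,1167),(1,0,1168),(1,0,1169),(1,0,1170),(1,0,1171),(1,0,1172)],[(2,0,1027),(1,0,1100)]),(833,1,902,0,[],[]),(902,0,903,0,[],[]),(903,1,904,0,[],[]),(904,0,836,9,[(2,0,1097),(1,0,1174),(1,0,1175),(1,0,1176)],[(2,0,1102)]),(833,2,833,10,[(2,0,1097)],[(1,0,1105),(2,0,1097)]),(833,5,905,0,[],[]),(905,0,40,13,[(2,0,1097),(1,0,1179)]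,[(1,0,85)]),(833,6,906,0,[],[]),(906,0,839,14,[(2,0,1097),(1,0,1181)],[(1,0,1109)]),(836,2,907,0,[],[]),(836,5,908,0,[],[]),(908,1,40,18,[(2,0,1102),(1,0,1184)],[(1,0,85)]),(41,5,41,22,[(1,0,1105),(1,0,85),(1,0,86)],[(1,0,85),(1,0,86)]),(40,3,40,25,[(1,0,1029),(1,0,85)],[(1,0,85)]),(40,6,909,0,[],[]),(909,5,910,0,[],[]),(910,6,911,0,[],[]),(911,5,839,29,[(1,0,85),(1,0,1188),(1,0,1189),(1,0,1190)],[(1,0,1109)]),(902,2,912,0,[],[]),(912,5,913,0,[],[]),(913,6,914,0,[],[]),(914,3,915,0,[],[]),(915,2,916,0,[],[]),(916,5,917,0,[],[]),(917,4,918,0,[],[]),(918,3,919,0,[],[])]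
def facts1200 : List Fact := [(919,2,920,0,[],[]),(920,1,921,0,[],[]),(921,2,922,0,[],[]),(922,3,923,0,[],[]),(923,4,924,0,[],[]),(924,5,925,0,[],[]),(925,2,926,0,[],[]),(926,3,927,0,[],[]),(927,6,928,0,[],[]),(928,5,929,0,[],[]),(929,2,930,0,[],[]),(930,1,931,0,[],[]),(931,0,932,0,[],[]),(932,1,933,0,[],[]),(933,2,934,0,[],[]),(934,5,935,0,[],[]),(935,6,936,0,[],[]),(936,3,937,0,[],[]),(937,2,938,0,[],[]),(938,5,939,0,[],[]),(939,4,940,0,[],[]),(940,3,941,0,[],[]),(941,2,942,0,[],[]),(942,1,943,0,[],[]),(943,2,944,0,[],[]),(944,3,945,0,[],[]),(945,4,946,0,[],[]),(946,5,947,0,[],[]),(947,2,948,0,[],[]),(948,3,949,0,[],[]),(949,6,950,0,[],[]),(950,5,951,0,[],[]),(951,2,952,0,[],[]),(952,1,953,0,[],[]),(953,0,954,0,[],[]),(954,1,955,0,[],[]),(955,2,956,0,[],[]),(956,5,957,0,[],[]),(957,6,958,0,[],[]),(958,3,959,0,[],[]),(9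59,2,960,0,[],[]),(960,5,961,0,[],[]),(961,4,962,0,[],[]),(962,3,963,0,[],[]),(963,2,964,0,[],[]),(964,1,965,0,[],[]),(965,2,966,0,[],[]),(966,3,967,0,[],[]),(967,4,968,0,[],[]),(968,5,969,0,[],[]),(969,2,970,0,[],[]),(970,3,971,0,[],[]),(971,6,972,0,[],[]),(972,5,907,30,[(2,0,1097),(1,0,1174),(1,0,1192),(1,0,1193),(1,0,1194),(1,0,1195),(1,0,1196),(1,0,1197),(1,0,1198),(1,0,1199),(1,0,1200),(1,0,1201),(1,0,1202),(1,0,1203),(1,0,1204),(1,0,1205),(1,0,1206),(1,0,1207),(1,0,1208),(1,0,1209),(1,0,1210),(1,0,1211),(1,0,1212),(1,0,1213),(1,0,1214),(1,0,1215),(1,0,1216),(1,0,1217),(1,0,1218),(1,0,1219),(1,0,1220),(1,0,1221),(1,0,1222),(1,0,1223),(1,0,1224),(1,0,1225),(1,0,1226),(1,0,1227),(1,0,1228),(1,0,1229),(1,0,1230),(1,0,1231),(1,0,1232),(1,0,1233),(1,0,1234),(1,0,1235),(1,0,1236),(1,0,1237),(1,0,1238),(1,0,1239),(1,0,1240),(1,0,1241),(1,0,1242),(1,0,1243),(1,0,1244),(1,0,1245),(1,0,1246),(1,0,1247),(1,0,1248),(1,0,1249),(1,0,1250),(1,0,1251),(1,0,1252)],[(2,0,1102),(1,0,1183)]),(905,1,973,0,[],[]),(973,0,974,0,[],[]),(974,1,975,0,[],[]),(975,0,908,9,[(2,0,1180),(1,0,1254),(1,0,1255),(1,0,1256)],[(2,0,1185)]),(905,2,976,0,[],[]),(976,0,41,10,[(2,0,1180),(1,0,1258)],[(1,0,86)])]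
def facts1260 : List Fact := [(905,3,905,11,[(2,0,1180)],[(1,0,1187),(2,0,1180)]),(905,4,834,12,[(2,0,1180)],[(1,0,1108),(2,0,1099)]),(905,6,977,0,[],[]),(977,0,909,14,[(2,0,1180),(1,0,1262)],[(1,0,1188)]),(908,2,978,0,[],[]),(978,1,979,0,[],[]),(979,2,980,0,[],[]),(980,1,41,15,[(2,0,1185),(1,0,1264),(1,0,1265),(1,0,1266)],[(1,0,86)]),(908,6,981,0,[],[]),(981,1,909,19,[(2,0,1185),(1,0,1268)],[(1,0,1188)]),(42,2,42,20,[(1,0,86),(1,0,87)],[(1,0,1187),(1,0,86),(1,0,87)]),(41,4,838,21,[(1,0,86)],[(1,0,1108),(1,0,1106)]),(41,6,982,0,[],[]),(982,2,909,23,[(1,0,86),(1,0,1272)],[(1,0,1188)]),(909,3,909,26,[(1,0,1187),(1,0,1188)],[(1,0,1188)]),(840,4,909,28,[(1,0,1108),(1,0,1111)],[(1,0,1188)]),(973,2,983,0,[],[]),(983,5,984,0,[],[]),(984,6,985,0,[],[]),(985,3,986,0,[],[]),(986,2,987,0,[],[]),(987,5,988,0,[],[]),(988,4,989,0,[],[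]),(989,3,990,0,[],[]),(990,2,991,0,[],[]),(991,1,992,0,[],[]),(992,2,993,0,[],[]),(993,3,994,0,[],[]),(994,4,995,0,[],[]),(995,5,996,0,[],[]),(996,2,997,0,[],[]),(997,3,998,0,[],[]),(998,6,999,0,[],[]),(999,5,1000,0,[],[]),(1000,2,1001,0,[],[]),(1001,1,1002,0,[],[]),(1002,0,1003,0,[],[]),(1003,1,1004,0,[],[]),(1004,2,1005,0,[],[]),(1005,5,1006,0,[],[]),(1006,6,1007,0,[],[]),(1007,3,1008,0,[],[]),(1008,2,1009,0,[],[]),(1009,5,1010,0,[],[]),(1010,4,1011,0,[],[]),(1011,3,1012,0,[],[]),(1012,2,1013,0,[],[]),(1013,1,1014,0,[],[]),(1014,2,1015,0,[],[]),(1015,3,1016,0,[],[]),(1016,4,1017,0,[],[]),(1017,5,1018,0,[],[]),(1018,2,1019,0,[],[]),(1019,3,1020,0,[],[]),(1020,6,1021,0,[],[]),(1021,5,1022,0,[],[]),(1022,2,1023,0,[],[]),(1023,1,1024,0,[],[]),(1024,0,1025,0,[],[]),(1025,1,1026,0,[],[])]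
def facts1320 : List Fact := [(1026,2,1027,0,[],[]),(1027,5,1028,0,[],[]),(1028,6,1029,0,[],[]),(1029,3,1030,0,[],[]),(1030,2,1031,0,[],[]),(1031,5,1032,0,[],[]),(1032,4,1033,0,[],[]),(1033,3,1034,0,[],[]),(1034,2,1035,0,[],[]),(1035,1,1036,0,[],[]),(1036,2,1037,0,[],[]),(1037,3,1038,0,[],[]),(1038,4,1039,0,[],[]),(1039,5,1040,0,[],[]),(1040,2,1041,0,[],[]),(1041,3,1042,0,[],[]),(1042,6,1043,0,[],[]),(1043,5,978,30,[(2,0,1180),(1,0,1254),(1,0,1276),(1,0,1277),(1,0,1278),(1,0,1279),(1,0,1280),(1,0,1281),(1,0,1282),(1,0,1283),(1,0,1284),(1,0,1285),(1,0,1286),(1,0,1287),(1,0,1288),(1,0,1289),(1,0,1290),(1,0,1291),(1,0,1292),(1,0,1293),(1,0,1294),(1,0,1295),(1,0,1296),(1,0,1297),(1,0,1298),(1,0,1299),(1,0,1300),(1,0,1301),(1,0,1302),(1,0,1303),(1,0,1304),(1,0,1305),(1,0,1306),(1,0,1307),(1,0,1308),(1,0,1309),(1,0,1310),(1,0,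1311),(1,0,1312),(1,0,1313),(1,0,1314),(1,0,1315),(1,0,1316),(1,0,1317),(1,0,1318),(1,0,1319),(1,0,1320),(1,0,1321),(1,0,1322),(1,0,1323),(1,0,1324),(1,0,1325),(1,0,1326),(1,0,1327),(1,0,1328),(1,0,1329),(1,0,1330),(1,0,1331),(1,0,1332),(1,0,1333),(1,0,1334),(1,0,1335),(1,0,1336)],[(2,0,1185),(1,0,1264)]),(976,1,1044,0,[],[]),(1044,0,1045,0,[],[]),(1045,1,1046,0,[],[]),(1046,0,980,9,[(2,0,1259),(1,0,1338),(1,0,1339),(1,0,1340)],[(2,0,1267)]),(976,3,1047,0,[],[]),(1047,0,42,11,[(2,0,1259),(1,0,1342)],[(1,0,87)]),(976,4,1048,0,[],[]),(1048,0,838,12,[(2,0,1259),(1,0,1344)],[(1,0,1271)]),(976,6,1049,0,[],[]),(1049,0,982,14,[(2,0,1259),(1,0,1346)],[(1,0,1272)]),(980,3,1050,0,[],[]),(1050,1,42,16,[(2,0,1267),(1,0,1348)],[(1,0,87)]),(980,4,1051,0,[],[]),(1051,1,838,17,[(2,0,1267),(1,0,1350)],[(1,0,1271)]),(980,5,980,18,[(2,0,126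7)],[(1,0,1186),(2,0,1267)]),(980,6,1052,0,[],[]),(1052,1,982,19,[(2,0,1267),(1,0,1353)],[(1,0,1272)]),(42,4,1053,0,[],[]),(1053,3,1054,0,[],[]),(1054,4,1055,0,[],[]),(1055,3,838,24,[(1,0,87),(1,0,1355),(1,0,1356),(1,0,1357)],[(1,0,1271)]),(42,5,42,25,[(1,0,87)],[(1,0,1186),(1,0,87)]),(43,3,982,26,[(1,0,87),(1,0,88)],[(1,0,1272)]),(838,6,1056,0,[],[]),(1056,4,982,28,[(1,0,1271),(1,0,1361)],[(1,0,1272)]),(982,5,1057,0,[],[]),(1057,6,1057,29,[(1,0,1186),(1,0,1272),(1,0,1363)],[(1,0,1272),(1,0,1363)]),(1044,2,1058,0,[],[]),(1058,5,1059,0,[],[]),(1059,6,1060,0,[],[]),(1060,3,1061,0,[],[]),(1061,2,1062,0,[],[]),(1062,5,1063,0,[],[]),(1063,4,1064,0,[],[]),(1064,3,1065,0,[],[]),(1065,2,1066,0,[],[]),(1066,1,1067,0,[],[]),(1067,2,1068,0,[],[]),(1068,3,1069,0,[],[]),(1047,1,1070,0,[],[]),(1070,0,1071,0,[],[]),(1071,1,1072,0,[],[])]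
def facts1380 : List Fact := [(1072,0,1050,9,[(2,0,1343),(1,0,1377),(1,0,1378),(1,0,1379)],[(2,0,1349)]),(1047,2,1047,10,[(2,0,1343)],[(1,0,1270),(2,0,1343)]),(1047,4,1073,0,[],[]),(1073,0,1053,12,[(2,0,1343),(1,0,1382)],[(1,0,1355)]),(1047,5,1047,13,[(2,0,1343)],[(1,0,1359),(2,0,1343)]),(1047,6,1074,0,[],[]),(1074,0,43,14,[(2,0,1343),(1,0,1385)],[(1,0,88)]),(1050,2,1075,0,[],[]),(1075,1,1075,15,[(2,0,1349),(1,0,1387)],[(1,0,1270),(2,0,1349),(1,0,1387)]),(1050,4,1076,0,[],[]),(1076,1,1053,17,[(2,0,1349),(1,0,1389)],[(1,0,1355)]),(1050,5,1050,18,[(2,0,1349)],[(1,0,1359),(2,0,1349)]),(1050,6,1077,0,[],[]),(1077,1,43,19,[(2,0,1349),(1,0,1392)],[(1,0,88)]),(43,2,43,23,[(1,0,1270),(1,0,88)],[(1,0,88)]),(1053,6,1078,0,[],[]),(1078,4,43,28,[(1,0,1355),(1,0,1395)],[(1,0,88)]),(44,6,44,29,[(1,0,1359),(1,0,88),(1,0,89)],[(1,0,88),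(1,0,89)]),(1070,2,1079,0,[],[]),(1079,5,1080,0,[],[]),(1080,6,1081,0,[],[]),(1081,3,1082,0,[],[]),(1082,2,1083,0,[],[]),(1083,5,1084,0,[],[]),(1084,4,1085,0,[],[]),(1085,3,1086,0,[],[]),(1086,2,1087,0,[],[]),(1087,1,1088,0,[],[]),(1088,2,1089,0,[],[]),(1089,3,1090,0,[],[]),(1090,4,1091,0,[],[]),(1091,5,1092,0,[],[]),(1092,2,1093,0,[],[]),(1093,3,1094,0,[],[]),(1094,6,1095,0,[],[]),(1095,5,1096,0,[],[]),(1096,2,1097,0,[],[]),(1097,1,1098,0,[],[]),(1098,0,1099,0,[],[]),(1099,1,1100,0,[],[]),(1100,2,1101,0,[],[]),(1101,5,1102,0,[],[]),(1102,6,1103,0,[],[]),(1103,3,1104,0,[],[]),(1104,2,1105,0,[],[]),(1105,5,1106,0,[],[]),(1106,4,1107,0,[],[]),(1107,3,1108,0,[],[]),(1108,2,1109,0,[],[]),(1109,1,1110,0,[],[]),(1110,2,1111,0,[],[]),(1111,3,1112,0,[],[]),(1112,4,1113,0,[],[]),(1113,5,1114,0,[],[]),(1114,2,1115,0,[],[]),(1115,3,1116,0,[],[]),(1116,6,1117,0,[],[]),(1117,5,1118,0,[],[]),(1118,2,1119,0,[],[]),(1119,1,1120,0,[],[])]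
def facts1440 : List Fact := [(1120,0,1121,0,[],[]),(1121,1,1122,0,[],[]),(1122,2,1123,0,[],[]),(1123,5,1124,0,[],[]),(1124,6,1125,0,[],[]),(1125,3,1126,0,[],[]),(1126,2,1127,0,[],[]),(1127,5,1128,0,[],[]),(1128,4,1129,0,[],[]),(1129,3,1130,0,[],[]),(1130,2,1131,0,[],[]),(1131,1,1132,0,[],[]),(1132,2,1133,0,[],[]),(1133,3,1134,0,[],[]),(1134,4,1135,0,[],[]),(1135,5,1136,0,[],[]),(1136,2,1137,0,[],[]),(1137,3,1138,0,[],[]),(1138,6,1139,0,[],[]),(1139,5,1075,30,[(2,0,1343),(1,0,1377),(1,0,1398),(1,0,1399),(1,0,1400),(1,0,1401),(1,0,1402),(1,0,1403),(1,0,1404),(1,0,1405),(1,0,1406),(1,0,1407),(1,0,1408),(1,0,1409),(1,0,1410),(1,0,1411),(1,0,1412),(1,0,1413),(1,0,1414),(1,0,1415),(1,0,1416),(1,0,1417),(1,0,1418),(1,0,1419),(1,0,1420),(1,0,1421),(1,0,1422),(1,0,1423),(1,0,1424),(1,0,1425),(1,0,1426),(1,0,1427),(1,0,1428),(1,0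,1429),(1,0,1430),(1,0,1431),(1,0,1432),(1,0,1433),(1,0,1434),(1,0,1435),(1,0,1436),(1,0,1437),(1,0,1438),(1,0,1439),(1,0,1440),(1,0,1441),(1,0,1442),(1,0,1443),(1,0,1444),(1,0,1445),(1,0,1446),(1,0,1447),(1,0,1448),(1,0,1449),(1,0,1450),(1,0,1451),(1,0,1452),(1,0,1453),(1,0,1454),(1,0,1455),(1,0,1456),(1,0,1457),(1,0,1458)],[(2,0,1349),(1,0,1387)]),(1074,1,1140,0,[],[]),(1140,0,1141,0,[],[]),(1141,1,1142,0,[],[]),(1142,0,1077,9,[(2,0,1386),(1,0,1460),(1,0,1461),(1,0,1462)],[(2,0,1393)]),(1074,3,1049,11,[(2,0,1386)],[(1,0,1360),(2,0,1347)]),(1074,4,1143,0,[],[]),(1143,0,1078,12,[(2,0,1386),(1,0,1465)],[(2,0,1396)]),(1074,5,1144,0,[],[]),(1144,0,44,13,[(2,0,1386),(1,0,1467)],[(1,0,89)]),(1077,2,1145,0,[],[]),(1077,3,1052,16,[(2,0,1393)],[(1,0,1360),(2,0,1354)]),(1077,5,1146,0,[],[]),(1146,1,44,18,[(2,0,1393),(1,0,1471)],[(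1,0,89)]),(45,5,45,22,[(1,0,1394),(1,0,89),(1,0,90)],[(1,0,89),(1,0,90)]),(1057,3,44,25,[(1,0,1360),(1,0,1363)],[(1,0,89)]),(1078,5,1147,0,[],[]),(1147,4,44,27,[(2,0,1396),(1,0,1475)],[(1,0,89)]),(1140,2,1148,0,[],[]),(1148,5,1149,0,[],[]),(1149,6,1150,0,[],[]),(1150,3,1151,0,[],[]),(1151,2,1152,0,[],[]),(1152,5,1153,0,[],[]),(1153,4,1154,0,[],[]),(1154,3,1155,0,[],[]),(1155,2,1156,0,[],[]),(1156,1,1157,0,[],[]),(1157,2,1158,0,[],[]),(1158,3,1159,0,[],[]),(1159,4,1160,0,[],[]),(1160,5,1161,0,[],[]),(1161,2,1162,0,[],[]),(1162,3,1163,0,[],[]),(1144,1,1164,0,[],[]),(1144,2,1165,0,[],[]),(1165,0,45,10,[(2,0,1468),(1,0,1494)],[(1,0,90)]),(1146,2,1166,0,[],[]),(1166,1,1167,0,[],[]),(1167,2,46,15,[(2,0,1472),(1,0,1496),(1,0,1497)],[(1,0,90),(1,0,91)]),(1146,3,1168,0,[],[])]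
def facts1500 : List Fact := [(1168,1,1057,16,[(2,0,1472),(1,0,1499)],[(2,0,1474)]),(1146,4,1169,0,[],[]),(1169,1,1147,17,[(2,0,1472),(1,0,1501)],[(2,0,1476)]),(1146,6,1146,19,[(2,0,1472)],[(1,0,1397),(2,0,1472)]),(45,6,45,23,[(1,0,90)],[(1,0,1397),(1,0,90)]),(1057,4,1170,0,[],[]),(1170,3,1171,0,[],[]),(1171,4,1172,0,[],[]),(1172,3,1147,24,[(2,0,1474),(1,0,1505),(1,0,1506),(1,0,1507)],[(2,0,1476)]),(1164,2,1173,0,[],[]),(1173,5,1174,0,[],[]),(1174,6,1175,0,[],[]),(1175,3,1176,0,[],[]),(1176,2,1177,0,[],[]),(1177,5,1178,0,[],[]),(1178,4,1179,0,[],[]),(1179,3,1180,0,[],[]),(1180,2,1181,0,[],[]),(1181,1,1182,0,[],[]),(1182,2,1183,0,[],[]),(1183,3,1184,0,[],[]),(1184,4,1185,0,[],[]),(1185,5,1186,0,[],[]),(1186,2,1187,0,[],[]),(1187,3,1188,0,[],[]),(1188,6,1189,0,[],[]),(1189,5,1190,0,[],[]),(1190,2,1191,0,[],[]),(1191,1,1192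,0,[],[]),(1192,0,1193,0,[],[]),(1193,1,1194,0,[],[]),(1194,2,1195,0,[],[]),(1195,5,1196,0,[],[]),(1196,6,1197,0,[],[]),(1197,3,1198,0,[],[]),(1198,2,1199,0,[],[]),(1199,5,1200,0,[],[]),(1200,4,1201,0,[],[]),(1201,3,1202,0,[],[]),(1202,2,1203,0,[],[]),(1203,1,1204,0,[],[]),(1204,2,1205,0,[],[]),(1205,3,1206,0,[],[]),(1206,4,1207,0,[],[]),(1207,5,1208,0,[],[]),(1208,2,1209,0,[],[]),(1209,3,1210,0,[],[]),(1210,6,1211,0,[],[]),(1211,5,1212,0,[],[]),(1212,2,1213,0,[],[]),(1213,1,1214,0,[],[]),(1214,0,1215,0,[],[]),(1215,1,1216,0,[],[]),(1216,2,1217,0,[],[]),(1217,5,1218,0,[],[]),(1218,6,1219,0,[],[]),(1219,3,1220,0,[],[]),(1220,2,1221,0,[],[]),(1221,5,1222,0,[],[]),(1222,4,1223,0,[],[])]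
def facts1560 : List Fact := [(1223,3,1224,0,[],[]),(1224,2,1225,0,[],[]),(1225,1,1226,0,[],[]),(1226,2,1227,0,[],[]),(1227,3,1228,0,[],[]),(1228,4,1229,0,[],[]),(1229,5,1230,0,[],[]),(1230,2,1231,0,[],[]),(1231,3,1232,0,[],[]),(1232,6,1233,0,[],[]),(1233,5,1166,30,[(2,0,1468),(1,0,1493),(1,0,1509),(1,0,1510),(1,0,1511),(1,0,1512),(1,0,1513),(1,0,1514),(1,0,1515),(1,0,1516),(1,0,1517),(1,0,1518),(1,0,1519),(1,0,1520),(1,0,1521),(1,0,1522),(1,0,1523),(1,0,1524),(1,0,1525),(1,0,1526),(1,0,1527),(1,0,1528),(1,0,1529),(1,0,1530),(1,0,1531),(1,0,1532),(1,0,1533),(1,0,1534),(1,0,1535),(1,0,1536),(1,0,1537),(1,0,1538),(1,0,1539),(1,0,1540),(1,0,1541),(1,0,1542),(1,0,1543),(1,0,1544),(1,0,1545),(1,0,1546),(1,0,1547),(1,0,1548),(1,0,1549),(1,0,1550),(1,0,1551),(1,0,1552),(1,0,1553),(1,0,1554),(1,0,1555),(1,0,1556),(1,0,1557),(1,0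,1558),(1,0,1559),(1,0,1560),(1,0,1561),(1,0,1562),(1,0,1563),(1,0,1564),(1,0,1565),(1,0,1566),(1,0,1567),(1,0,1568),(1,0,1569)],[(2,0,1472),(1,0,1496)]),(1165,1,1234,0,[],[]),(1234,0,48,9,[(2,0,1495),(1,0,1571)],[(1,0,91),(1,0,92),(1,0,93)]),(46,5,46,18,[(1,0,91)],[(1,0,1473),(1,0,91)]),(46,6,46,19,[(1,0,91)],[(1,0,1504),(1,0,91)]),(1234,2,1235,0,[],[]),(1235,5,1236,0,[],[]),(1236,6,1237,0,[],[]),(1237,3,1238,0,[],[]),(1238,2,1239,0,[],[]),(1239,5,1240,0,[],[]),(1240,4,1241,0,[],[]),(1241,3,1242,0,[],[]),(1242,2,1243,0,[],[]),(1243,1,1244,0,[],[]),(1244,2,1245,0,[],[]),(1245,3,1246,0,[],[]),(1246,4,1247,0,[],[]),(47,2,1248,0,[],[]),(1248,0,1167,10,[(1,0,92),(1,0,1588)],[(2,0,1498)]),(47,3,1249,0,[],[]),(47,4,1250,0,[],[]),(47,5,47,13,[(1,0,92)],[(1,0,1573),(1,0,92)]),(47,6,47,14,[(1,0,92)],[(1,0,1574),(1,0,92)]),(49,1,12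51,0,[],[]),(1251,2,1252,0,[],[]),(1252,1,1248,15,[(1,0,93),(1,0,94),(1,0,1594),(1,0,1595)],[(1,0,1588)]),(48,3,1253,0,[],[]),(48,4,1254,0,[],[]),(1254,1,1250,17,[(1,0,93),(1,0,1598)],[(1,0,1591)]),(48,5,48,18,[(1,0,93)],[(1,0,1592),(1,0,93)]),(48,6,48,19,[(1,0,93)],[(1,0,1593),(1,0,93)]),(1235,0,49,10,[(2,0,1572),(1,0,1575)],[(1,0,94)]),(49,3,1255,0,[],[]),(49,4,1256,0,[],[]),(1256,2,1254,21,[(1,0,94),(1,0,1604)],[(1,0,1598)]),(50,2,50,22,[(1,0,94),(1,0,95)],[(1,0,1600),(1,0,94),(1,0,95)]),(49,6,49,23,[(1,0,94)],[(1,0,1601),(1,0,94)]),(1236,0,50,13,[(2,0,1602),(1,0,1576)],[(1,0,95)]),(1251,5,1257,0,[],[]),(1257,1,50,18,[(1,0,1594),(1,0,1609)],[(1,0,95)]),(1255,5,1258,0,[],[]),(1258,3,50,25,[(1,0,1603),(1,0,1611)],[(1,0,95)]),(1256,5,1259,0,[],[]),(1259,4,50,27,[(1,0,1604),(1,0,1613)],[(1,0,95)]),(51,5,51,29,[(1,0,95),(1,0,96)],[(1,0,1607),(1,0,95),(1,0,96)]),(1237,0,51,14,[(2,0,1608),(1,0,1577)],[(1,0,96)]),(1257,6,1260,0,[],[]),(1260,1,51,19,[(2,0,1610),(1,0,1617)],[(1,0,96)]),(1258,2,1261,0,[],[])]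
def facts1620 : List Fact := [(51,2,51,23,[(1,0,1606),(1,0,96)],[(1,0,96)]),(1258,6,52,26,[(2,0,1612)],[(1,0,96),(1,0,97)]),(1259,6,1262,0,[],[]),(1262,4,51,28,[(2,0,1614),(1,0,1622)],[(1,0,96)]),(1238,0,52,11,[(2,0,1616),(1,0,1578)],[(1,0,97)]),(1260,3,1263,0,[],[]),(1263,1,52,16,[(2,0,1618),(1,0,1625)],[(1,0,97)]),(53,3,53,20,[(1,0,1620),(1,0,97),(1,0,98)],[(1,0,97),(1,0,98)]),(52,4,1264,0,[],[]),(52,5,52,25,[(1,0,97)],[(1,0,1615),(1,0,97)]),(1239,0,53,10,[(2,0,1624),(1,0,1579)],[(1,0,98)]),(1263,2,1265,0,[],[]),(1265,1,1266,0,[],[]),(1266,2,1267,0,[],[]),(1267,1,53,15,[(2,0,1626),(1,0,1631),(1,0,1632),(1,0,1633)],[(1,0,98)]),(53,4,1268,0,[],[]),(1268,2,1264,21,[(1,0,98),(1,0,1635)],[(1,0,1628)]),(54,2,54,22,[(1,0,98),(1,0,99)],[(1,0,1629),(1,0,98),(1,0,99)]),(53,6,1261,23,[(1,0,98)],[(2,0,1621),(1,0,1619)]),(1239,1,12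69,0,[],[]),(1240,0,54,13,[(2,0,1630),(1,0,1580)],[(1,0,99)]),(1267,5,1270,0,[],[]),(1270,1,54,18,[(2,0,1634),(1,0,1641)],[(1,0,99)]),(54,3,54,25,[(1,0,1627),(1,0,99)],[(1,0,99)]),(1268,5,55,27,[(1,0,1635)],[(1,0,99),(1,0,100)]),(54,6,1271,0,[],[]),(1269,2,1272,0,[],[]),(1272,5,1273,0,[],[]),(1273,6,1274,0,[],[]),(1274,3,1275,0,[],[]),(1275,2,1276,0,[],[]),(1276,5,1277,0,[],[]),(1277,4,1278,0,[],[]),(1278,3,1279,0,[],[]),(1279,2,1280,0,[],[]),(1280,1,1281,0,[],[]),(1281,2,1282,0,[],[]),(1282,3,1283,0,[],[]),(1283,4,1284,0,[],[]),(1284,5,1285,0,[],[]),(1285,2,1286,0,[],[]),(1286,3,1287,0,[],[]),(1287,6,1288,0,[],[]),(1288,5,1289,0,[],[]),(1289,2,1290,0,[],[]),(1290,1,1291,0,[],[]),(1291,0,1292,0,[],[]),(1292,1,1293,0,[],[]),(1293,2,1294,0,[],[]),(1294,5,1295,0,[],[]),(1295,6,1296,0,[],[]),(1296,3,1297,0,[],[]),(1297,2,1298,0,[],[]),(1298,5,1299,0,[],[]),(1299,4,1300,0,[],[]),(1300,3,1301,0,[],[]),(1301,2,1302,0,[],[]),(1302,1,1303,0,[],[]),(1303,2,1304,0,[],[]),(1304,3,1305,0,[],[])]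
def facts1680 : List Fact := [(1305,4,1306,0,[],[]),(1306,5,1307,0,[],[]),(1307,2,1308,0,[],[]),(1308,3,1309,0,[],[]),(1309,6,1310,0,[],[]),(1310,5,1311,0,[],[]),(1311,2,1312,0,[],[]),(1312,1,1313,0,[],[]),(1313,0,1314,0,[],[]),(1314,1,1315,0,[],[]),(1315,2,1316,0,[],[]),(1316,5,1317,0,[],[]),(1317,6,1318,0,[],[]),(1318,3,1319,0,[],[]),(1319,2,1320,0,[],[]),(1320,5,1321,0,[],[]),(1321,4,1322,0,[],[]),(1322,3,1323,0,[],[]),(1323,2,1324,0,[],[]),(1324,1,1325,0,[],[]),(1325,2,1326,0,[],[]),(1326,3,1327,0,[],[]),(1327,4,1328,0,[],[]),(1328,5,1329,0,[],[]),(1329,2,1330,0,[],[]),(1330,3,1331,0,[],[]),(1331,6,1332,0,[],[]),(1332,5,1266,30,[(2,0,1630),(1,0,1639),(1,0,1646),(1,0,1647),(1,0,1648),(1,0,1649),(1,0,1650),(1,0,1651),(1,0,1652),(1,0,1653),(1,0,1654),(1,0,1655),(1,0,1656),(1,0,1657),(1,0,1658),(1,0,1659),(1,0,1660),(1,0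,1661),(1,0,1662),(1,0,1663),(1,0,1664),(1,0,1665),(1,0,1666),(1,0,1667),(1,0,1668),(1,0,1669),(1,0,1670),(1,0,1671),(1,0,1672),(1,0,1673),(1,0,1674),(1,0,1675),(1,0,1676),(1,0,1677),(1,0,1678),(1,0,1679),(1,0,1680),(1,0,1681),(1,0,1682),(1,0,1683),(1,0,1684),(1,0,1685),(1,0,1686),(1,0,1687),(1,0,1688),(1,0,1689),(1,0,1690),(1,0,1691),(1,0,1692),(1,0,1693),(1,0,1694),(1,0,1695),(1,0,1696),(1,0,1697),(1,0,1698),(1,0,1699),(1,0,1700),(1,0,1701),(1,0,1702),(1,0,1703),(1,0,1704),(1,0,1705),(1,0,1706)],[(2,0,1634),(2,0,1633)]),(1240,2,1240,10,[(2,0,1640)],[(1,0,1637),(2,0,1640)]),(1240,3,1240,11,[(2,0,1640)],[(1,0,1643),(2,0,1640)]),(1241,0,55,12,[(2,0,1640),(1,0,1581)],[(1,0,100)]),(1270,4,1333,0,[],[]),(1333,1,55,17,[(2,0,1642),(1,0,1711)],[(1,0,100)]),(55,2,55,21,[(1,0,1637),(1,0,100)],[(1,0,100)]),(56,4,56,24,[(1,0,1643),(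1,0,100),(1,0,101)],[(1,0,100),(1,0,101)]),(55,6,1334,0,[],[]),(1334,4,1271,28,[(1,0,100),(1,0,1715)],[(1,0,1645)]),(1242,0,56,11,[(2,0,1710),(1,0,1582)],[(1,0,101)]),(1333,3,1335,0,[],[]),(1335,1,56,16,[(2,0,1712),(1,0,1718)],[(1,0,101)]),(57,3,57,20,[(1,0,1713),(1,0,101),(1,0,102)],[(1,0,101),(1,0,102)]),(56,6,1336,0,[],[]),(1336,3,1334,26,[(1,0,101),(1,0,1721)],[(1,0,1715)]),(1242,1,1337,0,[],[]),(1243,0,57,10,[(2,0,1717),(1,0,1583)],[(1,0,102)]),(1335,2,1338,0,[],[]),(1338,1,59,15,[(2,0,1719),(1,0,1725)],[(1,0,102),(1,0,103),(1,0,104)]),(57,4,57,21,[(1,0,102)],[(1,0,1714),(1,0,102)]),(57,6,1339,0,[],[]),(1339,2,1336,23,[(1,0,102),(1,0,1728)],[(1,0,1721)]),(1337,2,1340,0,[],[]),(1340,5,1341,0,[],[]),(1341,6,1342,0,[],[]),(1342,3,1343,0,[],[]),(1343,2,1344,0,[],[]),(1344,5,1345,0,[],[]),(1345,4,1346,0,[],[]),(1346,3,1347,0,[],[]),(1347,2,1348,0,[],[]),(1348,1,1349,0,[],[])]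
def facts1740 : List Fact := [(1349,2,1350,0,[],[]),(1350,3,1351,0,[],[]),(1351,4,1352,0,[],[]),(1352,5,1353,0,[],[]),(1353,2,1354,0,[],[]),(1354,3,1355,0,[],[]),(1355,6,1356,0,[],[]),(1356,5,1357,0,[],[]),(1357,2,1358,0,[],[]),(1358,1,1359,0,[],[]),(1359,0,1360,0,[],[]),(1360,1,1361,0,[],[]),(1361,2,1362,0,[],[]),(1362,5,1363,0,[],[]),(1363,6,1364,0,[],[]),(1364,3,1365,0,[],[]),(1365,2,1366,0,[],[]),(1366,5,1367,0,[],[]),(1367,4,1368,0,[],[]),(1368,3,1369,0,[],[]),(1369,2,1370,0,[],[]),(1370,1,1371,0,[],[]),(1371,2,1372,0,[],[]),(1372,3,1373,0,[],[]),(1373,4,1374,0,[],[]),(1374,5,1375,0,[],[]),(1375,2,1376,0,[],[]),(1376,3,1377,0,[],[]),(1377,6,1378,0,[],[]),(1378,5,1379,0,[],[]),(1379,2,1380,0,[],[]),(1380,1,1381,0,[],[]),(1381,0,1382,0,[],[]),(1382,1,1383,0,[],[]),(1383,2,1384,0,[],[]),(1384,5,1385,0,[],[]),(1385,6,13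86,0,[],[]),(1386,3,1387,0,[],[]),(1387,2,1388,0,[],[]),(1388,5,1389,0,[],[]),(1389,4,1390,0,[],[]),(1390,3,1391,0,[],[]),(1391,2,1392,0,[],[]),(1392,1,1393,0,[],[]),(1393,2,1394,0,[],[]),(1394,3,1395,0,[],[]),(1395,4,1396,0,[],[]),(1396,5,1397,0,[],[]),(1397,2,1398,0,[],[]),(1398,3,1399,0,[],[]),(1399,6,1400,0,[],[]),(1400,5,1338,30,[(2,0,1717),(1,0,1723),(1,0,1730),(1,0,1731),(1,0,1732),(1,0,1733),(1,0,1734),(1,0,1735),(1,0,1736),(1,0,1737),(1,0,1738),(1,0,1739),(1,0,1740),(1,0,1741),(1,0,1742),(1,0,1743),(1,0,1744),(1,0,1745),(1,0,1746),(1,0,1747),(1,0,1748),(1,0,1749),(1,0,1750),(1,0,1751),(1,0,1752),(1,0,1753),(1,0,1754),(1,0,1755),(1,0,1756),(1,0,1757),(1,0,1758),(1,0,1759),(1,0,1760),(1,0,1761),(1,0,1762),(1,0,1763),(1,0,1764),(1,0,1765),(1,0,1766),(1,0,1767),(1,0,1768),(1,0,1769),(1,0,1770),(1,0,1771),(1,0,1772),(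1,0,1773),(1,0,1774),(1,0,1775),(1,0,1776),(1,0,1777),(1,0,1778),(1,0,1779),(1,0,1780),(1,0,1781),(1,0,1782),(1,0,1783),(1,0,1784),(1,0,1785),(1,0,1786),(1,0,1787),(1,0,1788),(1,0,1789),(1,0,1790)],[(2,0,1719),(1,0,1725)]),(1244,0,1401,0,[],[]),(1401,1,1402,0,[],[]),(1402,0,58,9,[(2,0,1724),(1,0,1584),(1,0,1792),(1,0,1793)],[(1,0,103)]),(58,3,58,16,[(1,0,103)],[(1,0,1720),(1,0,103)]),(58,4,58,17,[(1,0,103)],[(1,0,1727),(1,0,103)]),(58,5,1403,0,[],[]),(58,6,1404,0,[],[]),(1404,1,1339,19,[(1,0,103),(1,0,1798)],[(1,0,1728)])]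
def facts1800 : List Fact := [(1245,5,1405,0,[],[]),(1405,6,1406,0,[],[]),(1406,3,1407,0,[],[]),(1407,2,1408,0,[],[]),(1408,5,1409,0,[],[]),(1409,4,1410,0,[],[]),(1410,3,1411,0,[],[]),(1411,2,1412,0,[],[]),(1412,1,1413,0,[],[]),(1413,2,1414,0,[],[]),(1414,3,1415,0,[],[]),(1415,4,1416,0,[],[]),(1416,5,1417,0,[],[]),(1417,2,1418,0,[],[]),(1418,3,1419,0,[],[]),(1419,6,1420,0,[],[]),(1420,5,1421,0,[],[]),(1421,2,1422,0,[],[]),(1422,1,1423,0,[],[]),(1423,0,1424,0,[],[]),(1424,1,1425,0,[],[]),(1425,2,1426,0,[],[]),(1426,5,1427,0,[],[]),(1427,6,1428,0,[],[]),(1428,3,1429,0,[],[]),(1429,2,1430,0,[],[]),(1430,5,1431,0,[],[]),(1431,4,1432,0,[],[]),(1432,3,1433,0,[],[]),(1433,2,1434,0,[],[]),(1434,1,1435,0,[],[]),(1435,2,1436,0,[],[]),(1436,3,1437,0,[],[]),(1437,4,1438,0,[],[]),(1438,5,1439,0,[],[]),(1439,2,1440,0,[],[]),(1440,3,14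41,0,[],[]),(1441,6,1442,0,[],[]),(1442,5,1443,0,[],[]),(1443,2,1444,0,[],[]),(1444,1,1445,0,[],[]),(1445,0,1446,0,[],[]),(1446,1,1447,0,[],[]),(1447,2,1448,0,[],[]),(1448,5,1449,0,[],[]),(1449,6,1450,0,[],[]),(1450,3,1451,0,[],[]),(1451,2,1452,0,[],[]),(1452,5,1453,0,[],[]),(1453,4,1454,0,[],[]),(1454,3,1455,0,[],[]),(1455,2,1456,0,[],[]),(1456,1,1457,0,[],[]),(1457,2,1458,0,[],[]),(1458,3,1459,0,[],[]),(1459,4,1460,0,[],[]),(1460,5,1461,0,[],[]),(1461,2,1462,0,[],[]),(1462,3,1463,0,[],[]),(1463,6,1464,0,[],[])]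
def facts1860 : List Fact := [(1464,5,59,30,[(2,0,1724),(1,0,1584),(1,0,1585),(1,0,1800),(1,0,1801),(1,0,1802),(1,0,1803),(1,0,1804),(1,0,1805),(1,0,1806),(1,0,1807),(1,0,1808),(1,0,1809),(1,0,1810),(1,0,1811),(1,0,1812),(1,0,1813),(1,0,1814),(1,0,1815),(1,0,1816),(1,0,1817),(1,0,1818),(1,0,1819),(1,0,1820),(1,0,1821),(1,0,1822),(1,0,1823),(1,0,1824),(1,0,1825),(1,0,1826),(1,0,1827),(1,0,1828),(1,0,1829),(1,0,1830),(1,0,1831),(1,0,1832),(1,0,1833),(1,0,1834),(1,0,1835),(1,0,1836),(1,0,1837),(1,0,1838),(1,0,1839),(1,0,1840),(1,0,1841),(1,0,1842),(1,0,1843),(1,0,1844),(1,0,1845),(1,0,1846),(1,0,1847),(1,0,1848),(1,0,1849),(1,0,1850),(1,0,1851),(1,0,1852),(1,0,1853),(1,0,1854),(1,0,1855),(1,0,1856),(1,0,1857),(1,0,1858),(1,0,1859)],[(1,0,103),(1,0,104)]),(1402,2,1465,0,[],[]),(1465,0,59,10,[(2,0,1794),(1,0,1861)],[(1,0,104)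]),(60,2,60,20,[(1,0,104),(1,0,105)],[(1,0,1795),(1,0,104),(1,0,105)]),(59,4,59,21,[(1,0,104)],[(1,0,1796),(1,0,104)]),(1464,2,1466,0,[],[]),(1466,5,1467,0,[],[]),(1467,2,1403,22,[(1,0,104),(2,0,1860),(1,0,1865),(1,0,1866)],[(1,0,1797)]),(59,6,1468,0,[],[]),(1468,2,1404,23,[(1,0,104),(1,0,1868)],[(1,0,1798)]),(1465,1,1469,0,[],[]),(1469,0,1470,0,[],[]),(1470,1,1471,0,[],[]),(1471,0,1338,9,[(2,0,1862),(1,0,1870),(1,0,1871),(1,0,1872)],[(2,0,1726)]),(1465,3,1472,0,[],[]),(1472,0,60,11,[(2,0,1862),(1,0,1874)],[(1,0,105)]),(1465,5,1473,0,[],[]),(1473,0,1464,13,[(2,0,1862),(1,0,1876)],[(2,0,1860)]),(1338,3,1474,0,[],[]),(1474,1,60,16,[(2,0,1726),(1,0,1878)],[(1,0,105)]),(1400,1,1464,18,[(2,0,1726),(2,0,1791)],[(2,0,1860)]),(61,3,61,24,[(1,0,105),(1,0,106)],[(1,0,1864),(1,0,105),(1,0,106)]),(60,5,1475,0,[],[]),(1475,3,1464,25,[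(1,0,105),(1,0,1882)],[(2,0,1860)]),(60,6,1476,0,[],[]),(1476,3,1468,26,[(1,0,105),(1,0,1884)],[(1,0,1868)]),(1464,4,1464,27,[(1,0,1864),(2,0,1860)],[(2,0,1860)]),(1463,5,1477,0,[],[]),(1477,6,1478,0,[],[]),(1478,5,1468,29,[(2,0,1860),(2,0,1859),(1,0,1887),(1,0,1888)],[(1,0,1868)]),(1472,1,1479,0,[],[]),(1479,0,1480,0,[],[]),(1480,1,1481,0,[],[]),(1481,0,1474,9,[(2,0,1875),(1,0,1890),(1,0,1891),(1,0,1892)],[(2,0,1879)]),(1472,2,1472,10,[(2,0,1875)],[(1,0,1863),(2,0,1875)]),(1472,4,1482,0,[],[]),(1482,0,61,12,[(2,0,1875),(1,0,1895)],[(1,0,106)]),(1472,5,1483,0,[],[]),(1483,0,1475,13,[(2,0,1875),(1,0,1897)],[(1,0,1882)]),(1472,6,1484,0,[],[]),(1484,0,1476,14,[(2,0,1875),(1,0,1899)],[(1,0,1884)]),(1474,2,1485,0,[],[]),(1474,4,1486,0,[],[]),(1486,1,61,17,[(2,0,1879),(1,0,1902)],[(1,0,106)]),(1474,5,1487,0,[],[]),(1487,1,1475,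18,[(2,0,1879),(1,0,1904)],[(1,0,1882)]),(61,2,61,21,[(1,0,1863),(1,0,106)],[(1,0,106)]),(1475,2,1488,0,[],[]),(1488,5,1488,22,[(1,0,1863),(1,0,1882),(1,0,1907)],[(1,0,1882),(1,0,1907)]),(62,4,1475,27,[(1,0,106),(1,0,107)],[(1,0,1882)]),(61,6,1489,0,[],[]),(1489,4,1476,28,[(1,0,106),(1,0,1910)],[(1,0,1884)]),(1475,6,1490,0,[],[]),(1479,2,1491,0,[],[]),(1491,5,1492,0,[],[]),(1492,6,1493,0,[],[]),(1493,3,1494,0,[],[]),(1494,2,1495,0,[],[]),(1495,5,1496,0,[],[]),(1496,4,1497,0,[],[])]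
def facts1920 : List Fact := [(1497,3,1498,0,[],[]),(1498,2,1499,0,[],[]),(1499,1,1500,0,[],[]),(1500,2,1501,0,[],[]),(1501,3,1502,0,[],[]),(1502,4,1503,0,[],[]),(1503,5,1504,0,[],[]),(1504,2,1505,0,[],[]),(1505,3,1506,0,[],[]),(1506,6,1507,0,[],[]),(1507,5,1508,0,[],[]),(1508,2,1509,0,[],[]),(1509,1,1510,0,[],[]),(1510,0,1511,0,[],[]),(1511,1,1512,0,[],[]),(1512,2,1513,0,[],[]),(1513,5,1514,0,[],[]),(1514,6,1515,0,[],[]),(1515,3,1516,0,[],[]),(1516,2,1517,0,[],[]),(1517,5,1518,0,[],[]),(1518,4,1519,0,[],[]),(1519,3,1520,0,[],[]),(1520,2,1521,0,[],[]),(1521,1,1522,0,[],[]),(1522,2,1523,0,[],[]),(1523,3,1524,0,[],[]),(1524,4,1525,0,[],[]),(1525,5,1526,0,[],[]),(1526,2,1527,0,[],[]),(1527,3,1528,0,[],[]),(1528,6,1529,0,[],[]),(1529,5,1530,0,[],[]),(1530,2,1531,0,[],[]),(1531,1,1532,0,[],[]),(1532,0,1533,0,[],[]),(1533,1,15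34,0,[],[]),(1534,2,1535,0,[],[]),(1535,5,1536,0,[],[]),(1536,6,1537,0,[],[]),(1537,3,1538,0,[],[]),(1538,2,1539,0,[],[]),(1539,5,1540,0,[],[]),(1540,4,1541,0,[],[]),(1541,3,1542,0,[],[]),(1542,2,1543,0,[],[]),(1543,1,1544,0,[],[]),(1544,2,1545,0,[],[]),(1545,3,1546,0,[],[]),(1546,4,1547,0,[],[]),(1547,5,1548,0,[],[]),(1548,2,1549,0,[],[]),(1549,3,1550,0,[],[]),(1550,6,1551,0,[],[]),(1551,5,1485,30,[(2,0,1875),(1,0,1890),(1,0,1913),(1,0,1914),(1,0,1915),(1,0,1916),(1,0,1917),(1,0,1918),(1,0,1919),(1,0,1920),(1,0,1921),(1,0,1922),(1,0,1923),(1,0,1924),(1,0,1925),(1,0,1926),(1,0,1927),(1,0,1928),(1,0,1929),(1,0,1930),(1,0,1931),(1,0,1932),(1,0,1933),(1,0,1934),(1,0,1935),(1,0,1936),(1,0,1937),(1,0,1938),(1,0,1939),(1,0,1940),(1,0,1941),(1,0,1942),(1,0,1943),(1,0,1944),(1,0,1945),(1,0,1946),(1,0,1947),(1,0,1948),(1,0,1949),(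1,0,1950),(1,0,1951),(1,0,1952),(1,0,1953),(1,0,1954),(1,0,1955),(1,0,1956),(1,0,1957),(1,0,1958),(1,0,1959),(1,0,1960),(1,0,1961),(1,0,1962),(1,0,1963),(1,0,1964),(1,0,1965),(1,0,1966),(1,0,1967),(1,0,1968),(1,0,1969),(1,0,1970),(1,0,1971),(1,0,1972),(1,0,1973)],[(2,0,1879),(1,0,1901)]),(1482,1,1552,0,[],[]),(1552,0,1553,0,[],[]),(1553,1,1554,0,[],[]),(1554,0,1486,9,[(2,0,1896),(1,0,1975),(1,0,1976),(1,0,1977)],[(2,0,1903)]),(1482,2,1482,10,[(2,0,1896)],[(1,0,1906),(2,0,1896)])]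
def facts1980 : List Fact := [(1482,3,1482,11,[(2,0,1896)],[(1,0,1881),(2,0,1896)]),(1482,5,1555,0,[],[]),(1555,0,62,13,[(2,0,1896),(1,0,1981)],[(1,0,107)]),(1482,6,1556,0,[],[]),(1556,0,1489,14,[(2,0,1896),(1,0,1983)],[(1,0,1910)]),(1486,5,162,18,[(2,0,1903)],[(1,0,107),(1,0,341),(1,0,238)]),(62,3,62,25,[(1,0,1881),(1,0,107)],[(1,0,107)]),(62,6,1557,0,[],[]),(1557,5,1558,0,[],[]),(1558,6,1559,0,[],[]),(1559,5,1489,29,[(1,0,107),(1,0,1987),(1,0,1988),(1,0,1989)],[(1,0,1910)]),(1555,1,1560,0,[],[]),(1560,0,1561,0,[],[]),(1561,1,1562,0,[],[]),(1562,0,162,9,[(2,0,1982),(1,0,1991),(1,0,1992),(1,0,1993)],[(1,0,341),(1,0,238)]),(1555,2,1563,0,[],[]),(1563,0,63,10,[(2,0,1982),(1,0,1995)],[(1,0,108)]),(1555,3,1555,11,[(2,0,1982)],[(1,0,1986),(2,0,1982)]),(1555,4,1483,12,[(2,0,1982)],[(1,0,1909),(2,0,1898)]),(1555,6,1564,0,[],[])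,(163,1,1565,0,[],[]),(1565,2,1566,0,[],[]),(1566,1,63,15,[(1,0,341),(1,0,238),(1,0,239),(1,0,2000),(1,0,2001)],[(1,0,108)]),(162,4,1487,17,[(1,0,341),(1,0,238)],[(1,0,1909),(2,0,1905)]),(162,6,1567,0,[],[]),(1567,1,1557,19,[(1,0,341),(1,0,238),(1,0,2004)],[(1,0,1987)]),(63,4,1488,21,[(1,0,108)],[(1,0,1909),(1,0,1907)]),(271,7,62,23,[(1,0,108),(1,0,337),(2,0,231),(1,0,219),(1,0,403)],[]),(61,7,272,1,[(1,0,107),(2,0,2007),(1,0,404)],[]),(1557,7,151,1,[(2,0,1987),(2,0,2007),(2,0,403)],[]),(61,7,273,1,[(2,0,1906),(1,0,2008),(1,0,405)],[]),(152,7,1567,1,[(2,0,220),(2,0,2009),(2,0,2005)],[]),(151,7,1558,1,[(2,0,276),(2,0,2009),(1,0,1988)],[]),(1486,7,274,1,[(1,0,1903),(1,0,2010),(1,0,406)],[]),(271,7,1559,1,[(2,0,403),(1,0,2012),(1,0,1989)],[]),(275,7,1554,1,[(2,0,407),(2,0,2013),(2,0,1978)],[]),(61,7,1489,1,[(1,0,107),(2,0,20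07),(1,0,2014),(1,0,1990)],[]),(276,7,1553,1,[(2,0,408),(1,0,2015),(2,0,1977)],[]),(1482,7,1556,1,[(1,0,1896),(1,0,2016),(2,0,1984)],[]),(60,7,1476,1,[(1,0,106),(1,0,2016),(1,0,1911)],[]),(1472,7,1484,1,[(1,0,1875),(1,0,2019),(2,0,1900)],[]),(59,7,1468,1,[(1,0,105),(1,0,2019),(1,0,1885)],[]),(58,7,1404,1,[(1,0,104),(1,0,2021),(1,0,1869)],[]),(1464,7,1478,1,[(1,0,1860),(1,0,2021),(2,0,1889)],[]),(57,7,1339,1,[(1,0,103),(1,0,2022),(1,0,1799)],[]),(1463,7,1477,1,[(1,0,1859),(1,0,2023),(2,0,1888)],[]),(56,7,1336,1,[(1,0,102),(1,0,2024),(1,0,1729)],[]),(55,7,1334,1,[(1,0,101),(1,0,2026),(1,0,1722)],[]),(54,7,1271,1,[(1,0,100),(1,0,2027),(1,0,1716)],[]),(1490,4,1557,28,[(1,0,1909),(1,0,1912)],[(1,0,1987)]),(1560,2,1568,0,[],[]),(1568,5,1569,0,[],[]),(1569,6,1570,0,[],[]),(1570,3,1571,0,[],[]),(1571,2,1572,0,[],[]),(1572,5,1573,0,[],[]),(1573,4,1574,0,[],[]),(1563,1,1575,0,[],[]),(1575,0,1576,0,[],[]),(1576,1,1577,0,[],[])]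
def facts2040 : List Fact := [(1577,0,1566,9,[(2,0,1996),(1,0,2037),(1,0,2038),(1,0,2039)],[(2,0,2002)]),(1563,7,67,11,[(2,0,1996)],[(1,0,109),(2,0,332),(1,0,118)]),(68,7,1555,1,[(2,0,119),(2,0,2041),(2,0,1995)],[]),(69,7,1482,1,[(2,0,120),(1,0,2042),(2,0,1981)],[]),(70,7,1472,1,[(2,0,121),(1,0,2043),(2,0,1895)],[]),(71,7,1465,1,[(2,0,122),(1,0,2044),(2,0,1874)],[]),(72,7,1402,1,[(2,0,123),(1,0,2045),(2,0,1861)],[]),(73,7,1401,1,[(2,0,124),(1,0,2046),(2,0,1793)],[]),(67,4,1578,0,[],[]),(1578,0,1488,12,[(2,0,1996),(1,0,2041),(1,0,2048)],[(1,0,2006)]),(1563,7,172,14,[(2,0,1996)],[(1,0,337),(2,0,231),(2,0,275),(1,0,272),(1,0,280)]),(66,7,173,1,[(1,0,118),(2,0,2041),(1,0,2050),(1,0,281)],[]),(1578,7,270,1,[(2,0,2048),(2,0,2041),(1,0,2050),(1,0,459)],[]),(315,7,1488,1,[(1,0,450),(2,0,2052),(1,0,2049)],[]),(1566,7,147,16,[(2,0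,2002)],[(1,0,109),(1,0,250),(2,0,208)]),(269,7,63,1,[(1,0,389),(2,0,2054),(1,0,2002)],[]),(147,7,1565,1,[(2,0,207),(1,0,265),(2,0,2054),(2,0,2001)],[]),(62,7,268,1,[(1,0,108),(2,0,2055),(2,0,388)],[]),(269,7,163,1,[(1,0,389),(1,0,2056),(2,0,2000)],[]),(62,7,267,1,[(2,0,1986),(1,0,2057),(2,0,387)],[]),(62,7,162,1,[(1,0,108),(2,0,2055),(1,0,2058),(2,0,239)],[]),(1475,7,266,1,[(2,0,1909),(1,0,2059),(2,0,386)],[]),(1555,7,1562,1,[(1,0,1982),(1,0,2060),(2,0,1994)],[]),(1475,7,1487,1,[(2,0,1909),(1,0,2060),(1,0,2003)],[]),(61,7,1486,1,[(1,0,107),(1,0,2060),(2,0,1985)],[]),(1557,7,1567,1,[(2,0,1987),(1,0,2060),(1,0,2004)],[]),(265,7,60,1,[(1,0,385),(2,0,2061),(2,0,1882)],[]),(1560,7,1561,1,[(2,0,1991),(1,0,2062),(2,0,1993)],[]),(265,7,1474,1,[(1,0,385),(2,0,2061),(1,0,2063),(2,0,1904)],[]),(1482,7,275,1,[(1,0,1896),(1,0,2064),(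1,0,2013),(1,0,407)],[]),(60,7,264,1,[(2,0,1863),(2,0,2066),(2,0,384)],[]),(1472,7,1481,1,[(1,0,1875),(2,0,2066),(1,0,2068),(2,0,1893)],[]),(60,7,1485,1,[(2,0,1863),(2,0,2066),(1,0,2068),(1,0,1901)],[]),(59,7,1338,1,[(1,0,105),(2,0,2066),(1,0,2068),(2,0,1878)],[]),(1552,7,276,1,[(2,0,1975),(1,0,2069),(1,0,408)],[]),(59,7,263,1,[(1,0,105),(1,0,2070),(2,0,383)],[]),(1479,7,1480,1,[(2,0,1890),(1,0,2071),(2,0,1892)],[]),(1475,7,1551,1,[(2,0,1882),(1,0,2072),(2,0,1974)],[]),(1465,7,1471,1,[(1,0,1862),(1,0,2073),(2,0,1873)],[]),(58,7,1335,1,[(1,0,104),(1,0,2073),(2,0,1725)],[]),(1464,7,1400,1,[(1,0,1860),(1,0,2073),(2,0,1791)],[]),(1468,7,262,1,[(2,0,1868),(1,0,2075),(2,0,382)],[]),(1490,7,1550,1,[(2,0,1912),(1,0,2077),(2,0,1973)],[]),(1469,7,1470,1,[(2,0,1870),(1,0,2078),(2,0,1872)],[]),(57,7,56,1,[(1,0,103),(1,0,2079),(1,0,17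19)],[]),(58,7,1333,1,[(2,0,1795),(1,0,2079),(2,0,1718)],[]),(1399,7,1463,1,[(1,0,1790),(2,0,2080),(2,0,1859)],[]),(1464,7,261,1,[(1,0,1860),(1,0,2021),(1,0,2081),(2,0,381)],[]),(55,7,57,1,[(1,0,101),(2,0,2084),(1,0,1720)],[]),(58,7,1270,1,[(2,0,1796),(1,0,2085),(2,0,1711)],[]),(260,7,1466,1,[(1,0,380),(2,0,2087),(1,0,1865)],[]),(54,7,56,1,[(1,0,100),(1,0,2088),(1,0,2084),(1,0,1714)],[]),(1403,7,1267,1,[(2,0,1797),(1,0,2089),(2,0,1641)],[]),(53,7,1268,1,[(1,0,99),(1,0,2091),(2,0,2084),(2,0,2088),(2,0,1644)],[]),(1266,7,1467,1,[(1,0,1633),(2,0,2092),(2,0,1867)],[]),(52,7,1264,1,[(1,0,98),(1,0,2093),(1,0,1636)],[]),(1332,7,1466,1,[(1,0,1707),(1,0,2094),(2,0,1866)],[]),(144,1,1488,17,[(2,0,2002),(1,0,2054),(1,0,254),(2,0,266),(2,0,205)],[(1,0,2006)]),(1575,2,1579,0,[],[]),(1579,5,1580,0,[],[])]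
def facts2100 : List Fact := [(1580,6,1581,0,[],[]),(1581,3,1582,0,[],[]),(1582,2,1583,0,[],[]),(1583,5,1584,0,[],[]),(1584,4,1585,0,[],[]),(1585,3,1586,0,[],[]),(1586,2,1587,0,[],[]),(1587,1,1588,0,[],[]),(1588,2,1589,0,[],[]),(1589,3,1590,0,[],[]),(1590,4,1591,0,[],[]),(1591,5,1592,0,[],[]),(1592,2,1593,0,[],[]),(1593,3,1594,0,[],[]),(1594,6,1595,0,[],[]),(1595,5,1596,0,[],[]),(1596,2,1597,0,[],[]),(1597,1,1598,0,[],[]),(1598,0,1599,0,[],[]),(1599,1,1600,0,[],[]),(1600,2,1601,0,[],[]),(1601,5,1602,0,[],[]),(1602,6,1603,0,[],[]),(1603,3,1604,0,[],[]),(1604,2,1605,0,[],[]),(1605,5,1606,0,[],[]),(1606,4,1607,0,[],[]),(1607,3,1608,0,[],[]),(1608,2,1609,0,[],[]),(1609,1,1610,0,[],[]),(1610,2,1611,0,[],[]),(1611,3,1612,0,[],[]),(1612,4,1613,0,[],[]),(1613,5,1614,0,[],[]),(1614,2,1615,0,[],[]),(1615,3,1616,0,[],[]),(1616,6,16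17,0,[],[]),(1617,5,1618,0,[],[]),(1618,2,377,30,[(2,0,1996),(1,0,2037),(1,0,2098),(1,0,2099),(1,0,2100),(1,0,2101),(1,0,2102),(1,0,2103),(1,0,2104),(1,0,2105),(1,0,2106),(1,0,2107),(1,0,2108),(1,0,2109),(1,0,2110),(1,0,2111),(1,0,2112),(1,0,2113),(1,0,2114),(1,0,2115),(1,0,2116),(1,0,2117),(1,0,2118),(1,0,2119),(1,0,2120),(1,0,2121),(1,0,2122),(1,0,2123),(1,0,2124),(1,0,2125),(1,0,2126),(1,0,2127),(1,0,2128),(1,0,2129),(1,0,2130),(1,0,2131),(1,0,2132),(1,0,2133),(1,0,2134),(1,0,2135),(1,0,2136),(1,0,2137)],[(2,0,2002),(1,0,2054),(2,0,265),(1,0,207),(1,0,254),(2,0,266),(1,0,206),(1,0,265),(1,0,254),(2,0,229),(1,0,215),(1,0,35),(1,0,40),(1,0,39),(1,0,38),(2,0,35),(1,0,147),(1,0,59),(2,0,151),(1,0,256),(2,0,277),(1,0,245),(1,0,149),(1,0,278),(1,0,277),(2,0,334),(1,0,258),(1,0,259),(1,0,520),(1,0,521)]),(66,1,66,9,[(2,0,332)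],[(1,0,250),(1,0,249),(2,0,250),(2,0,332)]),(174,7,66,10,[(2,0,332),(1,0,2051),(1,0,282)],[(1,0,264),(2,0,332)]),(66,7,175,1,[(2,0,273),(2,0,2140),(1,0,283)],[]),(176,7,66,12,[(2,0,332),(1,0,2141),(1,0,284)],[(1,0,338),(1,0,235),(1,0,339),(2,0,332)]),(67,7,177,1,[(2,0,118),(2,0,2142),(1,0,285)],[]),(68,7,178,1,[(2,0,119),(1,0,2143),(1,0,286)],[]),(1560,7,179,1,[(2,0,1991),(2,0,2042),(1,0,2144),(1,0,287)],[]),(180,7,1568,1,[(2,0,288),(2,0,2145),(1,0,2030)],[]),(449,3,1619,0,[],[]),(1619,4,1620,0,[],[]),(1620,5,1621,0,[],[]),(1621,2,1622,0,[],[]),(1622,3,1623,0,[],[]),(1623,6,1624,0,[],[]),(1624,5,1625,0,[],[]),(1625,2,1626,0,[],[]),(1626,1,1627,0,[],[]),(1627,0,1628,0,[],[]),(1628,1,1629,0,[],[]),(1629,2,1630,0,[],[]),(1630,5,1631,0,[],[])]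
def facts2160 : List Fact := [(1631,6,1632,0,[],[]),(1632,3,1633,0,[],[]),(1633,2,1634,0,[],[]),(1634,5,1635,0,[],[]),(1635,4,1636,0,[],[]),(1636,3,1637,0,[],[]),(1637,2,1638,0,[],[]),(1638,1,1639,0,[],[]),(1639,2,1640,0,[],[]),(1640,3,1641,0,[],[]),(1641,4,1642,0,[],[]),(1642,5,1643,0,[],[]),(1643,2,1644,0,[],[]),(1644,3,1645,0,[],[]),(1645,6,1646,0,[],[]),(1646,5,1647,0,[],[]),(1647,2,1648,0,[],[]),(1648,1,1649,0,[],[]),(1649,0,1650,0,[],[]),(1650,1,1651,0,[],[]),(1651,2,1477,30,[(2,0,332),(1,0,2139),(1,0,2051),(1,0,282),(1,0,2140),(1,0,273),(2,0,117),(2,0,269),(1,0,272),(1,0,157),(1,0,393),(2,0,454),(1,0,65),(1,0,453),(2,0,529),(1,0,611),(1,0,2147),(1,0,2148),(1,0,2149),(1,0,2150),(1,0,2151),(1,0,2152),(1,0,2153),(1,0,2154),(1,0,2155),(1,0,2156),(1,0,2157),(1,0,2158),(1,0,2159),(1,0,2160),(1,0,2161),(1,0,2162),(1,0,21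63),(1,0,2164),(1,0,2165),(1,0,2166),(1,0,2167),(1,0,2168),(1,0,2169),(1,0,2170),(1,0,2171),(1,0,2172),(1,0,2173),(1,0,2174),(1,0,2175),(1,0,2176),(1,0,2177),(1,0,2178),(1,0,2179)],[(1,0,250),(2,0,251),(1,0,42),(1,0,48),(1,0,46),(1,0,45),(2,0,42),(1,0,263),(1,0,262),(1,0,251),(2,0,250),(1,0,264),(2,0,109),(1,0,2006),(1,0,1908),(2,0,1907),(1,0,1883),(1,0,2080),(2,0,1790),(1,0,2086),(1,0,1887)]),(384,7,97,20,[(1,0,115),(2,0,269),(1,0,272),(1,0,157),(2,0,537)],[(2,0,269),(1,0,272),(1,0,157)]),(19,7,383,1,[(1,0,454),(2,0,2181),(2,0,536)],[]),(20,7,382,1,[(2,0,65),(1,0,2182),(2,0,535)],[]),(378,7,447,1,[(1,0,524),(1,0,2183),(2,0,607)],[]),(228,7,229,1,[(1,0,529),(1,0,2183),(2,0,613)],[]),(21,7,451,1,[(2,0,66),(1,0,2183),(1,0,619)],[]),(228,7,230,1,[(2,0,614),(1,0,2185),(1,0,349)],[]),(450,7,514,1,[(1,0,616),(1,0,2186),(2,0,690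)],[]),(22,7,372,1,[(2,0,67),(1,0,2186),(1,0,695)],[]),(449,7,231,1,[(2,0,611),(1,0,2187),(1,0,350)],[]),(515,7,523,1,[(1,0,692),(1,0,2189),(2,0,708)],[]),(23,7,527,1,[(2,0,68),(1,0,2189),(2,0,714)],[]),(311,7,371,1,[(1,0,694),(1,0,2189),(2,0,515)],[]),(232,7,1619,1,[(2,0,351),(2,0,2190),(1,0,2147)],[]),(24,7,591,1,[(2,0,69),(1,0,2192),(2,0,784)],[]),(526,7,370,1,[(1,0,712),(1,0,2193),(2,0,514)],[]),(310,7,309,1,[(1,0,443),(1,0,2193),(2,0,716)],[]),(25,7,605,1,[(2,0,70),(1,0,2195),(2,0,803)],[]),(521,7,609,1,[(1,0,704),(1,0,2195),(2,0,811)],[]),(26,7,613,1,[(2,0,71),(1,0,2198),(2,0,817)],[]),(1575,7,67,16,[(1,0,2139),(1,0,118),(2,0,2041),(1,0,2037)],[(1,0,118)]),(63,7,1576,1,[(2,0,1996),(1,0,2041),(2,0,2201),(1,0,2038)],[]),(68,7,1579,1,[(2,0,119),(2,0,2201),(1,0,2098)],[]),(1566,7,1577,1,[(1,0,2002),(1,0,2202),(1,0,2039)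],[]),(69,7,1580,1,[(2,0,120),(1,0,2203),(1,0,2099)],[]),(1556,7,1581,1,[(2,0,1983),(2,0,2043),(1,0,2205),(1,0,2100)],[]),(1482,7,1582,1,[(2,0,1980),(1,0,2018),(1,0,2206),(1,0,2101)],[]),(1482,7,1583,1,[(2,0,1979),(1,0,2207),(1,0,2102)],[]),(68,7,1584,1,[(1,0,120),(1,0,2043),(1,0,2208),(1,0,2103)],[]),(1483,7,1585,1,[(2,0,1998),(2,0,2042),(1,0,2209),(1,0,2104)],[]),(180,7,1560,15,[(2,0,2041),(1,0,2037),(1,0,2201),(1,0,119),(1,0,2042),(1,0,1991),(1,0,2145),(1,0,288)],[(1,0,119),(1,0,2042),(1,0,1991)]),(1483,7,316,21,[(1,0,119),(1,0,2042),(1,0,1998)],[(1,0,2048),(1,0,2052),(2,0,456)]),(380,7,1475,1,[(1,0,528),(2,0,2212),(1,0,1898)],[]),(375,7,1586,1,[(1,0,519),(2,0,2212),(1,0,2210),(1,0,2105)],[]),(385,7,1555,1,[(1,0,541),(2,0,2212),(2,0,1998)],[]),(311,7,1472,1,[(1,0,444),(2,0,458),(2,0,2212),(2,0,1897)],[]),(1464,7,448,1,[(2,0,1883),(2,0,2213),(2,0,685)],[]),(1490,7,168,1,[(2,0,1912),(2,0,2213),(2,0,527)],[]),(374,7,1587,1,[(1,0,518),(1,0,2214),(1,0,2106)],[])]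
def facts2220 : List Fact := [(1564,7,97,1,[(2,0,1999),(2,0,2215),(2,0,540)],[]),(1479,7,522,1,[(2,0,1890),(2,0,2216),(2,0,706)],[]),(1472,7,526,1,[(2,0,1894),(2,0,2216),(2,0,712)],[]),(71,7,22,1,[(2,0,122),(1,0,2044),(2,0,2216),(1,0,694)],[]),(69,7,310,1,[(1,0,121),(1,0,2044),(2,0,2216),(2,0,443)],[]),(1473,7,21,1,[(1,0,1877),(1,0,2217),(1,0,610)],[]),(260,7,448,1,[(1,0,380),(2,0,2087),(1,0,2217),(1,0,684)],[]),(262,7,513,1,[(2,0,381),(2,0,2087),(1,0,2217),(1,0,686)],[]),(1399,7,378,1,[(1,0,1790),(2,0,2080),(1,0,2217),(2,0,609)],[]),(378,7,1549,1,[(2,0,523),(2,0,2218),(1,0,2082),(2,0,1972)],[]),(379,7,1557,1,[(2,0,525),(2,0,2218),(1,0,2029)],[]),(450,7,1588,1,[(1,0,616),(2,0,617),(1,0,2219),(1,0,2107)],[]),(1479,7,369,1,[(2,0,1890),(1,0,2222),(1,0,2196),(2,0,513)],[]),(71,7,525,1,[(2,0,122),(1,0,2044),(1,0,2222),(2,0,71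1)],[]),(515,7,1469,1,[(1,0,692),(2,0,2223),(1,0,2045),(1,0,1870)],[]),(23,7,72,1,[(2,0,68),(2,0,2223),(1,0,123)],[]),(1482,7,308,1,[(2,0,1979),(2,0,2043),(1,0,2224),(1,0,2197),(2,0,441)],[]),(259,7,1464,1,[(1,0,379),(1,0,2226),(2,0,2217),(1,0,2080),(1,0,1880)],[]),(1467,7,262,1,[(2,0,1866),(2,0,2090),(1,0,2226),(2,0,2217),(1,0,2087),(1,0,381)],[]),(1331,7,1399,1,[(1,0,1706),(1,0,2096),(2,0,2090),(1,0,2226),(2,0,2217),(1,0,2080),(2,0,1790)],[]),(58,7,519,1,[(1,0,104),(1,0,2021),(1,0,2081),(1,0,2227),(1,0,700)],[]),(378,7,1651,1,[(2,0,605),(2,0,2228),(1,0,2086),(1,0,2025),(2,0,2180)],[]),(378,7,1548,1,[(2,0,605),(1,0,2229),(2,0,1971)],[]),(442,7,1589,1,[(1,0,599),(2,0,688),(1,0,2231),(1,0,2108)],[]),(368,7,1491,1,[(1,0,512),(2,0,2232),(1,0,1913)],[]),(23,7,524,1,[(2,0,68),(2,0,2223),(1,0,2233),(2,0,710)],[]),(518,7,1470,1,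[(1,0,699),(1,0,2234),(1,0,1871)],[]),(24,7,73,1,[(2,0,69),(1,0,2235),(1,0,124)],[]),(1552,7,307,1,[(2,0,1975),(1,0,2236),(2,0,440)],[]),(258,7,1473,1,[(1,0,378),(1,0,2237),(2,0,1877)],[]),(1338,7,1265,1,[(1,0,1726),(1,0,2021),(1,0,2081),(2,0,2238),(2,0,2094),(2,0,1632)],[]),(58,7,1267,1,[(1,0,104),(1,0,2021),(1,0,2081),(2,0,2238),(2,0,2094),(1,0,1633)],[]),(57,7,589,1,[(1,0,103),(1,0,2240),(1,0,779)],[]),(444,7,1650,1,[(2,0,601),(1,0,2241),(2,0,2179)],[]),(378,7,1547,1,[(2,0,608),(1,0,2242),(2,0,1970)],[]),(24,7,590,1,[(2,0,69),(1,0,2245),(2,0,782)],[]),(25,7,1244,1,[(2,0,70),(1,0,2247),(1,0,2047),(2,0,1792)],[]),(521,7,74,1,[(1,0,704),(1,0,2247),(1,0,125)],[]),(277,7,306,1,[(2,0,409),(2,0,2074),(1,0,2248),(2,0,439)],[]),(450,7,257,1,[(1,0,616),(2,0,2225),(2,0,2249),(2,0,377)],[]),(58,7,1263,1,[(1,0,104),(1,0,2073),(1,0,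2250),(2,0,1631)],[]),(57,7,53,1,[(1,0,103),(1,0,2251),(1,0,1634)],[]),(1240,7,26,1,[(1,0,1640),(1,0,2091),(2,0,2084),(1,0,2252),(1,0,780)],[]),(445,7,1649,1,[(2,0,602),(1,0,2253),(2,0,2178)],[]),(447,7,1546,1,[(2,0,606),(1,0,2254),(2,0,1969)],[]),(25,7,604,1,[(2,0,70),(1,0,2255),(2,0,801)],[]),(521,7,608,1,[(1,0,704),(1,0,2255),(2,0,809)],[]),(603,7,1245,1,[(2,0,798),(1,0,2256),(1,0,1585)],[]),(75,7,606,1,[(2,0,126),(2,0,2257),(1,0,806)],[]),(256,7,442,1,[(1,0,376),(2,0,2259),(1,0,688),(2,0,599)],[]),(57,7,52,1,[(1,0,103),(1,0,2260),(1,0,1626)],[]),(58,7,1260,1,[(2,0,1795),(1,0,2260),(2,0,1625)],[]),(1239,7,1240,1,[(1,0,1630),(2,0,2261),(1,0,2084),(2,0,2091),(2,0,1640)],[]),(1261,7,1271,1,[(2,0,1638),(2,0,2261),(1,0,2084),(2,0,2091),(1,0,1645)],[]),(27,7,1240,1,[(2,0,72),(2,0,2262),(1,0,1708)],[]),(612,7,1240,1,[(2,0,815),(2,0,2262),(1,0,1709)],[]),(446,7,1648,1,[(2,0,603),(1,0,2263),(2,0,2177)],[]),(168,7,1545,1,[(1,0,523),(1,0,2184),(1,0,2264),(2,0,1968)],[]),(603,7,616,1,[(2,0,798),(1,0,2265),(2,0,823)],[]),(75,7,607,1,[(2,0,126),(2,0,2257),(1,0,2266),(2,0,808)],[])]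
def facts2280 : List Fact := [(614,7,1246,1,[(2,0,820),(1,0,2267),(1,0,1586)],[]),(255,7,441,1,[(1,0,375),(1,0,2269),(2,0,598)],[]),(1238,7,1239,1,[(1,0,1624),(2,0,2270),(1,0,2261),(2,0,1630)],[]),(51,7,53,1,[(1,0,97),(2,0,2270),(1,0,2261),(1,0,1627)],[]),(1258,7,1261,1,[(1,0,1621),(2,0,2270),(1,0,2261),(1,0,1638)],[]),(1404,7,1257,1,[(2,0,1798),(1,0,2271),(2,0,1617)],[]),(25,7,610,1,[(1,0,71),(2,0,2262),(2,0,2274),(1,0,812)],[]),(612,7,618,1,[(2,0,815),(2,0,2262),(2,0,2274),(1,0,828)],[]),(167,7,1544,1,[(1,0,258),(1,0,2277),(2,0,1967)],[]),(614,7,615,1,[(2,0,820),(1,0,2278),(2,0,822)],[]),(612,7,1237,1,[(2,0,815),(2,0,2262),(2,0,2272),(2,0,2282),(2,0,1578)],[]),(1262,7,1264,1,[(1,0,1623),(1,0,2283),(2,0,2261),(1,0,2270),(1,0,1628)],[]),(50,7,1258,1,[(1,0,96),(1,0,2283),(2,0,2261),(1,0,2270),(2,0,1621)],[]),(51,7,1255,1,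[(2,0,1615),(1,0,2283),(2,0,2261),(1,0,2084),(2,0,2091),(1,0,2028),(2,0,2273),(2,0,2284),(2,0,1611)],[]),(1403,7,1251,1,[(2,0,1797),(1,0,2022),(1,0,2285),(2,0,1609)],[]),(603,7,611,1,[(2,0,798),(1,0,2286),(1,0,813)],[]),(26,7,624,1,[(2,0,818),(2,0,2262),(2,0,2275),(1,0,2287),(1,0,838)],[]),(314,7,1543,1,[(2,0,447),(2,0,334),(1,0,2288),(2,0,1966)],[]),(26,7,1236,1,[(2,0,819),(2,0,2262),(2,0,2275),(1,0,2290),(2,0,1577)],[]),(50,7,1259,1,[(1,0,96),(1,0,2283),(2,0,2261),(1,0,2270),(1,0,2095),(2,0,2291),(2,0,1622)],[]),(49,7,51,1,[(1,0,95),(1,0,2292),(1,0,2284),(1,0,2273),(2,0,2028),(1,0,2091),(2,0,2084),(1,0,2261),(2,0,2283),(1,0,1615)],[]),(59,7,1252,1,[(2,0,104),(1,0,2251),(2,0,2092),(1,0,2294),(1,0,1595)],[]),(27,7,626,1,[(2,0,72),(1,0,2296),(1,0,844)],[]),(317,7,1542,1,[(2,0,460),(1,0,2297),(2,0,1965)],[]),(26,7,1235,1,[(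2,0,818),(1,0,2298),(2,0,1576)],[]),(49,7,1256,1,[(1,0,95),(1,0,2299),(2,0,1613)],[]),(48,7,50,1,[(1,0,94),(1,0,2300),(1,0,2283),(2,0,2261),(1,0,2084),(2,0,2091),(1,0,2028),(2,0,2273),(2,0,2284),(2,0,2292),(1,0,1606)],[]),(1338,7,1248,1,[(1,0,1726),(1,0,2301),(1,0,1596)],[]),(25,7,634,1,[(1,0,71),(2,0,2262),(2,0,2274),(1,0,2302),(2,0,866)],[]),(613,7,636,1,[(2,0,816),(2,0,2262),(2,0,2274),(1,0,2302),(2,0,871)],[]),(27,7,1234,1,[(2,0,72),(1,0,2304),(2,0,1575)],[]),(48,7,1254,1,[(1,0,94),(1,0,2305),(1,0,1605)],[]),(47,7,1251,1,[(1,0,93),(1,0,2306),(1,0,2292),(1,0,2284),(1,0,2273),(2,0,2028),(1,0,2091),(2,0,2084),(1,0,2261),(2,0,2283),(2,0,2300),(1,0,1594)],[]),(1253,7,1255,1,[(2,0,1597),(1,0,2306),(1,0,2292),(1,0,2284),(1,0,2273),(2,0,2028),(1,0,2091),(2,0,2084),(1,0,2261),(2,0,2283),(2,0,2300),(1,0,1603)],[]),(1465,7,1167,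1,[(1,0,1862),(1,0,2073),(1,0,2307),(1,0,1589)],[]),(25,7,630,1,[(2,0,805),(1,0,2308),(2,0,865)],[]),(26,7,631,1,[(2,0,819),(1,0,2200),(1,0,2309),(2,0,870)],[]),(25,7,1165,1,[(1,0,71),(2,0,2262),(2,0,2274),(1,0,2310),(2,0,1571)],[]),(47,7,1250,1,[(1,0,93),(1,0,2311),(1,0,1599)],[]),(1249,7,58,1,[(2,0,1590),(1,0,2312),(2,0,2294),(1,0,2092),(2,0,2251),(1,0,1795)],[]),(515,7,1166,1,[(1,0,692),(2,0,2223),(1,0,2045),(1,0,2314),(2,0,1497)],[]),(605,7,632,1,[(2,0,802),(1,0,2315),(1,0,861)],[]),(612,7,635,1,[(2,0,815),(1,0,2316),(1,0,867)],[]),(24,7,45,1,[(1,0,70),(1,0,2317),(1,0,1495)],[]),(603,7,1144,1,[(2,0,798),(1,0,2317),(2,0,1494)],[]),(520,7,1146,1,[(2,0,702),(1,0,2320),(2,0,1496)],[]),(443,7,1233,1,[(1,0,691),(1,0,2320),(2,0,1570)],[]),(25,7,637,1,[(2,0,804),(1,0,2198),(1,0,2321),(2,0,880)],[]),(25,7,641,1,[(1,0,71),(2,0,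2262),(2,0,2275),(1,0,2322),(2,0,888)],[]),(26,7,34,1,[(2,0,818),(2,0,2262),(2,0,2275),(1,0,2322),(2,0,882)],[]),(521,7,44,1,[(1,0,704),(1,0,2323),(2,0,90)],[]),(617,7,1074,1,[(2,0,824),(1,0,2324),(2,0,1467)],[]),(588,7,1077,1,[(1,0,778),(1,0,2325),(2,0,1471)],[]),(228,7,1232,1,[(1,0,615),(1,0,688),(1,0,2326),(2,0,1569)],[]),(604,7,638,1,[(2,0,800),(1,0,2327),(1,0,878)],[]),(25,7,831,1,[(2,0,805),(1,0,2328),(2,0,1094)],[]),(27,7,35,1,[(2,0,72),(1,0,2329),(1,0,80)],[]),(1057,7,75,1,[(1,0,1474),(2,0,2330),(1,0,2257),(1,0,126)],[]),(1147,7,609,1,[(1,0,1476),(2,0,2330),(1,0,810)],[]),(619,7,1047,1,[(2,0,831),(1,0,2331),(2,0,1385)],[])]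
def facts2340 : List Fact := [(587,7,1050,1,[(1,0,777),(1,0,2332),(2,0,1392)],[]),(227,7,1231,1,[(1,0,347),(1,0,2333),(2,0,1568)],[]),(603,7,640,1,[(2,0,798),(1,0,2265),(1,0,2334),(1,0,885)],[]),(604,7,830,1,[(2,0,800),(1,0,2335),(2,0,1093)],[]),(25,7,36,1,[(1,0,71),(2,0,2262),(2,0,2274),(1,0,2336),(1,0,81)],[]),(76,7,1170,1,[(2,0,127),(2,0,2337),(1,0,1505)],[]),(1146,7,1169,1,[(1,0,1472),(2,0,2330),(1,0,2199),(2,0,2338),(2,0,1502)],[]),(1057,7,1172,1,[(1,0,1474),(2,0,2330),(1,0,2199),(2,0,2338),(2,0,1508)],[]),(43,7,1078,1,[(1,0,89),(2,0,2330),(1,0,2199),(2,0,2338),(2,0,1475)],[]),(620,7,976,1,[(2,0,832),(1,0,2339),(2,0,1342)],[]),(586,7,980,1,[(1,0,776),(1,0,2340),(2,0,1348)],[]),(227,7,1230,1,[(2,0,346),(2,0,451),(1,0,2341),(2,0,1567)],[]),(611,7,37,1,[(1,0,814),(1,0,2342),(1,0,886)],[]),(614,7,769,1,[(2,0,820),(1,0,2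342),(1,0,1026)],[]),(617,7,702,1,[(2,0,824),(1,0,2342),(2,0,951)],[]),(603,7,829,1,[(2,0,798),(1,0,2265),(1,0,2343),(2,0,1092)],[]),(76,7,1171,1,[(2,0,127),(2,0,2337),(1,0,2347),(2,0,1507)],[]),(1074,7,1143,1,[(1,0,1386),(1,0,2348),(2,0,1466)],[]),(42,7,1053,1,[(1,0,88),(1,0,2348),(2,0,1395)],[]),(621,7,905,1,[(2,0,833),(1,0,2349),(2,0,1258)],[]),(585,7,979,1,[(1,0,775),(1,0,2350),(2,0,1266)],[]),(226,7,1229,1,[(2,0,531),(2,0,451),(1,0,2351),(2,0,1566)],[]),(765,7,521,1,[(1,0,1019),(2,0,2352),(2,0,2295),(1,0,799)],[]),(38,7,614,1,[(2,0,83),(2,0,2352),(2,0,2295),(1,0,820)],[]),(764,7,617,1,[(1,0,1017),(2,0,2352),(2,0,2295),(1,0,824)],[]),(766,7,603,1,[(2,0,1022),(2,0,2352),(2,0,2295),(1,0,826)],[]),(615,7,835,1,[(2,0,821),(1,0,2353),(1,0,1100)],[]),(1247,7,836,1,[(2,0,1587),(2,0,2280),(1,0,2353),(1,0,1101)],[]),(1140,7,76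4,1,[(2,0,1460),(2,0,2331),(1,0,2354),(1,0,1028)],[]),(764,7,828,1,[(1,0,1017),(2,0,2352),(2,0,2295),(1,0,2355),(2,0,1091)],[]),(1047,7,1073,1,[(1,0,1343),(1,0,2358),(2,0,1383)],[]),(1050,7,1076,1,[(1,0,1349),(1,0,2358),(2,0,1390)],[]),(41,7,1054,1,[(1,0,87),(1,0,2358),(1,0,1356)],[]),(622,7,833,1,[(2,0,834),(1,0,2359),(2,0,1179)],[]),(98,7,1228,1,[(2,0,530),(1,0,2361),(2,0,1565)],[]),(1057,7,768,1,[(1,0,1474),(2,0,2330),(2,0,2362),(1,0,1024)],[]),(39,7,1247,1,[(2,0,84),(1,0,2363),(1,0,2280),(1,0,1587)],[]),(770,7,837,1,[(2,0,1030),(1,0,2363),(1,0,2353),(1,0,1103)],[]),(1049,7,770,1,[(2,0,1464),(2,0,2331),(2,0,2364),(2,0,1031)],[]),(38,7,771,1,[(2,0,83),(2,0,2352),(2,0,2295),(2,0,2365),(2,0,1033)],[]),(770,7,901,1,[(2,0,1030),(1,0,2363),(1,0,2289),(1,0,2366),(2,0,1173)],[]),(43,7,1141,1,[(2,0,1386),(2,0,2331),(2,0,2364),(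2,0,2368),(1,0,1461)],[]),(617,7,1148,1,[(2,0,825),(2,0,2364),(2,0,2368),(1,0,1477)],[]),(1143,7,827,1,[(2,0,1465),(2,0,2331),(2,0,2364),(1,0,2369),(2,0,1090)],[]),(838,7,1055,1,[(2,0,1271),(1,0,2372),(1,0,1357)],[]),(1168,7,832,1,[(1,0,1500),(1,0,2375),(1,0,1095)],[]),(76,7,833,1,[(2,0,127),(2,0,2337),(1,0,2375),(1,0,1096)],[]),(982,7,834,1,[(1,0,1363),(1,0,2375),(1,0,1098)],[]),(833,7,904,1,[(1,0,1097),(1,0,2376),(1,0,2367),(2,0,1177)],[]),(39,7,907,1,[(2,0,1105),(1,0,2376),(1,0,2367),(1,0,1183)],[]),(40,7,908,1,[(2,0,85),(1,0,2376),(1,0,2367),(1,0,1184)],[]),(840,7,976,1,[(2,0,1111),(2,0,2378),(2,0,1346)],[]),(39,7,839,1,[(2,0,84),(1,0,2379),(2,0,1110)],[]),(840,7,900,1,[(2,0,1111),(1,0,2380),(2,0,1172)],[]),(1077,7,1142,1,[(1,0,1393),(1,0,2381),(1,0,1462)],[]),(603,7,1149,1,[(1,0,824),(1,0,2382),(1,0,1478)],[]),(1049,7,826,1,[(2,0,1464),(1,0,2357),(1,0,2383),(2,0,1089)],[]),(77,7,621,1,[(2,0,128),(1,0,2386),(2,0,2373),(2,0,834)],[]),(905,7,1056,1,[(1,0,1261),(2,0,2387),(2,0,1362)],[]),(902,7,903,1,[(2,0,1174),(1,0,2388),(2,0,1176)],[])]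
def facts2400 : List Fact := [(40,7,972,1,[(2,0,85),(1,0,2389),(2,0,1253)],[]),(905,7,975,1,[(1,0,1180),(1,0,2390),(2,0,1257)],[]),(41,7,978,1,[(2,0,86),(1,0,2390),(1,0,1264)],[]),(909,7,981,1,[(2,0,1188),(1,0,2390),(1,0,1268)],[]),(1048,7,909,1,[(2,0,1344),(2,0,2391),(1,0,1275)],[]),(833,7,906,1,[(1,0,1097),(1,0,2392),(2,0,1182)],[]),(40,7,911,1,[(2,0,85),(1,0,2392),(2,0,1191)],[]),(619,7,899,1,[(1,0,832),(1,0,2349),(2,0,2391),(1,0,2393),(2,0,1171)],[]),(766,7,1150,1,[(2,0,1022),(2,0,2352),(2,0,2295),(1,0,2395),(1,0,1479)],[]),(838,7,825,1,[(2,0,1106),(2,0,2378),(1,0,2396),(2,0,1088)],[]),(78,7,620,1,[(2,0,129),(1,0,2397),(2,0,833)],[]),(977,7,838,1,[(2,0,1262),(1,0,2398),(2,0,1361)],[]),(909,7,971,1,[(2,0,1188),(1,0,2400),(2,0,1252)],[]),(973,7,974,1,[(2,0,1254),(1,0,2401),(2,0,1256)],[]),(980,7,979,1,[(1,0,1267),(1,0,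2402),(1,0,1265)],[]),(41,7,1043,1,[(2,0,1186),(1,0,2402),(2,0,1337)],[]),(909,7,910,1,[(2,0,1188),(1,0,2406),(2,0,1190)],[]),(1047,7,898,1,[(2,0,1381),(2,0,2339),(1,0,2407),(2,0,1170)],[]),(38,7,1151,1,[(2,0,83),(2,0,2352),(2,0,2295),(2,0,2365),(1,0,2408),(1,0,1480)],[]),(824,7,1051,1,[(1,0,1087),(2,0,2409),(2,0,1351)],[]),(79,7,619,1,[(2,0,130),(1,0,2410),(2,0,832)],[]),(909,7,970,1,[(2,0,1274),(1,0,2412),(2,0,1251)],[]),(584,7,980,1,[(1,0,774),(1,0,2360),(2,0,2414),(1,0,1352)],[]),(982,7,1042,1,[(2,0,1272),(1,0,2415),(2,0,1336)],[]),(1047,7,897,1,[(2,0,1384),(1,0,2417),(2,0,1169)],[]),(38,7,1152,1,[(2,0,1020),(1,0,2418),(1,0,1481)],[]),(80,7,617,1,[(2,0,131),(1,0,2420),(2,0,831)],[]),(982,7,969,1,[(1,0,1273),(1,0,2421),(2,0,1250)],[]),(583,7,1051,1,[(1,0,773),(1,0,2422),(1,0,1350)],[]),(43,7,1041,1,[(1,0,1360),(1,0,242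3),(2,0,1335)],[]),(1073,7,896,1,[(2,0,1382),(1,0,2424),(2,0,1168)],[]),(770,7,1153,1,[(2,0,1030),(1,0,2425),(1,0,1482)],[]),(81,7,603,1,[(2,0,132),(1,0,2426),(2,0,824)],[]),(768,7,968,1,[(1,0,1098),(2,0,2387),(1,0,2427),(2,0,1249)],[]),(43,7,1040,1,[(2,0,1394),(1,0,2429),(2,0,1334)],[]),(78,7,895,1,[(1,0,130),(1,0,2420),(1,0,2339),(1,0,2370),(1,0,2430),(2,0,1167)],[]),(40,7,1154,1,[(1,0,1108),(1,0,2431),(1,0,1483)],[]),(36,7,82,1,[(1,0,82),(2,0,2352),(2,0,2295),(2,0,2432),(1,0,133)],[]),(76,7,967,1,[(2,0,127),(2,0,2337),(1,0,2375),(1,0,2433),(2,0,1248)],[]),(44,7,1039,1,[(2,0,89),(1,0,2434),(2,0,1333)],[]),(77,7,894,1,[(1,0,129),(1,0,2435),(2,0,1166)],[]),(40,7,1155,1,[(2,0,1187),(1,0,2436),(1,0,1484)],[]),(26,7,83,1,[(2,0,71),(1,0,2344),(1,0,2437),(1,0,134)],[]),(1171,7,966,1,[(2,0,1506),(2,0,2345),(1,0,2438),(2,0,1247)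],[]),(1147,7,1038,1,[(1,0,1476),(1,0,2439),(2,0,1332)],[]),(973,7,893,1,[(2,0,1254),(2,0,2359),(2,0,2397),(1,0,2440),(2,0,1165)],[]),(41,7,1156,1,[(2,0,86),(1,0,2441),(1,0,1485)],[]),(589,7,84,1,[(1,0,780),(1,0,2442),(1,0,135)],[]),(833,7,965,1,[(2,0,1178),(2,0,2386),(1,0,2356),(1,0,2443),(2,0,1246)],[]),(1057,7,1037,1,[(1,0,1474),(2,0,2330),(1,0,2199),(2,0,2338),(1,0,2444),(2,0,1331)],[]),(892,7,983,1,[(1,0,1164),(2,0,2445),(1,0,1276)],[]),(980,7,1157,1,[(1,0,1267),(1,0,2446),(1,0,1486)],[]),(47,7,85,1,[(1,0,93),(1,0,2306),(1,0,2292),(1,0,2284),(1,0,2273),(2,0,2028),(1,0,2091),(2,0,2084),(1,0,2252),(1,0,2447),(1,0,136)],[]),(902,7,964,1,[(2,0,1174),(1,0,2448),(2,0,1245)],[]),(607,7,1036,1,[(2,0,807),(2,0,2268),(2,0,2337),(1,0,2449),(2,0,1330)],[]),(586,7,1158,1,[(2,0,775),(1,0,2360),(2,0,2414),(1,0,2451),(1,0,1487)],[]),(1248,7,86,1,[(2,0,1588),(1,0,2452),(1,0,137)],[]),(912,7,963,1,[(2,0,1192),(1,0,2453),(2,0,1244)],[]),(1168,7,1035,1,[(1,0,1500),(1,0,2337),(1,0,2279),(1,0,2454),(2,0,1329)],[]),(587,7,1159,1,[(2,0,776),(1,0,2455),(1,0,1488)],[])]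
def facts2460 : List Fact := [(1464,7,87,1,[(1,0,1860),(1,0,2073),(1,0,2307),(1,0,2456),(1,0,138)],[]),(841,7,1034,1,[(2,0,1112),(2,0,2385),(1,0,2458),(2,0,1328)],[]),(1076,7,1160,1,[(2,0,1389),(2,0,2340),(1,0,2459),(1,0,1489)],[]),(88,7,1331,1,[(2,0,139),(2,0,2460),(1,0,2217),(2,0,2226),(1,0,2090),(2,0,2096),(2,0,1706)],[]),(1050,7,1161,1,[(2,0,1391),(1,0,2371),(1,0,2462),(1,0,1490)],[]),(89,7,168,1,[(2,0,140),(1,0,2463),(1,0,2239),(1,0,2228),(2,0,523)],[]),(1075,7,1162,1,[(2,0,1387),(1,0,2464),(1,0,1491)],[]),(90,7,167,1,[(2,0,141),(1,0,2465),(2,0,258)],[]),(91,7,93,1,[(2,0,142),(1,0,2467),(1,0,334),(2,0,277)],[]),(92,7,14,1,[(2,0,143),(1,0,2468),(2,0,148)],[]),(181,7,1560,16,[(1,0,2042),(1,0,1991),(2,0,2211),(1,0,289)],[(1,0,2042),(1,0,1997),(1,0,1991)]),(182,7,381,17,[(1,0,2042),(1,0,1991),(2,0,2470),(1,0,290)],[(1,0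,2042),(1,0,1998),(1,0,2212),(2,0,533)]),(1569,7,1552,18,[(1,0,2042),(1,0,1991),(2,0,2211),(1,0,2146),(1,0,2031)],[(1,0,120),(1,0,2043),(1,0,1975)]),(1560,6,98,19,[(1,0,2042),(1,0,1991)],[(1,0,2042),(1,0,1999),(1,0,2220),(1,0,158)]),(277,1,277,15,[(1,0,2043),(1,0,1975),(1,0,2074),(1,0,409)],[(1,0,2043),(1,0,1979),(1,0,1975),(1,0,2074),(1,0,409)]),(1552,3,1552,16,[(1,0,2043),(1,0,1975)],[(1,0,2043),(1,0,1980),(1,0,1975)]),(1552,4,1479,17,[(1,0,2043),(1,0,1975)],[(1,0,121),(1,0,2044),(1,0,1890)]),(1570,7,1552,19,[(1,0,2043),(1,0,1975),(2,0,2472),(1,0,2032)],[(1,0,2043),(1,0,1983),(2,0,2018),(1,0,1975)]),(1552,7,1571,1,[(2,0,2475),(2,0,2477),(1,0,2033)],[]),(277,7,1572,1,[(2,0,409),(2,0,2074),(1,0,2478),(1,0,2034)],[]),(278,7,1573,1,[(2,0,410),(1,0,2479),(1,0,2035)],[]),(368,1,368,15,[(1,0,2044),(1,0,1890),(1,0,2232),(2,0,51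2)],[(1,0,2044),(1,0,1894),(1,0,1890),(1,0,2232),(2,0,512)]),(1479,7,183,18,[(1,0,2044),(1,0,1890)],[(1,0,2044),(1,0,1897),(1,0,2212),(2,0,533),(2,0,2471),(1,0,291)]),(184,7,368,1,[(2,0,292),(2,0,2482),(1,0,2232),(2,0,512)],[]),(185,7,367,1,[(2,0,293),(1,0,2483),(2,0,511)],[]),(1479,6,1479,19,[(1,0,2044),(1,0,1890)],[(1,0,2044),(1,0,1899),(2,0,2020),(1,0,1890)]),(841,1,841,15,[(2,0,2337),(2,0,1500),(1,0,2385),(1,0,1112)],[(1,0,2268),(1,0,807),(2,0,2279),(2,0,2337),(2,0,1500),(1,0,2385),(1,0,1112)]),(1168,4,902,17,[(2,0,2337),(2,0,1500)],[(1,0,127),(1,0,2386),(1,0,1174)]),(1168,5,1052,18,[(2,0,2337),(2,0,1500)],[(2,0,2337),(2,0,1363),(2,0,1354)]),(1168,6,1168,19,[(2,0,2337),(2,0,1500)],[(2,0,2337),(1,0,1364),(2,0,1500)]),(902,3,902,16,[(1,0,2386),(1,0,1174)],[(1,0,2345),(1,0,1506),(2,0,2356),(1,0,2386),(1,0,1174)]),(902,5,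973,18,[(1,0,2386),(1,0,1174)],[(1,0,128),(1,0,2397),(1,0,2359),(1,0,1254)]),(902,6,902,19,[(1,0,2386),(1,0,1174)],[(1,0,2386),(1,0,1181),(2,0,2405),(1,0,1174)]),(892,1,1058,15,[(1,0,2397),(1,0,2359),(1,0,1254),(1,0,2445),(2,0,1164)],[(1,0,129),(1,0,2410),(1,0,2349),(1,0,1338),(1,0,1365)]),(973,3,973,16,[(1,0,2397),(1,0,2359),(1,0,1254)],[(1,0,2397),(1,0,2359),(1,0,1260),(1,0,1254)]),(973,4,1052,17,[(1,0,2397),(1,0,2359),(1,0,1254)],[(1,0,2397),(1,0,2359),(1,0,1261),(2,0,2387),(2,0,1354)]),(973,6,824,19,[(1,0,2397),(1,0,2359),(1,0,1254)],[(1,0,2397),(1,0,2359),(1,0,1262),(1,0,2411),(1,0,2409),(2,0,1087)]),(1044,3,1070,16,[(1,0,2410),(1,0,2349),(1,0,1338)],[(1,0,130),(1,0,2420),(1,0,2339),(1,0,1377)]),(1044,7,840,17,[(1,0,2410),(1,0,2349),(1,0,1338)],[(1,0,2410),(1,0,2349),(1,0,1344),(1,0,2404),(2,0,1269),(2,0,2403),(2,0,1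275)]),(41,7,1045,1,[(2,0,1259),(2,0,2391),(2,0,2498),(1,0,1339)],[]),(77,7,1058,1,[(1,0,129),(1,0,2410),(1,0,2349),(2,0,2391),(2,0,2498),(1,0,1365)],[]),(79,7,1070,1,[(2,0,130),(1,0,2410),(1,0,2349),(2,0,2391),(2,0,2498),(1,0,2497)],[]),(980,7,1046,1,[(1,0,1267),(1,0,2499),(1,0,1340)],[]),(973,7,892,1,[(2,0,1254),(2,0,2359),(2,0,2397),(1,0,2500),(2,0,2493)],[]),(76,7,1059,1,[(1,0,128),(1,0,2500),(1,0,1366)],[]),(42,7,1071,1,[(2,0,1343),(2,0,2339),(2,0,2420),(1,0,2501),(1,0,1378)],[]),(1047,7,1079,1,[(2,0,1381),(2,0,2339),(2,0,2420),(1,0,2501),(1,0,1398)],[]),(891,7,973,1,[(1,0,1163),(2,0,2503),(1,0,2494)],[]),(984,7,902,1,[(2,0,1277),(2,0,2450),(2,0,2503),(2,0,2491)],[]),(906,7,1060,1,[(2,0,1181),(2,0,2386),(1,0,2504),(1,0,1367)],[]),(1050,7,1072,1,[(1,0,1349),(1,0,2505),(1,0,1379)],[]),(1047,7,1080,1,[(2,0,1384),(1,0,25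06),(1,0,1399)],[]),(890,7,1052,1,[(1,0,1162),(1,0,2507),(1,0,2495)],[]),(1171,7,1061,1,[(2,0,1506),(2,0,2345),(1,0,2386),(1,0,2405),(1,0,2509),(1,0,1368)],[]),(80,7,1081,1,[(2,0,131),(1,0,2420),(1,0,2339),(1,0,2511),(1,0,1400)],[]),(889,7,1168,1,[(1,0,1161),(1,0,2512),(2,0,2488)],[]),(833,7,1062,1,[(2,0,1178),(2,0,2386),(1,0,2356),(1,0,2513),(1,0,1369)],[]),(1049,7,1082,1,[(2,0,1464),(2,0,2331),(2,0,2426),(1,0,2514),(1,0,1401)],[]),(841,7,888,1,[(2,0,1112),(2,0,2385),(2,0,2515),(2,0,1160)],[]),(77,7,1063,1,[(2,0,128),(1,0,2386),(1,0,2516),(1,0,1370)],[])]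
def facts2520 : List Fact := [(838,7,1083,1,[(2,0,1106),(2,0,2378),(1,0,2517),(1,0,1402)],[]),(1033,7,887,1,[(1,0,1327),(2,0,2461),(1,0,2518),(2,0,1159)],[]),(834,7,1064,1,[(2,0,1261),(2,0,2359),(2,0,2397),(1,0,2519),(1,0,1371)],[]),(838,7,1084,1,[(2,0,1107),(1,0,2520),(1,0,1403)],[]),(43,7,1065,1,[(1,0,1360),(1,0,2387),(1,0,2522),(1,0,1372)],[]),(41,7,1085,1,[(1,0,1271),(1,0,2523),(1,0,1404)],[]),(43,7,1066,1,[(2,0,1394),(1,0,2524),(1,0,1373)],[]),(42,7,1086,1,[(2,0,87),(1,0,2525),(1,0,1405)],[]),(1077,7,1067,1,[(1,0,1393),(1,0,2526),(1,0,1374)],[]),(42,7,1087,1,[(2,0,1270),(1,0,2527),(1,0,1406)],[]),(1145,7,1068,1,[(2,0,1469),(1,0,2528),(1,0,1375)],[]),(1050,7,1088,1,[(1,0,1349),(1,0,2529),(1,0,1407)],[]),(1075,7,1089,1,[(2,0,1387),(1,0,2531),(1,0,1408)],[]),(1163,7,1090,1,[(2,0,1492),(2,0,2466),(1,0,2532),(1,0,1409)],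[]),(444,7,88,19,[(2,0,2460),(2,0,2237),(1,0,379),(1,0,2226),(2,0,2217),(1,0,2460),(1,0,139),(1,0,2463),(1,0,2239),(1,0,2228),(1,0,601)],[(1,0,139)]),(20,7,445,1,[(2,0,524),(2,0,2228),(2,0,2239),(2,0,2463),(2,0,2534),(1,0,602)],[]),(228,7,446,1,[(1,0,529),(1,0,2535),(1,0,603)],[]),(449,7,1647,1,[(2,0,611),(1,0,2536),(1,0,2276),(2,0,2176)],[]),(512,7,1646,1,[(1,0,683),(1,0,2537),(2,0,2175)],[]),(511,7,1645,1,[(1,0,682),(1,0,2538),(2,0,2174)],[]),(510,7,1644,1,[(1,0,681),(1,0,2539),(2,0,2173)],[]),(509,7,1643,1,[(1,0,680),(1,0,2540),(2,0,2172)],[]),(508,7,1642,1,[(1,0,679),(1,0,2541),(2,0,2171)],[]),(507,7,1641,1,[(1,0,678),(1,0,2542),(2,0,2170)],[]),(506,7,1640,1,[(1,0,677),(1,0,2543),(2,0,2169)],[]),(505,7,1639,1,[(1,0,676),(1,0,2544),(2,0,2168)],[]),(504,7,1638,1,[(1,0,675),(1,0,2545),(2,0,2167)],[]),(503,7,1637,1,[(1,0,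674),(1,0,2546),(2,0,2166)],[]),(502,7,1636,1,[(1,0,673),(1,0,2547),(2,0,2165)],[]),(501,7,1635,1,[(1,0,672),(1,0,2548),(2,0,2164)],[]),(500,7,1634,1,[(1,0,671),(1,0,2549),(2,0,2163)],[]),(499,7,1633,1,[(1,0,670),(1,0,2550),(2,0,2162)],[]),(498,7,1632,1,[(1,0,669),(1,0,2551),(2,0,2161)],[]),(497,7,1631,1,[(1,0,668),(1,0,2552),(2,0,2160)],[]),(496,7,1630,1,[(1,0,667),(1,0,2553),(2,0,2159)],[]),(495,7,1629,1,[(1,0,666),(1,0,2554),(2,0,2158)],[]),(494,7,1628,1,[(1,0,665),(1,0,2555),(2,0,2157)],[]),(493,7,1627,1,[(1,0,664),(1,0,2556),(2,0,2156)],[]),(492,7,1626,1,[(1,0,663),(1,0,2557),(2,0,2155)],[]),(491,7,1625,1,[(1,0,662),(1,0,2558),(2,0,2154)],[]),(490,7,1624,1,[(1,0,661),(1,0,2559),(2,0,2153)],[]),(489,7,1623,1,[(1,0,660),(1,0,2560),(2,0,2152)],[]),(488,7,1622,1,[(1,0,659),(1,0,2561),(2,0,2151)],[]),(487,7,1621,1,[(1,0,6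58),(1,0,2562),(2,0,2150)],[]),(486,7,1620,1,[(1,0,657),(1,0,2563),(2,0,2149)],[]),(169,7,89,16,[(1,0,2463),(1,0,2239),(1,0,2228),(1,0,601),(1,0,2534),(1,0,140),(1,0,2465),(1,0,259)],[(1,0,140)]),(19,7,376,1,[(2,0,448),(2,0,2465),(2,0,2565),(1,0,520)],[]),(226,7,377,1,[(2,0,345),(2,0,400),(1,0,2566),(1,0,521)],[]),(227,7,1618,1,[(2,0,346),(1,0,2567),(2,0,2138)],[]),(226,7,1617,1,[(2,0,531),(2,0,451),(1,0,2568),(2,0,2137)],[]),(381,7,1616,1,[(2,0,532),(1,0,2569),(2,0,2136)],[]),(443,7,1615,1,[(1,0,600),(1,0,2570),(2,0,2135)],[]),(256,7,1614,1,[(1,0,376),(2,0,2259),(1,0,688),(1,0,2571),(2,0,2134)],[]),(255,7,1613,1,[(1,0,375),(1,0,2572),(2,0,2133)],[]),(440,7,1612,1,[(1,0,597),(2,0,2281),(1,0,2573),(2,0,2132)],[]),(439,7,1611,1,[(1,0,596),(1,0,2574),(2,0,2131)],[]),(438,7,1610,1,[(1,0,595),(1,0,2575),(2,0,2130)],[]),(437,7,1609,1,[(1,0,594),(1,0,2576),(2,0,2129)],[]),(436,7,1608,1,[(1,0,593),(1,0,2577),(2,0,2128)],[]),(435,7,1607,1,[(1,0,592),(1,0,2578),(2,0,2127)],[])]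
def facts2580 : List Fact := [(434,7,1606,1,[(1,0,591),(1,0,2579),(2,0,2126)],[]),(433,7,1605,1,[(1,0,590),(1,0,2580),(2,0,2125)],[]),(432,7,1604,1,[(1,0,589),(1,0,2581),(2,0,2124)],[]),(431,7,1603,1,[(1,0,588),(1,0,2582),(2,0,2123)],[]),(430,7,1602,1,[(1,0,587),(1,0,2583),(2,0,2122)],[]),(429,7,1601,1,[(1,0,586),(1,0,2584),(2,0,2121)],[]),(428,7,1600,1,[(1,0,585),(1,0,2585),(2,0,2120)],[]),(427,7,1599,1,[(1,0,584),(1,0,2586),(2,0,2119)],[]),(426,7,1598,1,[(1,0,583),(1,0,2587),(2,0,2118)],[]),(425,7,1597,1,[(1,0,582),(1,0,2588),(2,0,2117)],[]),(424,7,1596,1,[(1,0,581),(1,0,2589),(2,0,2116)],[]),(423,7,1595,1,[(1,0,580),(1,0,2590),(2,0,2115)],[]),(422,7,1594,1,[(1,0,579),(1,0,2591),(2,0,2114)],[]),(421,7,1593,1,[(1,0,578),(1,0,2592),(2,0,2113)],[]),(420,7,1592,1,[(1,0,577),(1,0,2593),(2,0,2112)],[]),(419,7,1591,1,[(1,0,57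6),(1,0,2594),(2,0,2111)],[]),(418,7,1590,1,[(1,0,575),(1,0,2595),(2,0,2110)],[]),(317,7,314,15,[(1,0,2465),(1,0,259),(1,0,2565),(1,0,141),(1,0,2467),(1,0,334),(1,0,447),(1,0,460)],[(1,0,141),(1,0,2467),(1,0,334),(1,0,447)]),(1541,7,314,16,[(1,0,2467),(1,0,334),(1,0,447),(2,0,2597),(1,0,2303),(2,0,1964)],[(1,0,2467),(1,0,334),(1,0,257),(1,0,334),(1,0,447)]),(1540,7,150,17,[(1,0,2467),(1,0,334),(1,0,447),(2,0,2598),(2,0,1963)],[(1,0,2467),(1,0,334),(2,0,256),(1,0,224)]),(153,7,1541,1,[(1,0,227),(2,0,2599),(1,0,1963)],[]),(222,7,166,1,[(1,0,331),(1,0,2600),(1,0,2598),(2,0,447)],[]),(149,7,318,1,[(1,0,226),(1,0,2600),(1,0,2598),(2,0,2597),(1,0,461)],[]),(89,7,221,1,[(1,0,141),(1,0,2467),(1,0,334),(2,0,2601),(2,0,330)],[]),(149,7,319,1,[(2,0,228),(1,0,2602),(1,0,462)],[]),(88,7,220,1,[(1,0,140),(1,0,2603),(2,0,329)],[]),(149,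7,320,1,[(2,0,213),(1,0,2604),(1,0,463)],[]),(447,7,219,1,[(2,0,606),(2,0,2228),(2,0,2239),(2,0,2463),(1,0,2605),(2,0,328)],[]),(7,7,321,1,[(1,0,225),(1,0,2606),(1,0,464)],[]),(378,7,218,1,[(2,0,608),(1,0,2184),(1,0,2607),(2,0,327)],[]),(7,7,322,1,[(2,0,242),(1,0,2608),(1,0,465)],[]),(378,7,217,1,[(2,0,605),(1,0,2609),(2,0,326)],[]),(6,7,323,1,[(1,0,26),(1,0,2610),(1,0,466)],[]),(89,7,216,1,[(2,0,140),(1,0,2463),(1,0,2239),(1,0,2228),(1,0,2611),(2,0,325)],[]),(6,7,324,1,[(2,0,23),(1,0,2612),(1,0,467)],[]),(380,7,215,1,[(2,0,527),(2,0,2465),(1,0,2613),(2,0,324)],[]),(5,7,325,1,[(1,0,20),(1,0,2614),(1,0,468)],[]),(214,7,265,1,[(1,0,323),(2,0,2615),(1,0,2213),(1,0,2061),(2,0,385)],[]),(14,7,326,1,[(2,0,146),(1,0,2616),(1,0,469)],[]),(60,7,213,1,[(2,0,1863),(2,0,2066),(2,0,2617),(2,0,322)],[]),(14,7,327,1,[(2,0,56),(1,0,2618)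,(1,0,470)],[]),(1474,7,212,1,[(1,0,1879),(1,0,2619),(2,0,321)],[]),(3,7,328,1,[(1,0,55),(1,0,2620),(1,0,471)],[]),(1472,7,211,1,[(1,0,1875),(2,0,2066),(1,0,2068),(1,0,2621),(2,0,320)],[]),(3,7,329,1,[(2,0,57),(1,0,2622),(1,0,472)],[]),(1479,7,210,1,[(2,0,1890),(1,0,2623),(2,0,319)],[]),(15,7,330,1,[(2,0,58),(1,0,2624),(1,0,473)],[]),(184,7,209,1,[(2,0,292),(2,0,2482),(1,0,2625),(2,0,318)],[]),(15,7,331,1,[(2,0,59),(1,0,2626),(1,0,474)],[]),(1492,7,208,1,[(2,0,1914),(2,0,2244),(2,0,2483),(1,0,2627),(2,0,317)],[]),(94,7,332,1,[(1,0,151),(1,0,2628),(1,0,475)],[]),(155,7,333,1,[(2,0,231),(1,0,2630),(1,0,476)],[]),(155,7,334,1,[(2,0,279),(1,0,2631),(1,0,477)],[]),(62,7,335,1,[(1,0,108),(1,0,337),(1,0,2632),(1,0,478)],[]),(162,7,336,1,[(2,0,238),(2,0,341),(1,0,2633),(1,0,479)],[]),(1555,7,337,1,[(1,0,1982),(1,0,2060),(1,0,2634),(1,0,480)],[]),(1560,7,338,1,[(2,0,1991),(1,0,2635),(1,0,481)],[]),(180,7,339,1,[(2,0,288),(2,0,2145),(1,0,2636),(1,0,482)],[]),(1569,7,340,1,[(2,0,2031),(2,0,2146),(1,0,2637),(1,0,483)],[]),(1570,7,341,1,[(2,0,2032),(1,0,2638),(1,0,484)],[])]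
def facts2640 : List Fact := [(1552,7,342,1,[(2,0,2475),(2,0,2477),(1,0,2639),(1,0,485)],[]),(277,7,343,1,[(2,0,409),(2,0,2074),(1,0,2640),(1,0,486)],[]),(278,7,344,1,[(2,0,410),(1,0,2641),(1,0,487)],[]),(1574,7,345,1,[(2,0,2036),(2,0,2480),(1,0,2642),(1,0,488)],[]),(165,7,144,19,[(1,0,2467),(1,0,334),(1,0,447),(2,0,2598),(2,0,2600),(1,0,247)],[(1,0,2467),(1,0,334),(1,0,449),(1,0,2053),(2,0,2097)]),(182,2,1652,0,[],[]),(1652,3,1653,0,[],[]),(1653,4,1654,0,[],[]),(1654,5,1655,0,[],[]),(1655,2,1656,0,[],[]),(1656,3,1657,0,[],[]),(1657,6,1658,0,[],[]),(1658,5,1659,0,[],[]),(1659,2,1660,0,[],[]),(99,7,98,15,[(2,0,272),(1,0,391),(1,0,272),(1,0,157),(1,0,158),(1,0,159)],[(1,0,157),(1,0,158)]),(1227,7,100,1,[(1,0,1564),(2,0,2374),(2,0,2654),(1,0,160)],[]),(1227,7,98,16,[(1,0,158),(1,0,2374),(2,0,1564)],[(2,0,537),(1,0,2181),(1,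0,158)]),(226,7,101,1,[(1,0,530),(2,0,2656),(1,0,2655),(1,0,161)],[]),(102,7,226,1,[(2,0,162),(2,0,2657),(1,0,531)],[]),(227,7,103,1,[(2,0,346),(2,0,2658),(1,0,163)],[]),(228,7,104,1,[(2,0,347),(1,0,2659),(1,0,164)],[]),(105,7,450,1,[(2,0,165),(2,0,2660),(1,0,615)],[]),(106,7,515,1,[(2,0,166),(1,0,2661),(1,0,688),(1,0,691)],[]),(107,7,520,1,[(2,0,167),(1,0,2662),(1,0,702)],[]),(108,7,521,1,[(2,0,168),(1,0,2663),(1,0,703)],[]),(1144,7,109,1,[(1,0,1468),(2,0,2330),(2,0,2664),(1,0,169)],[]),(640,7,110,1,[(1,0,886),(2,0,2352),(2,0,2295),(1,0,2324),(1,0,2665),(1,0,170)],[]),(36,7,111,1,[(1,0,82),(2,0,2352),(2,0,2295),(1,0,2342),(1,0,2666),(1,0,171)],[]),(25,7,112,1,[(2,0,804),(1,0,2344),(1,0,2667),(1,0,172)],[]),(25,7,113,1,[(2,0,805),(1,0,2668),(1,0,173)],[]),(604,7,114,1,[(2,0,800),(1,0,2669),(1,0,174)],[]),(603,7,115,1,[(2,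0,798),(1,0,2265),(1,0,2670),(1,0,175)],[]),(764,7,116,1,[(1,0,1017),(2,0,2352),(2,0,2295),(1,0,2671),(1,0,176)],[]),(1143,7,117,1,[(2,0,1465),(2,0,2331),(2,0,2364),(1,0,2672),(1,0,177)],[]),(1049,7,118,1,[(2,0,1464),(1,0,2357),(1,0,2673),(1,0,178)],[]),(119,7,838,1,[(2,0,179),(2,0,2674),(1,0,2378),(1,0,1106)],[]),(120,7,824,1,[(2,0,180),(1,0,2675),(1,0,2409),(2,0,1087)],[]),(98,5,98,18,[(1,0,158)],[(1,0,393),(1,0,158)]),(144,5,1661,0,[],[]),(1661,2,1662,0,[],[]),(1662,1,1663,0,[],[]),(1663,0,1664,0,[],[]),(1664,1,1665,0,[],[]),(1665,2,1666,0,[],[]),(1666,5,1667,0,[],[]),(1667,6,1668,0,[],[]),(1668,3,1669,0,[],[]),(1669,2,1670,0,[],[]),(1670,5,1671,0,[],[]),(1671,4,1672,0,[],[]),(1672,3,1673,0,[],[]),(1673,2,1674,0,[],[]),(1674,1,1675,0,[],[]),(1675,2,1676,0,[],[]),(1676,3,1677,0,[],[]),(1677,4,1678,0,[],[]),(1678,5,1679,0,[],[]),(1679,2,1680,0,[],[]),(1680,3,1681,0,[],[]),(1681,6,1682,0,[],[])]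
def facts2700 : List Fact := [(1682,5,121,30,[(2,0,526),(1,0,2230),(1,0,2009),(1,0,220),(1,0,2011),(2,0,2065),(1,0,2009),(2,0,219),(2,0,150),(1,0,152),(2,0,55),(2,0,13),(1,0,11),(1,0,10),(1,0,9),(1,0,13),(1,0,14),(1,0,16),(1,0,19),(1,0,212),(1,0,226),(1,0,246),(1,0,252),(1,0,247),(1,0,2644),(1,0,2678),(1,0,2679),(1,0,2680),(1,0,2681),(1,0,2682),(1,0,2683),(1,0,2684),(1,0,2685),(1,0,2686),(1,0,2687),(1,0,2688),(1,0,2689),(1,0,2690),(1,0,2691),(1,0,2692),(1,0,2693),(1,0,2694),(1,0,2695),(1,0,2696),(1,0,2697),(1,0,2698),(1,0,2699)],[(1,0,158),(1,0,159),(1,0,2654),(1,0,2677),(2,0,2473),(2,0,2211),(1,0,289),(1,0,2470),(1,0,2145),(1,0,288),(1,0,2146),(1,0,2031),(1,0,2472),(1,0,2476),(1,0,2221),(2,0,705),(2,0,2662),(1,0,167),(1,0,168),(1,0,2664),(1,0,2330),(1,0,90),(2,0,2323),(1,0,781),(2,0,2255),(1,0,783),(2,0,2195),(1,0,785),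(2,0,704),(1,0,2330),(2,0,1474),(1,0,1364),(2,0,1363),(1,0,1273),(2,0,1269),(2,0,2403),(2,0,1263),(1,0,2411),(2,0,2675),(1,0,180),(1,0,181)]),(232,7,449,20,[(2,0,2657),(1,0,346),(1,0,347),(1,0,611),(1,0,2190),(1,0,351)],[(2,0,2657),(2,0,451),(1,0,347),(1,0,611)]),(1652,7,381,23,[(2,0,2657),(1,0,346),(1,0,451),(1,0,532),(2,0,2471),(1,0,2645)],[(2,0,2657),(1,0,532)]),(443,7,1653,1,[(1,0,600),(2,0,2702),(1,0,2646)],[]),(514,7,1654,1,[(2,0,689),(1,0,2703),(1,0,2647)],[]),(106,7,1655,1,[(2,0,166),(1,0,2661),(1,0,2188),(1,0,2704),(1,0,2648)],[]),(107,7,1656,1,[(2,0,167),(1,0,2705),(1,0,2649)],[]),(1168,7,1657,1,[(2,0,1499),(2,0,2325),(2,0,2663),(1,0,2706),(1,0,2650)],[]),(1168,7,1658,1,[(2,0,2489),(1,0,2707),(1,0,2651)],[]),(1052,7,1659,1,[(2,0,2488),(1,0,2708),(1,0,2652)],[]),(449,0,449,10,[(2,0,2660),(2,0,604),(2,0,2536),(1,0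,611)],[(2,0,2660),(1,0,611)]),(1620,7,449,21,[(2,0,2660),(1,0,611),(2,0,2701),(1,0,2194),(1,0,2148)],[(2,0,2660),(1,0,348),(2,0,2185),(1,0,611)]),(512,7,487,1,[(1,0,683),(2,0,2711),(2,0,2564),(1,0,657)],[]),(488,7,512,22,[(2,0,2660),(1,0,611),(2,0,683),(1,0,2712),(1,0,658)],[(2,0,2660),(1,0,614),(1,0,611),(2,0,683)]),(233,7,256,23,[(2,0,2660),(1,0,611),(2,0,2701),(1,0,352)],[(1,0,165),(1,0,2661),(1,0,2259),(2,0,376)]),(234,7,255,1,[(2,0,353),(1,0,2714),(2,0,375)],[]),(1590,7,256,20,[(1,0,2661),(1,0,2259),(2,0,376),(1,0,2269),(1,0,2243),(1,0,2109)],[(1,0,2661),(1,0,688),(1,0,600),(2,0,2471),(1,0,2645),(1,0,2702),(2,0,600),(2,0,688),(1,0,2259),(2,0,376)]),(419,7,256,21,[(1,0,2661),(1,0,2259),(2,0,376),(2,0,2716),(2,0,2596),(1,0,575)],[(1,0,2661),(1,0,688),(1,0,689),(2,0,2188),(1,0,2259),(2,0,376)]),(234,7,420,1,[(2,0,353),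(1,0,2714),(2,0,2717),(1,0,576)],[]),(235,7,421,1,[(2,0,354),(1,0,2718),(1,0,577)],[]),(235,7,588,22,[(1,0,2661),(1,0,2259),(2,0,376),(2,0,2714),(1,0,353),(1,0,354)],[(1,0,166),(1,0,167),(1,0,2663),(2,0,778)]),(236,7,43,1,[(2,0,355),(1,0,2720),(1,0,2332),(1,0,1393)],[]),(234,7,1145,1,[(1,0,354),(1,0,2720),(1,0,2332),(1,0,1469)],[]),(422,7,1052,1,[(2,0,578),(2,0,2719),(1,0,2720),(1,0,2332),(1,0,1470)],[]),(1074,7,237,1,[(1,0,1386),(2,0,2721),(1,0,356)],[]),(423,7,980,1,[(2,0,579),(1,0,2723),(2,0,1353)],[]),(1140,7,238,1,[(2,0,1460),(1,0,2724),(1,0,357)],[]),(424,7,585,1,[(2,0,580),(1,0,2725),(2,0,2422),(1,0,774)],[]),(617,7,239,1,[(2,0,825),(2,0,2364),(2,0,2368),(1,0,2726),(1,0,358)],[]),(586,7,425,1,[(2,0,775),(2,0,2727),(1,0,581)],[]),(81,7,240,1,[(2,0,132),(1,0,2426),(1,0,2728),(1,0,359)],[]),(978,7,426,1,[(1,0,1265),(2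,0,2414),(2,0,2350),(1,0,2729),(1,0,582)],[]),(766,7,241,1,[(2,0,1022),(2,0,2352),(2,0,2295),(2,0,2432),(1,0,2730),(1,0,360)],[]),(976,7,427,1,[(1,0,1259),(1,0,2402),(1,0,2731),(1,0,583)],[]),(38,7,242,1,[(2,0,83),(2,0,2352),(2,0,2295),(2,0,2365),(1,0,2732),(1,0,361)],[]),(1044,7,428,1,[(2,0,1338),(1,0,2733),(1,0,584)],[]),(38,7,243,1,[(2,0,1020),(1,0,2734),(1,0,362)],[]),(77,7,429,1,[(1,0,129),(1,0,2410),(1,0,2349),(2,0,2391),(2,0,2498),(1,0,2735),(1,0,585)],[]),(770,7,244,1,[(2,0,1030),(1,0,2736),(1,0,363)],[]),(76,7,430,1,[(1,0,128),(1,0,2737),(1,0,586)],[]),(40,7,245,1,[(1,0,1108),(1,0,2738),(1,0,364)],[]),(906,7,431,1,[(2,0,1181),(2,0,2386),(1,0,2739),(1,0,587)],[]),(40,7,246,1,[(2,0,1187),(1,0,2740),(1,0,365)],[]),(1171,7,432,1,[(2,0,1506),(2,0,2345),(1,0,2386),(1,0,2405),(1,0,2741),(1,0,588)],[]),(41,7,247,1,[(2,0,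86),(1,0,2742),(1,0,366)],[]),(833,7,433,1,[(2,0,1178),(2,0,2386),(1,0,2356),(1,0,2743),(1,0,589)],[]),(980,7,248,1,[(1,0,1267),(1,0,2744),(1,0,367)],[]),(77,7,434,1,[(2,0,128),(1,0,2386),(1,0,2745),(1,0,590)],[]),(249,7,586,1,[(2,0,368),(2,0,2746),(1,0,2414),(2,0,2360),(1,0,775)],[]),(834,7,435,1,[(2,0,1261),(2,0,2359),(2,0,2397),(1,0,2747),(1,0,591)],[]),(587,7,250,1,[(2,0,776),(2,0,2748),(1,0,369)],[]),(436,7,43,1,[(2,0,592),(2,0,2749),(2,0,2387),(2,0,1360)],[]),(251,7,1076,1,[(2,0,370),(2,0,2750),(1,0,2340),(1,0,1389)],[]),(43,7,437,1,[(2,0,1394),(2,0,2751),(1,0,593)],[]),(1050,7,252,1,[(2,0,1391),(1,0,2371),(2,0,2752),(1,0,371)],[]),(1077,7,438,1,[(1,0,1393),(1,0,2753),(1,0,594)],[]),(1075,7,253,1,[(2,0,1387),(1,0,2754),(1,0,372)],[]),(234,7,439,1,[(1,0,354),(1,0,2720),(1,0,2332),(1,0,2755),(1,0,595)],[]),(254,7,1163,1,[(2,0,373),(2,0,2756),(1,0,2466),(1,0,1492)],[]),(1069,7,440,1,[(2,0,1376),(2,0,2530),(2,0,2722),(1,0,2757),(1,0,596)],[])]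
def facts2760 : List Fact := [(1033,7,184,20,[(1,0,167),(1,0,2663),(1,0,2325),(1,0,1499),(1,0,2385),(1,0,1112),(1,0,2461),(2,0,1327)],[(1,0,2662),(1,0,705),(2,0,2221),(1,0,2482),(1,0,292)]),(185,7,888,1,[(2,0,293),(2,0,2760),(1,0,2521),(1,0,1159)],[]),(121,7,120,15,[(2,0,2674),(1,0,2378),(2,0,1104),(2,0,2377),(2,0,2378),(1,0,2674),(1,0,179),(1,0,180),(1,0,181)],[(1,0,179),(1,0,180)]),(582,7,122,1,[(1,0,772),(1,0,2428),(2,0,2419),(2,0,2676),(2,0,2762),(1,0,182)],[]),(582,7,120,16,[(1,0,180),(1,0,2676),(1,0,2419),(2,0,2428),(2,0,772)],[(1,0,2675),(2,0,1358),(2,0,2384),(2,0,2675),(1,0,180)]),(584,7,123,1,[(2,0,773),(1,0,2428),(2,0,2419),(2,0,2676),(2,0,2764),(1,0,2763),(1,0,183)],[]),(124,7,424,1,[(2,0,184),(2,0,2765),(1,0,2422),(2,0,2725),(1,0,580)],[]),(249,7,125,1,[(2,0,368),(2,0,2746),(1,0,2414),(2,0,2360),(2,0,2727),(2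,0,2766),(1,0,185)],[]),(587,7,126,1,[(2,0,776),(2,0,2748),(1,0,2767),(1,0,186)],[]),(127,7,588,1,[(2,0,187),(2,0,2768),(1,0,777)],[]),(128,7,520,1,[(2,0,188),(1,0,2769),(1,0,778)],[]),(106,7,129,1,[(1,0,167),(1,0,2663),(2,0,2770),(1,0,189)],[]),(22,7,130,1,[(2,0,692),(2,0,2662),(1,0,2771),(1,0,190)],[]),(513,7,131,1,[(1,0,687),(1,0,2772),(1,0,191)],[]),(1338,7,132,1,[(1,0,1726),(1,0,2021),(1,0,2081),(1,0,2227),(1,0,2773),(1,0,192)],[]),(58,7,133,1,[(1,0,104),(1,0,2073),(1,0,2774),(1,0,193)],[]),(47,7,134,1,[(2,0,1592),(1,0,2312),(2,0,2294),(1,0,2092),(2,0,2251),(1,0,2775),(1,0,194)],[]),(47,7,135,1,[(2,0,1593),(1,0,2776),(1,0,195)],[]),(1249,7,136,1,[(2,0,1590),(1,0,2777),(1,0,196)],[]),(1248,7,137,1,[(2,0,1588),(1,0,2312),(2,0,2294),(1,0,2092),(2,0,2251),(2,0,2319),(1,0,2778),(1,0,197)],[]),(1464,7,138,1,[(1,0,1860),(1,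0,2073),(1,0,2307),(1,0,2779),(1,0,198)],[]),(1464,7,139,1,[(2,0,1886),(1,0,2780),(1,0,199)],[]),(1475,7,140,1,[(1,0,1883),(1,0,2781),(1,0,200)],[]),(141,7,1488,1,[(2,0,201),(2,0,2782),(1,0,1907)],[]),(1682,7,120,18,[(1,0,180),(2,0,2762),(2,0,2700)],[(1,0,2675),(1,0,1107),(2,0,2675),(1,0,180)]),(254,7,1075,20,[(2,0,2765),(1,0,2422),(1,0,2746),(1,0,368),(1,0,2748),(1,0,776),(1,0,2340),(1,0,1387),(1,0,2756),(1,0,373)],[(2,0,2765),(1,0,2422),(2,0,2350),(1,0,776),(1,0,2340),(1,0,1387)]),(1660,7,422,23,[(2,0,2765),(1,0,2422),(1,0,2746),(1,0,368),(1,0,2748),(1,0,2350),(2,0,2725),(2,0,579),(1,0,2723),(1,0,2709),(1,0,2653)],[(2,0,2765),(1,0,2422),(2,0,2725),(2,0,579)]),(1075,0,1075,10,[(2,0,2768),(1,0,2340),(2,0,1380),(2,0,2510),(1,0,1387)],[(2,0,2768),(1,0,2340),(1,0,1387)]),(1091,7,1075,21,[(2,0,2768),(1,0,2340),(1,0,1387),(2,0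,2785),(1,0,2758),(1,0,2533),(1,0,1410)],[(2,0,2768),(1,0,2750),(1,0,370),(1,0,2752),(2,0,2371),(1,0,1387)]),(1139,7,1092,1,[(1,0,1459),(2,0,2788),(1,0,1411)],[]),(1093,7,1139,22,[(2,0,2768),(1,0,2340),(1,0,1387),(2,0,1459),(1,0,2789),(1,0,1412)],[(2,0,2768),(1,0,2340),(1,0,1391),(1,0,1387),(2,0,1459)]),(1069,7,234,20,[(1,0,2769),(2,0,2720),(2,0,354),(1,0,2722),(1,0,2530),(1,0,1376)],[(1,0,2769),(2,0,2720),(1,0,2719),(1,0,578),(1,0,2723),(1,0,2709),(1,0,2653),(1,0,2786),(2,0,578),(2,0,2719),(2,0,354)]),(278,7,277,22,[(1,0,288),(1,0,2146),(1,0,2031),(1,0,2472),(1,0,2074),(1,0,409),(1,0,410)],[(2,0,2145),(2,0,2211),(1,0,2146),(1,0,2031),(1,0,2472),(1,0,2074),(1,0,409)]),(1492,7,184,22,[(1,0,2645),(1,0,2702),(2,0,2471),(1,0,291),(1,0,292),(1,0,2483),(1,0,2244),(1,0,1914)],[(1,0,291),(1,0,292)]),(886,7,207,1,[(1,0,1158),(2,0,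2521),(1,0,2760),(2,0,2793),(1,0,2629),(2,0,316)],[]),(184,0,184,10,[(2,0,2482),(1,0,1891),(2,0,2076),(1,0,2482),(1,0,292)],[(1,0,292)]),(1032,7,277,21,[(1,0,292),(2,0,2760),(2,0,1326)],[(2,0,2482),(2,0,2476),(1,0,2074),(1,0,409)]),(1574,7,1033,1,[(2,0,2036),(2,0,2480),(1,0,2792),(2,0,2796),(1,0,1326)],[]),(185,7,346,1,[(2,0,293),(2,0,2760),(2,0,2797),(1,0,2643),(1,0,489)],[]),(832,7,347,1,[(1,0,1112),(1,0,2518),(2,0,2761),(1,0,2798),(1,0,490)],[]),(348,7,768,1,[(2,0,491),(2,0,2799),(2,0,1095)],[]),(607,7,349,1,[(2,0,807),(2,0,2268),(2,0,2337),(1,0,2375),(2,0,2800),(1,0,492)],[]),(74,7,350,1,[(1,0,126),(1,0,2279),(1,0,2801),(1,0,493)],[]),(1147,7,351,1,[(1,0,1476),(2,0,2330),(1,0,2257),(1,0,2802),(1,0,494)],[]),(43,7,352,1,[(1,0,89),(2,0,2330),(1,0,2199),(2,0,2338),(1,0,2803),(1,0,495)],[]),(43,7,353,1,[(2,0,1394),(1,0,28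04),(1,0,496)],[]),(982,7,354,1,[(2,0,1360),(1,0,2805),(1,0,497)],[]),(355,7,41,1,[(2,0,498),(2,0,2806),(2,0,1272)],[]),(41,7,356,1,[(2,0,1186),(2,0,2807),(1,0,499)],[]),(40,7,357,1,[(1,0,86),(1,0,2808),(1,0,500)],[]),(908,7,358,1,[(1,0,1185),(1,0,2809),(1,0,501)],[]),(905,7,359,1,[(1,0,1180),(1,0,2390),(1,0,2810),(1,0,502)],[]),(973,7,360,1,[(2,0,1254),(1,0,2811),(1,0,503)],[]),(361,7,893,1,[(2,0,504),(2,0,2812),(1,0,2503),(1,0,1164)],[]),(984,7,362,1,[(2,0,1277),(2,0,2450),(2,0,2503),(1,0,2445),(2,0,2813),(1,0,505)],[]),(363,7,902,1,[(2,0,506),(2,0,2814),(1,0,2508),(1,0,2492)],[]),(902,7,364,1,[(2,0,2490),(2,0,2815),(1,0,507)],[]),(912,7,365,1,[(2,0,1192),(1,0,2816),(1,0,508)],[]),(366,7,913,1,[(2,0,509),(2,0,2817),(1,0,1193)],[]),(886,7,184,23,[(1,0,292),(2,0,2760),(1,0,2521),(2,0,1158)],[(2,0,2482),(1,0,2485),(1,0,2482),(1,0,292)])]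
def facts2820 : List Fact := [(185,7,206,1,[(2,0,293),(2,0,2819),(1,0,2794),(2,0,315)],[]),(832,7,205,1,[(1,0,1112),(1,0,2518),(2,0,2761),(1,0,2820),(2,0,314)],[]),(204,7,1052,1,[(1,0,313),(2,0,2821),(2,0,2385),(1,0,2488)],[]),(203,7,891,1,[(1,0,312),(1,0,2822),(2,0,2512),(1,0,1162)],[]),(202,7,892,1,[(1,0,311),(1,0,2823),(1,0,1163)],[]),(201,7,361,1,[(1,0,310),(1,0,2824),(2,0,2503),(1,0,2812),(1,0,504)],[]),(200,7,359,1,[(1,0,309),(1,0,2825),(1,0,2813),(2,0,2445),(1,0,2812),(2,0,503)],[]),(78,7,199,1,[(2,0,129),(1,0,2397),(1,0,2359),(1,0,2811),(2,0,2826),(2,0,308)],[]),(79,7,198,1,[(2,0,130),(1,0,2827),(2,0,307)],[]),(1073,7,197,1,[(2,0,1382),(2,0,2339),(2,0,2420),(1,0,2828),(2,0,306)],[]),(1047,7,196,1,[(2,0,1384),(1,0,2370),(1,0,2829),(2,0,305)],[]),(1047,7,195,1,[(2,0,1381),(1,0,2830),(2,0,304)],[]),(78,7,194,1,[(1,0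,130),(1,0,2420),(1,0,2339),(1,0,2831),(2,0,303)],[]),(1049,7,193,1,[(2,0,1346),(2,0,2349),(2,0,2410),(1,0,2832),(2,0,302)],[]),(38,7,192,1,[(1,0,1030),(2,0,2378),(1,0,2833),(2,0,301)],[]),(38,7,191,1,[(2,0,1020),(1,0,2834),(2,0,300)],[]),(769,7,190,1,[(1,0,1027),(1,0,2835),(2,0,299)],[]),(768,7,189,1,[(1,0,1025),(1,0,2363),(1,0,2353),(1,0,2836),(2,0,298)],[]),(1168,7,188,1,[(1,0,1500),(1,0,2375),(1,0,2837),(2,0,297)],[]),(187,7,206,1,[(1,0,296),(2,0,2838),(1,0,2385),(1,0,2821),(1,0,314)],[]),(842,7,186,1,[(2,0,1113),(1,0,2518),(2,0,2761),(1,0,2820),(2,0,2839),(2,0,295)],[]),(185,0,185,11,[(1,0,2795),(1,0,293)],[(1,0,293)]),(1032,0,1032,12,[(1,0,2795),(2,0,2760),(2,0,1326)],[(2,0,2760),(2,0,1326)]),(366,3,304,24,[(1,0,293),(1,0,2484),(2,0,510)],[(2,0,2760),(2,0,1326),(1,0,2796),(1,0,2258),(2,0,438),(2,0,437)]),(842,7,185,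25,[(1,0,293),(1,0,2761),(2,0,2518),(1,0,1113)],[(1,0,2483),(1,0,2244),(1,0,1914),(1,0,2793),(1,0,293)]),(279,7,1032,28,[(2,0,2760),(2,0,1326),(1,0,2796),(2,0,2792),(1,0,411)],[(2,0,2760),(1,0,2521),(2,0,1158),(1,0,2819),(2,0,2760),(2,0,1326)]),(305,7,280,1,[(1,0,438),(2,0,2258),(2,0,2796),(2,0,2845),(1,0,412)],[]),(487,4,1683,0,[],[]),(912,7,366,21,[(1,0,2761),(2,0,2518),(2,0,1112),(2,0,2385),(1,0,2487),(1,0,1192)],[(1,0,2484),(2,0,510)]),(962,7,304,1,[(1,0,1243),(2,0,2457),(1,0,2848),(1,0,2843)],[]),(305,7,961,1,[(2,0,437),(2,0,2849),(2,0,1242)],[]),(914,7,366,28,[(1,0,2484),(2,0,510),(1,0,2818),(1,0,1194)],[(1,0,294),(2,0,2840),(1,0,2844),(1,0,2484),(2,0,510)]),(962,7,915,1,[(1,0,1243),(2,0,2457),(1,0,2848),(2,0,2851),(1,0,1195)],[]),(1092,4,1684,0,[],[]),(512,0,512,13,[(2,0,2190),(1,0,2710),(2,0,683)],[(2,0,2190),(2,0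,683)]),(512,1,512,18,[(2,0,2190),(1,0,612),(2,0,683)],[(2,0,2190),(2,0,683)]),(489,7,512,25,[(1,0,351),(1,0,2701),(2,0,683),(2,0,2713),(1,0,659)],[(2,0,2190),(2,0,683)]),(511,7,490,1,[(1,0,682),(2,0,2856),(1,0,660)],[]),(1683,7,512,27,[(2,0,2190),(2,0,2701),(1,0,2194),(1,0,2148),(1,0,2711),(2,0,683),(1,0,2712),(1,0,2847)],[(2,0,2190),(2,0,683)]),(491,7,254,29,[(2,0,2190),(2,0,683),(2,0,682),(1,0,2857),(1,0,661)],[(2,0,2190),(2,0,2701),(1,0,352),(1,0,353),(1,0,2715),(2,0,374)]),(252,7,492,1,[(1,0,372),(2,0,2756),(2,0,2785),(2,0,2859),(1,0,662)],[]),(1139,7,490,1,[(1,0,1459),(2,0,2785),(2,0,2859),(2,0,661)],[]),(42,7,493,1,[(2,0,1349),(1,0,2754),(1,0,2860),(1,0,663)],[]),(1047,7,494,1,[(1,0,1343),(1,0,2862),(1,0,664)],[]),(1070,7,495,1,[(2,0,1377),(1,0,2863),(1,0,665)],[]),(1047,7,496,1,[(2,0,1381),(2,0,2339),(2,0,2420),(1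,0,2501),(1,0,2864),(1,0,666)],[]),(1047,7,497,1,[(2,0,1384),(1,0,2865),(1,0,667)],[]),(80,7,498,1,[(2,0,131),(1,0,2420),(1,0,2339),(1,0,2866),(1,0,668)],[]),(1049,7,499,1,[(2,0,1464),(2,0,2331),(2,0,2426),(1,0,2867),(1,0,669)],[]),(119,7,500,1,[(2,0,179),(2,0,2674),(1,0,2868),(1,0,670)],[]),(838,7,501,1,[(2,0,1107),(2,0,2675),(1,0,2869),(1,0,671)],[]),(41,7,502,1,[(1,0,1271),(1,0,2870),(1,0,672)],[]),(42,7,503,1,[(2,0,87),(1,0,2871),(1,0,673)],[]),(42,7,504,1,[(2,0,1270),(1,0,2872),(1,0,674)],[]),(1050,7,505,1,[(1,0,1349),(1,0,2873),(1,0,675)],[]),(1075,7,506,1,[(2,0,1387),(1,0,2874),(1,0,676)],[]),(254,7,507,1,[(2,0,373),(2,0,2756),(1,0,2875),(1,0,677)],[]),(1091,7,508,1,[(2,0,1410),(2,0,2533),(2,0,2758),(1,0,2876),(1,0,678)],[]),(1139,7,509,1,[(1,0,1459),(2,0,2788),(1,0,2877),(1,0,679)],[]),(1093,7,510,1,[(2,0,1412),(2,0,2789),(1,0,2878),(1,0,680)],[])]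
def facts2880 : List Fact := [(281,1,1685,0,[],[]),(1139,0,1139,13,[(2,0,2756),(1,0,2787),(2,0,1459)],[(2,0,2756),(2,0,1459)]),(1139,1,1139,18,[(2,0,2756),(1,0,1388),(2,0,1459)],[(2,0,2756),(2,0,1459)]),(1684,7,1139,27,[(2,0,2756),(2,0,2785),(1,0,2758),(1,0,2533),(1,0,1410),(1,0,2788),(2,0,1459),(1,0,2789),(1,0,2853)],[(2,0,2756),(2,0,1459)]),(281,7,305,20,[(1,0,409),(1,0,2258),(2,0,438),(1,0,2846),(1,0,413)],[(2,0,2074),(1,0,2475),(1,0,2074),(1,0,409),(1,0,2258),(2,0,438)]),(960,7,282,1,[(1,0,1241),(2,0,2850),(2,0,2884),(1,0,414)],[]),(305,0,305,11,[(2,0,2796),(1,0,2842),(1,0,2796),(1,0,2258),(2,0,438)],[(1,0,2258),(2,0,438)]),(1685,7,305,16,[(1,0,2474),(1,0,2258),(2,0,438),(2,0,2884),(1,0,2880)],[(1,0,2258),(2,0,438)]),(960,7,305,25,[(1,0,2258),(2,0,438),(1,0,2850),(2,0,1241)],[(1,0,410),(1,0,2792),(1,0,2258),(2,0,438)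]),(304,7,283,1,[(1,0,437),(2,0,2888),(1,0,2885),(1,0,415)],[]),(284,7,366,1,[(2,0,416),(2,0,2889),(2,0,2843)],[]),(285,7,364,1,[(2,0,417),(1,0,2890),(2,0,2848),(1,0,2817),(2,0,508)],[]),(286,7,833,1,[(2,0,418),(1,0,2891),(2,0,2816),(2,0,1174)],[]),(833,7,287,1,[(2,0,1178),(2,0,2892),(1,0,419)],[]),(1171,7,288,1,[(2,0,1506),(2,0,2345),(1,0,2386),(1,0,2893),(1,0,420)],[]),(75,7,289,1,[(1,0,127),(1,0,2356),(1,0,2894),(1,0,421)],[]),(982,7,290,1,[(1,0,1363),(1,0,2337),(1,0,2895),(1,0,422)],[]),(291,7,909,1,[(2,0,423),(2,0,2896),(1,0,1273)],[]),(292,7,909,1,[(2,0,424),(1,0,2897),(1,0,1274)],[]),(40,7,293,1,[(1,0,1188),(2,0,2898),(1,0,425)],[]),(39,7,294,1,[(1,0,85),(1,0,2899),(1,0,426)],[]),(39,7,295,1,[(2,0,1105),(1,0,2900),(1,0,427)],[]),(836,7,296,1,[(1,0,1102),(1,0,2901),(1,0,428)],[]),(833,7,297,1,[(1,0,1097),(1,0,2376),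(1,0,2367),(1,0,2902),(1,0,429)],[]),(902,7,298,1,[(2,0,1174),(1,0,2903),(1,0,430)],[]),(284,7,299,1,[(1,0,417),(1,0,2891),(2,0,2816),(1,0,2904),(1,0,431)],[]),(366,7,300,1,[(2,0,509),(2,0,2817),(1,0,2848),(2,0,2890),(1,0,2905),(1,0,432)],[]),(914,7,301,1,[(2,0,1194),(2,0,2818),(1,0,2906),(1,0,433)],[]),(283,7,302,1,[(1,0,416),(1,0,2890),(2,0,2851),(1,0,2907),(1,0,434)],[]),(916,7,303,1,[(2,0,1196),(2,0,2852),(1,0,2849),(1,0,2889),(1,0,2908),(1,0,435)],[]),(305,6,305,26,[(1,0,2258),(2,0,438)],[(2,0,2792),(1,0,411),(1,0,2845),(1,0,2796),(1,0,2258),(2,0,438)]),(304,0,304,12,[(2,0,2846),(1,0,2886),(2,0,437)],[(2,0,2846),(2,0,437)]),(304,1,304,17,[(2,0,2846),(2,0,2884),(1,0,2880),(1,0,2887),(2,0,437)],[(2,0,2846),(2,0,437)]),(916,7,304,21,[(1,0,413),(1,0,2884),(2,0,437),(2,0,2849),(1,0,2852),(1,0,1196)],[(2,0,2846),(2,0,437)]),(304,6,304,28,[(2,0,2846),(2,0,437)],[(2,0,2846),(1,0,2910),(2,0,437)])]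
def facts : List Fact := facts0 ++ facts60 ++ facts120 ++ facts180 ++ facts240 ++ facts300 ++ facts360 ++ facts420 ++ facts480 ++ facts540 ++ facts600 ++ facts660 ++ facts720 ++ facts780 ++ facts840 ++ facts900 ++ facts960 ++ facts1020 ++ facts1080 ++ facts1140 ++ facts1200 ++ facts1260 ++ facts1320 ++ facts1380 ++ facts1440 ++ facts1500 ++ facts1560 ++ facts1620 ++ facts1680 ++ facts1740 ++ facts1800 ++ facts1860 ++ facts1920 ++ facts1980 ++ facts2040 ++ facts2100 ++ facts2160 ++ facts2220 ++ facts2280 ++ facts2340 ++ facts2400 ++ facts2460 ++ facts2520 ++ facts2580 ++ facts2640 ++ facts2700 ++ facts2760 ++ facts2820 ++ facts2880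
def goals : List Goal := [
  ([0,1],[(1,0,0),(1,0,1)],[(1,0,7),(1,0,6),(1,0,3),(1,0,5),(1,0,4),(1,0,3),(1,0,2),(2,0,1),(1,0,49),(1,0,116),(1,0,114),(1,0,115),(1,0,155),(1,0,271),(2,0,269),(1,0,272),(1,0,157),(2,0,526),(1,0,2230),(1,0,2009),(1,0,220),(1,0,2011),(2,0,2065),(1,0,2009),(2,0,219),(1,0,231),(1,0,279),(2,0,337),(2,0,108),(1,0,1909),(1,0,2782),(2,0,200),(2,0,2781),(1,0,2217),(2,0,2226),(1,0,380),(2,0,2087),(2,0,2237),(2,0,378),(1,0,2249),(1,0,2225),(2,0,616),(1,0,2259),(2,0,376),(2,0,2714),(2,0,352),(1,0,2701),(2,0,683),(1,0,2712),(1,0,658),(1,0,2713),(1,0,2712),(1,0,2847),(1,0,2858),(2,0,2713),(1,0,659),(1,0,2856),(1,0,2712),(1,0,658),(1,0,2713),(1,0,2854),(1,0,2855),(1,0,2712),(1,0,658),(1,0,2713),(2,0,682),(1,0,2857),(1,0,661),(1,0,2859),(1,0,2785),(1,0,2756),(2,0,372),(2,0,2754),(2,0,2340),(1,0,2750),(1,0,37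0),(1,0,2752),(2,0,2371),(2,0,2340),(1,0,2768),(2,0,186),(2,0,2767),(1,0,2748),(1,0,2350),(1,0,2746),(1,0,368),(1,0,2748),(1,0,2350),(2,0,1341),(2,0,2502),(1,0,2746),(2,0,367),(2,0,2744),(2,0,86),(1,0,1188),(1,0,1189),(2,0,2416),(2,0,2897),(2,0,423),(2,0,2896),(1,0,2387),(1,0,2749),(2,0,591),(2,0,2747),(1,0,2397),(1,0,2359),(1,0,1260),(2,0,2359),(2,0,2397),(1,0,129),(1,0,2410),(1,0,2349),(1,0,1259),(2,0,1267),(1,0,2746),(1,0,368),(1,0,2748),(1,0,2350),(2,0,2725),(2,0,579),(1,0,2723),(2,0,2822),(1,0,313),(2,0,2821),(2,0,2385),(1,0,2838),(2,0,296),(1,0,2839),(2,0,2820),(1,0,2484),(2,0,510),(2,0,2890),(2,0,416),(2,0,2889),(2,0,2849),(1,0,2852),(1,0,1196),(1,0,2913),(1,0,2911),(1,0,2912),(2,0,2849),(1,0,2852),(1,0,1196),(1,0,2913),(1,0,2914),(2,0,436),(2,0,2909),(1,0,2913),(2,0,2849),(1,0,2852),(1,0,1196),(1,0,2913),(1,0,2889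),(2,0,415),(2,0,2885),(1,0,2888),(1,0,2846),(2,0,412),(1,0,2845),(1,0,2796),(2,0,409),(1,0,2017),(2,0,1976),(1,0,2074),(2,0,408),(2,0,2069),(1,0,1979),(1,0,1983),(2,0,2018),(2,0,2043),(2,0,120),(2,0,119),(1,0,2048),(1,0,2052),(2,0,446),(1,0,457),(2,0,456),(2,0,528),(1,0,2213),(2,0,1905),(2,0,2063),(1,0,2782),(1,0,201),(1,0,2783),(2,0,2053),(2,0,449),(2,0,334),(2,0,2467),(1,0,142),(1,0,2468),(1,0,245),(2,0,2468),(1,0,143),(1,0,2469),(2,0,55),(2,0,13),(1,0,0),(1,0,1),(1,0,3)]),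
  ([],[],[(1,0,12),(1,0,11),(1,0,13),(1,0,57),(1,0,55),(1,0,56),(2,0,144),(1,0,221),(1,0,112),(1,0,270),(1,0,268),(1,0,272),(1,0,157),(2,0,454),(1,0,65),(1,0,453),(2,0,524),(1,0,601),(1,0,2534),(1,0,2463),(1,0,2239),(1,0,2228),(1,0,605),(2,0,2228),(2,0,2239),(2,0,2463),(2,0,139),(2,0,138),(2,0,2456),(2,0,2307),(2,0,2073),(2,0,104),(1,0,2251),(2,0,2092),(1,0,2294),(2,0,2312),(1,0,1591),(2,0,2318),(1,0,1590),(1,0,2319),(1,0,2251),(2,0,2092),(1,0,2294),(2,0,2312),(1,0,1588),(2,0,2307),(2,0,2073),(2,0,1862),(2,0,2045),(1,0,2223),(2,0,692),(2,0,2662),(1,0,167),(1,0,2663),(1,0,2325),(1,0,1503),(2,0,2325),(2,0,778),(2,0,2720),(2,0,354),(1,0,2715),(1,0,2281),(2,0,597),(2,0,2759),(1,0,2791),(1,0,2722),(1,0,2530),(1,0,1376),(1,0,2791),(1,0,354),(1,0,2720),(1,0,2332),(2,0,1463),(2,0,2394),(2,0,2332),(2,0,2720),(1,0,355),(1,0,2721),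(1,0,1394),(2,0,88),(1,0,1359),(1,0,1270),(1,0,1355),(2,0,2358),(2,0,87),(2,0,86),(2,0,1180),(1,0,1254),(1,0,2445),(2,0,2813),(2,0,2825),(1,0,310),(1,0,2824),(2,0,2503),(1,0,2496),(2,0,2676),(2,0,2762),(2,0,2700),(1,0,2784),(1,0,181),(1,0,2762),(1,0,2676),(1,0,2419),(2,0,2428),(1,0,773),(1,0,2422),(2,0,2350),(1,0,776),(1,0,2340),(1,0,1387),(1,0,2787),(1,0,1388),(1,0,2756),(2,0,372),(2,0,2754),(2,0,2340),(1,0,2768),(1,0,187),(1,0,188),(1,0,2770),(2,0,2663),(2,0,167),(1,0,2662),(1,0,707),(2,0,2191),(1,0,705),(2,0,2221),(1,0,2482),(1,0,292),(1,0,2795),(1,0,2483),(1,0,2481),(2,0,2483),(2,0,292),(2,0,2482),(1,0,2485),(1,0,2482),(2,0,291),(1,0,2645),(1,0,2702),(2,0,2471),(2,0,290),(1,0,2470),(2,0,2211),(1,0,289),(1,0,2470),(1,0,2145),(1,0,288),(1,0,2211),(1,0,1992),(2,0,2067),(1,0,2145),(2,0,287),(2,0,2144),(2,0,119),(2,0,2041),(1,0,2050),(2,0,280),(2,0,272),(2,0,268),(1,0,112),(1,0,62),(1,0,267),(1,0,392),(1,0,274),(1,0,223),(2,0,225),(1,0,243),(1,0,242),(1,0,225),(2,0,212),(2,0,19),(1,0,16),(1,0,15),(2,0,14),(2,0,13)]),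
  ([2,1],[(1,0,13),(1,0,14)],[(1,0,18),(1,0,34),(1,0,35),(1,0,39),(1,0,38),(2,0,35),(1,0,211),(1,0,147),(1,0,59),(2,0,110),(1,0,154),(1,0,264),(1,0,338),(1,0,235),(1,0,339),(2,0,109),(2,0,108),(2,0,1982),(1,0,1991),(1,0,2145),(1,0,288),(1,0,2211),(1,0,2473),(1,0,2677),(1,0,159),(1,0,2654),(2,0,530),(2,0,451),(1,0,347),(1,0,611),(1,0,2710),(1,0,612),(1,0,2190),(2,0,350),(2,0,2187),(1,0,2660),(1,0,165),(1,0,166),(1,0,167),(1,0,2663),(1,0,2325),(1,0,1501),(2,0,2346),(1,0,1499),(1,0,2838),(2,0,296),(1,0,2839),(2,0,2820),(1,0,2841),(1,0,2761),(2,0,2518),(1,0,2486),(2,0,1112),(2,0,2385),(1,0,2489),(1,0,2385),(1,0,2821),(2,0,313),(1,0,2822),(1,0,2709),(1,0,2653),(1,0,2786),(1,0,2723),(2,0,2822),(2,0,312),(1,0,2823),(1,0,2507),(1,0,2503),(2,0,2824),(1,0,311),(1,0,2823),(1,0,2507),(1,0,2445),(2,0,2813),(2,0,2825),(1,0,310),(1,0,2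824),(2,0,2503),(1,0,1255),(2,0,2413),(1,0,2445),(2,0,2813),(2,0,2825),(2,0,309),(1,0,2826),(2,0,2811),(2,0,2359),(2,0,2397),(1,0,129),(1,0,2410),(1,0,2349),(1,0,1346),(1,0,2378),(2,0,1030),(1,0,1020),(1,0,84),(1,0,1029),(1,0,1105),(2,0,1097),(1,0,1174),(1,0,2816),(2,0,2891),(2,0,417),(1,0,2890),(1,0,2818),(1,0,1194),(1,0,2851),(2,0,2848),(1,0,2817),(1,0,509),(2,0,2890),(1,0,417),(1,0,2891),(2,0,2816),(2,0,2487),(2,0,1499),(2,0,2325),(2,0,2663),(2,0,167),(1,0,2662),(2,0,699),(1,0,2246),(2,0,2083),(2,0,2234),(1,0,692),(1,0,68),(1,0,715),(1,0,693),(2,0,68),(1,0,618),(2,0,516),(2,0,2189),(2,0,694),(1,0,2216),(1,0,1894),(1,0,1875),(2,0,1879),(2,0,2068),(1,0,2066),(1,0,1863),(1,0,1884),(2,0,2019),(1,0,1882),(1,0,2782),(1,0,201),(1,0,2783),(2,0,2006),(1,0,109),(1,0,264),(2,0,332),(1,0,2139),(1,0,2051),(1,0,282),(1,0,2140),(2,0,117),(2,0,114),(2,0,49),(1,0,52),(1,0,51),(1,0,49),(1,0,50),(1,0,14),(1,0,16)]),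
  ([2,1,3,2],[(1,0,13),(1,0,14),(1,0,19),(1,0,20)],[(1,0,25),(1,0,24),(2,0,20),(1,0,212),(1,0,213),(2,0,225),(1,0,240),(1,0,241),(1,0,225),(1,0,228),(1,0,226),(1,0,246),(1,0,227),(1,0,215),(1,0,35),(1,0,36),(1,0,37),(2,0,35),(2,0,209),(1,0,218),(2,0,251),(1,0,263),(1,0,262),(1,0,251),(1,0,249),(2,0,250),(1,0,264),(1,0,110),(2,0,58),(2,0,13),(1,0,10),(1,0,9),(1,0,13),(2,0,50),(1,0,111),(2,0,49),(1,0,54),(1,0,53),(1,0,49),(1,0,113),(1,0,61),(1,0,112),(1,0,144),(2,0,146),(1,0,20),(1,0,25),(1,0,24),(2,0,20),(1,0,212),(1,0,213),(2,0,225),(1,0,240),(1,0,241),(1,0,225),(1,0,228),(1,0,226),(1,0,246),(1,0,227),(1,0,215),(1,0,35),(1,0,36),(1,0,37),(2,0,35),(2,0,209),(1,0,218),(2,0,251),(1,0,263),(1,0,262),(1,0,251),(1,0,249),(2,0,250),(1,0,264),(1,0,110),(2,0,58),(2,0,13),(1,0,10),(1,0,9),(1,0,13),(2,0,50),(1,0,111),(2,0,49),(1,0,54),(1,0,53),(1,0,49),(1,0,113),(1,0,61),(1,0,112),(1,0,144),(2,0,146),(1,0,20)]),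
  ([2,1,3,2,4,3],[(1,0,13),(1,0,14),(1,0,19),(1,0,20),(1,0,26),(1,0,27)],[(1,0,33),(1,0,32),(1,0,30),(1,0,31),(2,0,27),(1,0,225),(1,0,222),(2,0,223),(1,0,245),(1,0,278),(2,0,2468),(2,0,142),(2,0,141),(1,0,2465),(1,0,525),(1,0,2230),(1,0,2009),(1,0,333),(2,0,219),(2,0,275),(1,0,391),(1,0,272),(1,0,157),(1,0,540),(1,0,2215),(2,0,2042),(1,0,120),(1,0,2043),(1,0,1979),(2,0,2043),(1,0,121),(1,0,122),(1,0,2223),(1,0,68),(2,0,701),(2,0,2240),(1,0,2251),(2,0,2092),(1,0,2294),(2,0,2312),(1,0,93),(1,0,94),(1,0,2300),(1,0,2283),(2,0,2261),(1,0,2084),(2,0,2091),(1,0,2028),(2,0,2273),(2,0,2284),(2,0,2292),(2,0,2306),(1,0,1601),(1,0,1600),(1,0,94),(1,0,2300),(1,0,2283),(2,0,2261),(1,0,2084),(2,0,2091),(1,0,2028),(2,0,2273),(2,0,2284),(2,0,2292),(2,0,2306),(1,0,1598),(2,0,2311),(1,0,1597),(1,0,2313),(2,0,2293),(1,0,2283),(2,0,2261),(1,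0,2084),(2,0,2091),(1,0,2028),(2,0,2273),(2,0,2284),(2,0,2292),(2,0,2306),(1,0,94),(1,0,2300),(1,0,2283),(2,0,2261),(1,0,2084),(2,0,2091),(1,0,2028),(2,0,2273),(2,0,2284),(2,0,2292),(2,0,2306),(2,0,1572),(2,0,2310),(1,0,2274),(1,0,2262),(2,0,71),(1,0,798),(1,0,2295),(1,0,2352),(1,0,1022),(1,0,2365),(1,0,2295),(1,0,2352),(2,0,1017),(1,0,2364),(1,0,825),(1,0,2331),(1,0,1465),(2,0,2357),(1,0,1464),(1,0,2674),(1,0,179),(1,0,2675),(2,0,1345),(1,0,2404),(2,0,1269),(2,0,2403),(2,0,2897),(2,0,423),(2,0,2896),(1,0,2806),(1,0,498),(1,0,2807),(1,0,1186),(2,0,86),(1,0,1108),(2,0,2378),(1,0,2674),(2,0,178),(2,0,2673),(2,0,2357),(2,0,2331),(1,0,825),(1,0,2331),(1,0,1386),(2,0,1393),(2,0,2332),(2,0,2720),(2,0,354),(1,0,2715),(2,0,374),(1,0,2785),(2,0,1459),(1,0,2789),(1,0,1412),(1,0,2790),(1,0,2789),(1,0,2853),(1,0,2883),(1,0,2861),(2,0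,2857),(2,0,681),(2,0,2879),(1,0,2790),(1,0,2789),(1,0,1412),(1,0,2790),(1,0,2881),(1,0,2882),(1,0,2789),(1,0,1412),(1,0,2790),(1,0,2861),(2,0,660),(1,0,2856),(1,0,2712),(2,0,657),(1,0,2564),(1,0,2711),(1,0,2190),(2,0,350),(2,0,2187),(1,0,348),(2,0,2185),(1,0,2660),(2,0,164),(2,0,2659),(1,0,451),(1,0,346),(1,0,451),(2,0,522),(2,0,2567),(2,0,345),(2,0,400),(2,0,64),(1,0,401),(1,0,402),(2,0,456),(2,0,541),(1,0,2215),(1,0,1997),(2,0,2042),(2,0,119),(2,0,2041),(1,0,1996),(2,0,2002),(1,0,2054),(2,0,265),(1,0,207),(1,0,254),(2,0,229),(2,0,214),(1,0,20),(1,0,26),(1,0,27),(1,0,30),(1,0,28),(1,0,29),(1,0,30)]),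
  ([2,1,5,2],[(1,0,13),(1,0,14),(1,0,34),(1,0,35)],[(1,0,41),(1,0,42),(1,0,45),(1,0,47),(1,0,46),(1,0,45),(1,0,43),(1,0,44),(1,0,45),(1,0,48),(2,0,42),(1,0,251),(1,0,255),(2,0,208),(2,0,265),(1,0,207),(2,0,2054),(2,0,2040),(2,0,2204),(1,0,2054),(2,0,389),(1,0,2055),(2,0,108),(1,0,1987),(1,0,2009),(1,0,276),(2,0,219),(1,0,256),(1,0,257),(2,0,2467),(2,0,141),(1,0,2465),(1,0,448),(1,0,400),(1,0,345),(1,0,346),(1,0,451),(1,0,532),(2,0,2471),(1,0,291),(1,0,292),(2,0,2760),(2,0,1326),(1,0,2796),(1,0,2258),(2,0,438),(1,0,2846),(1,0,413),(1,0,2884),(1,0,2886),(2,0,2884),(1,0,2880),(1,0,2887),(1,0,2846),(1,0,413),(1,0,2884),(1,0,2910),(1,0,2850),(2,0,1241),(1,0,2888),(1,0,2846),(1,0,413),(1,0,2884),(2,0,437),(1,0,2889),(1,0,416),(1,0,417),(1,0,2891),(2,0,2816),(1,0,1175),(2,0,2399),(1,0,2816),(2,0,2891),(1,0,418),(1,0,2892),(1,0,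1178),(1,0,1181),(2,0,2405),(2,0,2386),(1,0,128),(1,0,129),(1,0,2410),(1,0,2349),(1,0,1344),(1,0,2404),(2,0,2897),(1,0,424),(1,0,2898),(2,0,2897),(2,0,423),(2,0,2896),(1,0,2387),(1,0,1099),(2,0,1104),(2,0,2377),(2,0,2378),(1,0,2674),(1,0,179),(1,0,2675),(1,0,1361),(2,0,2398),(2,0,2359),(2,0,2397),(2,0,128),(1,0,2386),(1,0,1178),(2,0,2386),(2,0,127),(2,0,126),(2,0,2257),(1,0,2330),(1,0,90),(2,0,2323),(1,0,70),(1,0,71),(1,0,72),(1,0,2274),(1,0,2262),(1,0,819),(1,0,818),(1,0,72),(1,0,2274),(1,0,2262),(1,0,816),(2,0,2200),(1,0,815),(1,0,2275),(1,0,2262),(1,0,72),(1,0,2274),(1,0,2262),(2,0,780),(2,0,2252),(1,0,2084),(2,0,2091),(1,0,2028),(2,0,2273),(2,0,2284),(2,0,2292),(2,0,2306),(2,0,93),(1,0,1588),(2,0,2307),(2,0,2073),(1,0,1868),(2,0,2021),(2,0,1860),(1,0,2217),(2,0,2226),(1,0,380),(2,0,2087),(1,0,1886),(2,0,1883),(1,0,2782),(1,0,201),(1,0,2783),(2,0,2053),(1,0,450),(1,0,452),(2,0,456),(2,0,455),(1,0,398),(2,0,64),(1,0,394),(2,0,342),(2,0,156),(1,0,271),(1,0,115),(1,0,145),(2,0,147),(1,0,35)]),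
  ([2,1,5,2,6,5],[(1,0,13),(1,0,14),(1,0,34),(1,0,35),(1,0,41),(1,0,42)],[(1,0,48),(2,0,42),(1,0,251),(1,0,255),(2,0,208),(2,0,265),(1,0,207),(2,0,2054),(2,0,2040),(2,0,2204),(1,0,2054),(2,0,389),(1,0,2055),(2,0,108),(1,0,1987),(1,0,2009),(1,0,276),(2,0,219),(1,0,256),(1,0,257),(2,0,2467),(2,0,141),(1,0,2465),(1,0,448),(1,0,400),(1,0,345),(1,0,346),(1,0,451),(1,0,532),(2,0,2471),(1,0,291),(1,0,292),(2,0,2760),(2,0,1326),(1,0,2796),(1,0,2258),(2,0,438),(1,0,2846),(1,0,413),(1,0,2884),(1,0,2886),(2,0,2884),(1,0,2880),(1,0,2887),(1,0,2846),(1,0,413),(1,0,2884),(1,0,2910),(1,0,2850),(2,0,1241),(1,0,2888),(1,0,2846),(1,0,413),(1,0,2884),(2,0,437),(1,0,2889),(1,0,416),(1,0,417),(1,0,2891),(2,0,2816),(1,0,1175),(2,0,2399),(1,0,2816),(2,0,2891),(1,0,418),(1,0,2892),(1,0,1178),(1,0,1181),(2,0,2405),(2,0,2386),(1,0,128),(1,0,129),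(1,0,2410),(1,0,2349),(1,0,1344),(1,0,2404),(2,0,2897),(1,0,424),(1,0,2898),(2,0,2897),(2,0,423),(2,0,2896),(1,0,2387),(1,0,1099),(2,0,1104),(2,0,2377),(2,0,2378),(1,0,2674),(1,0,179),(1,0,2675),(1,0,1361),(2,0,2398),(2,0,2359),(2,0,2397),(2,0,128),(1,0,2386),(1,0,1178),(2,0,2386),(2,0,127),(2,0,126),(2,0,2257),(1,0,2330),(1,0,90),(2,0,2323),(1,0,70),(1,0,71),(1,0,72),(1,0,2274),(1,0,2262),(1,0,819),(1,0,818),(1,0,72),(1,0,2274),(1,0,2262),(1,0,816),(2,0,2200),(1,0,815),(1,0,2275),(1,0,2262),(1,0,72),(1,0,2274),(1,0,2262),(2,0,780),(2,0,2252),(1,0,2084),(2,0,2091),(1,0,2028),(2,0,2273),(2,0,2284),(2,0,2292),(2,0,2306),(2,0,93),(1,0,1588),(2,0,2307),(2,0,2073),(1,0,1868),(2,0,2021),(2,0,1860),(1,0,2217),(2,0,2226),(1,0,380),(2,0,2087),(1,0,1886),(2,0,1883),(1,0,2782),(1,0,201),(1,0,2783),(2,0,2053),(1,0,450),(1,0,452),(2,0,456),(2,0,455),(1,0,398),(2,0,64),(1,0,394),(2,0,342),(2,0,156),(1,0,271),(1,0,115),(1,0,145),(2,0,147),(1,0,35),(1,0,41),(1,0,42),(1,0,45),(1,0,47),(1,0,46),(1,0,45),(1,0,43),(1,0,44),(1,0,45)])]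

theorem cert_ok : certOK data adj 1 extras defs facts word goals = true := by decide +kernel

end CentOne
end FiTwoTwo
end H99
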