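import Cfsg.Agent.H99.FiTwoTwo.Derive

/-!
The ninth power of a Coxeter element of the second diagram of type E7 is central (generated data).
-/

set_option autoImplicit false
set_option maxRecDepth 100000
set_option linter.all false

namespace H99
namespace FiTwoTwo
namespace CentThree

open H93.Coset

/-- the diagram on b c d e f g h -/
def adjList : List (ℕ × ℕ) := [(0,1),(1,0),(1,2),(2,1),(2,3),(2,6),(3,2),(3,4),(4,3),(4,5),(5,4),(6,2)]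
def adj (i j : ℕ) : Bool := adjList.contains (i, j)
def word : List ℕ := [6,5,4,3,2,1,0,6,5,4,3,2,1,0,6,5,4,3,2,1,0,6,5,4,3,2,1,0,6,5,4,3,2,1,0,6,5,4,3,2,1,0,6,5,4,3,2,1,0,6,5,4,3,2,1,0,6,5,4,3,2,1,0]
def extras : List (List ℕ) := []
def words : List (List ℕ) := [[0,0],[1,1],[2,2],[3,3],[4,4],[5,5],[6,6],[0,1,0,1,0,1],[0,2,0,2],[0,3,0,3],[0,4,0,4],[0,5,0,5],[0,6,0,6],[1,2,1,2,1,2],[1,3,1,3],[1,4,1,4],[1,5,1,5],[1,6,1,6],[2,3,2,3,2,3],[2,4,2,4],[2,5,2,5],[2,6,2,6,2,6],[3,4,3,4,3,4],[3,5,3,5],[3,6,3,6],[4,5,4,5,4,5],[4,6,4,6],[5,6,5,6],[0,1,0,1,0],[0,1,2,1,0],[0,1,3,1,0],[0,1,4,1,0],[0,1,5,1,0],[0,1,6,1,0],[1],[3],[4],[5],[6],[2,1,0,1,2],[2,1,2,1,2],[2,1,4,1,2],[2,1,5,1,2],[2,1,3,2,0,2,3,1,2],[2,1,3,2,1,2,3,1,2],[2,1,3,2,3,2,3,1,2],[2,1,3,2,5,2,3,1,2],[2,1,3,2,6,2,3,1,2],[2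,1,3,2,4,3,0,3,4,2,3,1,2],[2,1,3,2,4,3,1,3,4,2,3,1,2],[2,1,3,2,4,3,2,3,4,2,3,1,2],[2,1,3,2,4,3,4,3,4,2,3,1,2],[2,1,3,2,4,3,6,3,4,2,3,1,2],[2,1,3,2,4,3,5,4,0,4,5,3,4,2,3,1,2],[2,1,3,2,4,3,5,4,1,4,5,3,4,2,3,1,2],[2,1,3,2,4,3,5,4,2,4,5,3,4,2,3,1,2],[2,1,3,2,4,3,5,4,3,4,5,3,4,2,3,1,2],[2,1,3,2,4,3,5,4,5,4,5,3,4,2,3,1,2],[2,1,3,2,4,3,5,4,6,4,5,3,4,2,3,1,2],[2,1,6,2,0,2,6,1,2],[2,1,6,2,1,2,6,1,2],[2,1,6,2,3,2,6,1,2],[2,1,6,2,4,2,6,1,2],[2,1,6,2,5,2,6,1,2],[2,1,6,2,6,2,6,1,2]]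
def data : Data := ⟨1, 7, fun _ _ => 0, fun _ _ => 0, fun _ _ => 0, fun _ => 0, words, 28, []⟩
def defs0 : List (ℕ × ℕ) := [(0,0),(1,1),(0,2),(3,1),(4,3),(5,2),(6,4),(7,3),(8,5),(9,4),(4,6),(11,2),(1,2),(3,3),(3,6),(13,3),(13,6),(14,4),(14,6),(5,4),(5,6),(20,5),(20,6),(7,5),(16,4),(16,6),(19,2),(18,5),(18,6),(26,2),(25,5),(25,6),(29,2),(28,6),(22,6),(32,2),(31,6),(30,1),(33,3),(33,5),(34,2),(38,4),(36,3),(36,5),(37,2),(39,5),(42,3),(43,5),(47,5)]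
def defs : List (ℕ × ℕ) := defs0
def facts0 : List Fact := [(0,0,1,0,[],[]),(1,1,2,0,[],[]),(2,0,2,30,[(1,0,0),(1,0,1)],[(1,0,0),(1,0,1)]),(2,2,2,31,[(1,0,0),(1,0,1)],[(1,0,0),(1,0,1)]),(2,3,2,32,[(1,0,0),(1,0,1)],[(1,0,0),(1,0,1)]),(2,4,2,33,[(1,0,0),(1,0,1)],[(1,0,0),(1,0,1)]),(2,5,2,34,[(1,0,0),(1,0,1)],[(1,0,0),(1,0,1)]),(2,6,2,35,[(1,0,0),(1,0,1)],[(1,0,0),(1,0,1)]),(0,3,0,37,[],[]),(0,4,0,38,[],[]),(0,5,0,39,[],[]),(0,6,0,40,[],[]),(0,2,3,0,[],[]),(3,1,4,0,[],[]),(4,0,4,41,[(1,0,12),(1,0,13)],[(1,0,12),(1,0,13)]),(4,4,4,43,[(1,0,12),(1,0,13)],[(1,0,12),(1,0,13)]),(4,5,4,44,[(1,0,12),(1,0,13)],[(1,0,12),(1,0,13)]),(4,3,5,0,[],[]),(5,2,6,0,[],[]),(6,0,6,45,[(1,0,12),(1,0,13),(1,0,17),(1,0,18)],[(1,0,12),(1,0,13),(1,0,17),(1,0,18)]),(6,1,6,46,[(1,0,12),(1,0,13),(1,0,17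),(1,0,18)],[(1,0,12),(1,0,13),(1,0,17),(1,0,18)]),(6,5,6,48,[(1,0,12),(1,0,13),(1,0,17),(1,0,18)],[(1,0,12),(1,0,13),(1,0,17),(1,0,18)]),(6,6,6,49,[(1,0,12),(1,0,13),(1,0,17),(1,0,18)],[(1,0,12),(1,0,13),(1,0,17),(1,0,18)]),(6,4,7,0,[],[]),(7,3,8,0,[],[]),(8,0,8,50,[(1,0,12),(1,0,13),(1,0,17),(1,0,18),(1,0,23),(1,0,24)],[(1,0,12),(1,0,13),(1,0,17),(1,0,18),(1,0,23),(1,0,24)]),(8,1,8,51,[(1,0,12),(1,0,13),(1,0,17),(1,0,18),(1,0,23),(1,0,24)],[(1,0,12),(1,0,13),(1,0,17),(1,0,18),(1,0,23),(1,0,24)]),(8,2,8,52,[(1,0,12),(1,0,13),(1,0,17),(1,0,18),(1,0,23),(1,0,24)],[(1,0,12),(1,0,13),(1,0,17),(1,0,18),(1,0,23),(1,0,24)]),(8,6,8,54,[(1,0,12),(1,0,13),(1,0,17),(1,0,18),(1,0,23),(1,0,24)],[(1,0,12),(1,0,13),(1,0,17),(1,0,18),(1,0,23),(1,0,24)]),(8,5,9,0,[],[]),(9,4,10,0,[],[]),(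10,0,10,55,[(1,0,12),(1,0,13),(1,0,17),(1,0,18),(1,0,23),(1,0,24),(1,0,29),(1,0,30)],[(1,0,12),(1,0,13),(1,0,17),(1,0,18),(1,0,23),(1,0,24),(1,0,29),(1,0,30)]),(10,1,10,56,[(1,0,12),(1,0,13),(1,0,17),(1,0,18),(1,0,23),(1,0,24),(1,0,29),(1,0,30)],[(1,0,12),(1,0,13),(1,0,17),(1,0,18),(1,0,23),(1,0,24),(1,0,29),(1,0,30)]),(10,2,10,57,[(1,0,12),(1,0,13),(1,0,17),(1,0,18),(1,0,23),(1,0,24),(1,0,29),(1,0,30)],[(1,0,12),(1,0,13),(1,0,17),(1,0,18),(1,0,23),(1,0,24),(1,0,29),(1,0,30)]),(10,3,10,58,[(1,0,12),(1,0,13),(1,0,17),(1,0,18),(1,0,23),(1,0,24),(1,0,29),(1,0,30)],[(1,0,12),(1,0,13),(1,0,17),(1,0,18),(1,0,23),(1,0,24),(1,0,29),(1,0,30)]),(10,5,10,59,[(1,0,12),(1,0,13),(1,0,17),(1,0,18),(1,0,23),(1,0,24),(1,0,29),(1,0,30)],[(1,0,12),(1,0,13),(1,0,17),(1,0,18),(1,0,23),(1,0,24)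,(1,0,29),(1,0,30)]),(10,6,10,60,[(1,0,12),(1,0,13),(1,0,17),(1,0,18),(1,0,23),(1,0,24),(1,0,29),(1,0,30)],[(1,0,12),(1,0,13),(1,0,17),(1,0,18),(1,0,23),(1,0,24),(1,0,29),(1,0,30)]),(4,6,11,0,[],[]),(11,2,12,0,[],[]),(12,0,12,61,[(1,0,12),(1,0,13),(1,0,37),(1,0,38)],[(1,0,12),(1,0,13),(1,0,37),(1,0,38)]),(12,1,12,62,[(1,0,12),(1,0,13),(1,0,37),(1,0,38)],[(1,0,12),(1,0,13),(1,0,37),(1,0,38)]),(12,3,12,63,[(1,0,12),(1,0,13),(1,0,37),(1,0,38)],[(1,0,12),(1,0,13),(1,0,37),(1,0,38)]),(12,4,12,64,[(1,0,12),(1,0,13),(1,0,37),(1,0,38)],[(1,0,12),(1,0,13),(1,0,37),(1,0,38)]),(12,5,12,65,[(1,0,12),(1,0,13),(1,0,37),(1,0,38)],[(1,0,12),(1,0,13),(1,0,37),(1,0,38)]),(12,6,12,66,[(1,0,12),(1,0,13),(1,0,37),(1,0,38)],[(1,0,12),(1,0,13),(1,0,37),(1,0,38)]),(1,2,13,0,[],[]),(13,0,3,10,[(1,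0,0),(1,0,45)],[(1,0,12)]),(1,3,1,11,[(1,0,0)],[(1,0,8),(1,0,0)]),(1,4,1,12,[(1,0,0)],[(1,0,9),(1,0,0)]),(1,5,1,13,[(1,0,0)],[(1,0,10),(1,0,0)]),(1,6,1,14,[(1,0,0)],[(1,0,11),(1,0,0)]),(3,3,14,0,[],[]),(14,2,14,20,[(1,0,12),(1,0,51)],[(1,0,8),(1,0,12),(1,0,51)]),(3,4,3,21,[(1,0,12)],[(1,0,9),(1,0,12)]),(3,5,3,22,[(1,0,12)],[(1,0,10),(1,0,12)]),(3,6,15,0,[],[]),(15,2,15,23,[(1,0,12),(1,0,55)],[(1,0,11),(1,0,12),(1,0,55)]),(13,3,16,0,[],[]),(16,2,16,20,[(1,0,45),(1,0,57)],[(1,0,47),(1,0,45),(1,0,57)]),(13,4,13,21,[(1,0,45)],[(1,0,48),(1,0,45)])]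
def facts60 : List Fact := [(13,5,13,22,[(1,0,45)],[(1,0,49),(1,0,45)]),(13,6,17,0,[],[]),(17,2,17,23,[(1,0,45),(1,0,61)],[(1,0,50),(1,0,45),(1,0,61)]),(16,0,14,11,[(2,0,46),(1,0,57)],[(1,0,51)]),(17,0,15,14,[(2,0,46),(1,0,61)],[(1,0,55)]),(5,1,14,16,[(1,0,13),(1,0,17)],[(1,0,51)]),(11,1,15,19,[(1,0,13),(1,0,37)],[(1,0,55)]),(14,4,18,0,[],[]),(18,3,18,24,[(1,0,51),(1,0,67)],[(1,0,53),(1,0,51),(1,0,67)]),(14,5,14,25,[(1,0,51)],[(1,0,54),(1,0,51)]),(14,6,19,0,[],[]),(19,3,15,26,[(1,0,51),(1,0,70)],[(1,0,55)]),(15,4,15,28,[(1,0,53),(1,0,55)],[(1,0,55)]),(5,0,5,11,[(1,0,14),(1,0,17)],[(1,0,17)]),(11,0,11,14,[(1,0,14),(1,0,37)],[(1,0,37)]),(5,4,20,0,[],[]),(5,5,5,25,[(1,0,17)],[(1,0,16),(1,0,17)]),(5,6,21,0,[],[]),(21,3,11,26,[(1,0,17),(1,0,77)],[(1,0,37)]),(11,4,11,28,[(1,0,1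5),(1,0,37)],[(1,0,37)]),(11,5,11,29,[(1,0,16),(1,0,37)],[(1,0,37)]),(16,1,16,9,[(1,0,73),(1,0,65),(2,0,63)],[(1,0,65),(2,0,63)]),(20,0,20,12,[(1,0,73),(1,0,75)],[(1,0,75)]),(18,1,20,17,[(1,0,65),(1,0,67)],[(1,0,75)]),(19,1,21,19,[(1,0,65),(1,0,70)],[(1,0,77)]),(7,2,20,21,[(1,0,18),(1,0,23)],[(1,0,75)]),(21,2,21,23,[(1,0,18),(1,0,22),(2,0,18),(1,0,77)],[(1,0,77)]),(20,5,22,0,[],[]),(20,6,23,0,[],[]),(23,4,21,28,[(1,0,75),(1,0,88)],[(1,0,77)]),(21,5,21,29,[(1,0,76),(1,0,77)],[(1,0,77)]),(7,1,7,17,[(1,0,20),(1,0,23)],[(1,0,23)]),(7,5,24,0,[],[]),(7,6,7,28,[(1,0,23)],[(1,0,22),(1,0,23)]),(18,2,18,15,[(1,0,91),(1,0,85),(2,0,83)],[(1,0,85),(2,0,83)]),(22,2,24,22,[(1,0,85),(1,0,87)],[(1,0,92)]),(23,2,23,23,[(1,0,85),(1,0,88)],[(1,0,93),(1,0,85),(1,0,88)]),(9,3,24,25,[(1,0,24),(1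,0,29)],[(1,0,92)]),(24,6,24,29,[(1,0,92)],[(1,0,93),(1,0,92)]),(9,2,9,22,[(1,0,27),(1,0,29)],[(1,0,29)]),(22,3,22,20,[(1,0,99),(1,0,97),(2,0,95)],[(1,0,97),(2,0,95)]),(17,1,17,9,[(1,0,74),(1,0,66),(2,0,64)],[(1,0,66),(2,0,64)]),(23,3,23,24,[(2,0,78),(2,0,89)],[(1,0,79),(2,0,78),(2,0,89)]),(16,4,25,0,[],[]),(25,3,25,24,[(1,0,57),(1,0,103)],[(1,0,59),(1,0,57),(1,0,103)]),(16,5,16,25,[(1,0,57)],[(1,0,60),(1,0,57)]),(16,6,26,0,[],[]),(26,3,17,26,[(1,0,57),(1,0,106)],[(1,0,61)]),(25,0,18,12,[(2,0,63),(1,0,103)],[(1,0,67)]),(26,0,19,14,[(2,0,63),(1,0,106)],[(1,0,70)]),(19,2,27,0,[],[]),(18,5,28,0,[],[]),(28,4,28,27,[(1,0,67),(1,0,111)],[(1,0,69),(1,0,67),(1,0,111)]),(18,6,29,0,[],[]),(29,4,19,28,[(1,0,67),(1,0,113)],[(1,0,70)]),(19,5,19,29,[(1,0,69),(1,0,70)],[(1,0,70)]),(29,3,29,24,[(2,0,71),(2,0,114)],[(1,0,72),(2,0,71),(2,0,114)]),(25,1,25,17,[(1,0,81),(1,0,103)],[(1,0,103)]),(26,1,26,19,[(1,0,81),(1,0,106)],[(1,0,106)]),(25,2,25,21,[(1,0,58),(1,0,103)],[(1,0,103)])]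
def facts120 : List Fact := [(26,2,30,0,[],[]),(25,5,31,0,[],[]),(31,4,31,27,[(1,0,103),(1,0,121)],[(1,0,105),(1,0,103),(1,0,121)]),(25,6,32,0,[],[]),(32,4,26,28,[(1,0,103),(1,0,123)],[(1,0,106)]),(26,5,26,29,[(1,0,105),(1,0,106)],[(1,0,106)]),(30,3,30,20,[(1,0,62),(2,0,107),(1,0,120)],[(2,0,107),(1,0,120)]),(31,0,28,13,[(2,0,108),(1,0,121)],[(1,0,111)]),(32,0,29,14,[(2,0,108),(1,0,123)],[(1,0,113)]),(22,1,28,18,[(1,0,83),(1,0,87)],[(1,0,111)]),(23,1,29,19,[(1,0,83),(1,0,88)],[(1,0,113)]),(28,2,28,22,[(1,0,94),(1,0,111)],[(1,0,111)]),(29,2,33,0,[],[]),(33,6,33,23,[(1,0,94),(1,0,113),(1,0,132)],[(1,0,113),(1,0,132)]),(28,3,28,25,[(1,0,68),(1,0,111)],[(1,0,111)]),(28,6,34,0,[],[]),(34,5,29,29,[(1,0,111),(1,0,135)],[(1,0,113)]),(30,0,27,10,[(2,0,109),(1,0,120)],[(1,0,110)]),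(27,4,33,21,[(1,0,110)],[(2,0,114),(1,0,132)]),(27,5,27,22,[(1,0,110)],[(1,0,115),(1,0,110)]),(34,4,34,27,[(2,0,114),(2,0,136)],[(1,0,115),(2,0,114),(2,0,136)]),(22,0,22,13,[(1,0,82),(1,0,87)],[(1,0,87)]),(23,0,23,14,[(1,0,82),(1,0,88)],[(1,0,88)]),(22,6,35,0,[],[]),(35,5,23,29,[(1,0,87),(1,0,143)],[(1,0,88)]),(35,4,35,27,[(2,0,89),(2,0,144)],[(1,0,90),(2,0,89),(2,0,144)]),(31,1,31,9,[(1,0,141),(1,0,129),(2,0,127)],[(1,0,129),(2,0,127)]),(34,1,35,19,[(1,0,129),(1,0,135)],[(1,0,143)]),(35,2,35,23,[(1,0,95),(1,0,98),(2,0,95),(1,0,143)],[(1,0,143)]),(35,3,35,26,[(1,0,100),(1,0,143)],[(1,0,143)]),(32,1,32,9,[(1,0,142),(1,0,130),(2,0,128)],[(1,0,130),(2,0,128)]),(33,1,33,15,[(1,0,130),(1,0,132)],[(1,0,96),(1,0,130),(1,0,132)]),(31,2,31,22,[(1,0,119),(1,0,121)],[(1,0,121)]),(32,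2,36,0,[],[]),(36,6,36,23,[(1,0,119),(1,0,123),(1,0,153)],[(1,0,123),(1,0,153)]),(31,3,31,25,[(1,0,104),(1,0,121)],[(1,0,121)]),(31,6,37,0,[],[]),(37,5,32,29,[(1,0,121),(1,0,156)],[(1,0,123)]),(30,1,38,0,[],[]),(30,4,36,21,[(1,0,120)],[(2,0,124),(1,0,153)]),(30,5,30,22,[(1,0,120)],[(1,0,125),(1,0,120)]),(36,0,33,12,[(2,0,137),(1,0,159)],[(1,0,138)]),(33,3,39,0,[],[]),(33,5,40,0,[],[]),(40,4,40,27,[(1,0,138),(1,0,163)],[(1,0,139),(1,0,138),(1,0,163)]),(37,0,34,14,[(2,0,127),(1,0,156)],[(1,0,135)]),(34,2,41,0,[],[]),(34,3,34,26,[(1,0,134),(1,0,135)],[(1,0,135)]),(40,7,41,22,[(1,0,132),(1,0,163)],[(2,0,136),(1,0,166)]),(38,3,38,16,[(1,0,158)],[(1,0,126),(1,0,158)]),(38,4,42,0,[],[]),(42,1,36,17,[(1,0,158),(1,0,170)],[(1,0,159)]),(36,3,43,0,[],[]),(43,4,43,24,[(1,0,126),(1,0,159),(1,0,172)],[(1,0,159),(1,0,172)]),(36,5,44,0,[],[]),(44,4,44,27,[(1,0,159),(1,0,174)],[(1,0,160),(1,0,159),(1,0,174)]),(37,2,45,0,[],[]),(45,6,45,23,[(1,0,152),(1,0,156),(1,0,176)],[(1,0,156),(1,0,176)]),(37,3,37,26,[(1,0,155),(1,0,156)],[(1,0,156)]),(42,2,42,15,[(1,0,150),(1,0,153),(2,0,171)],[(1,0,153),(2,0,171)])]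
def facts180 : List Fact := [(44,7,45,22,[(1,0,153),(1,0,174)],[(2,0,157),(1,0,176)]),(43,0,39,11,[(2,0,161),(1,0,172)],[(1,0,162)]),(44,0,40,13,[(2,0,161),(1,0,174)],[(1,0,163)]),(39,1,39,16,[(1,0,151),(1,0,162)],[(1,0,162)]),(40,1,40,18,[(1,0,151),(1,0,163)],[(1,0,163)]),(39,5,46,0,[],[]),(46,3,40,25,[(1,0,162),(1,0,185)],[(1,0,163)]),(46,2,46,20,[(1,0,166),(2,0,168),(2,0,186)],[(1,0,167),(1,0,166),(2,0,168),(2,0,186)]),(42,3,47,0,[],[]),(47,1,43,16,[(2,0,171),(1,0,188)],[(1,0,172)]),(42,6,42,19,[(2,0,171)],[(1,0,154),(2,0,171)]),(43,5,48,0,[],[]),(48,3,44,25,[(1,0,172),(1,0,191)],[(1,0,174)]),(43,6,43,26,[(1,0,172)],[(1,0,154),(1,0,172)]),(48,2,48,20,[(1,0,176),(2,0,180),(2,0,192)],[(1,0,178),(1,0,176),(2,0,180),(2,0,192)]),(47,4,47,24,[(1,0,169),(1,0,170),(1,0,188)],[(1,0,170),(1,0,188)]),(48,0,46,13,[(2,0,181),(1,0,191)],[(1,0,185)]),(46,1,46,18,[(1,0,183),(1,0,185)],[(1,0,185)]),(47,5,49,0,[],[]),(47,6,47,26,[(1,0,188)],[(1,0,190),(1,0,188)]),(49,1,48,18,[(2,0,189),(1,0,198)],[(1,0,191)]),(48,6,48,29,[(1,0,191)],[(1,0,193),(1,0,191)]),(49,0,49,9,[(2,0,196),(2,0,200)],[(1,0,197),(2,0,196),(2,0,200)]),(49,6,49,29,[(1,0,198)],[(1,0,199),(1,0,198)])]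
def facts : List Fact := facts0 ++ facts60 ++ facts120 ++ facts180
def goals : List Goal := [
  ([0,1],[(1,0,0),(1,0,1)],[(1,0,7),(1,0,6),(1,0,5),(1,0,4),(1,0,3),(2,0,1),(2,0,0),(1,0,11),(1,0,10),(1,0,9),(1,0,8),(1,0,12),(1,0,13),(1,0,14),(1,0,37),(1,0,80),(1,0,79),(2,0,78),(1,0,86),(2,0,84),(2,0,109),(2,0,106),(1,0,105),(1,0,103),(1,0,104),(1,0,119),(1,0,117),(1,0,108),(1,0,113),(2,0,136),(1,0,140),(1,0,167),(1,0,166),(2,0,168),(1,0,184),(2,0,182),(1,0,180),(1,0,177),(2,0,180),(2,0,174),(2,0,159),(1,0,126),(2,0,120),(1,0,118),(1,0,109),(2,0,70),(1,0,69),(1,0,67),(1,0,68),(1,0,94),(1,0,83),(1,0,82),(1,0,88),(2,0,144),(1,0,145),(1,0,149),(1,0,148),(2,0,147),(2,0,165),(2,0,156),(2,0,121),(2,0,103),(2,0,57),(2,0,45),(1,0,1),(1,0,2)]),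
  ([],[],[(1,0,11),(1,0,10),(1,0,9),(1,0,8),(1,0,12),(1,0,13),(1,0,14),(1,0,37),(1,0,80),(1,0,79),(2,0,78),(1,0,86),(2,0,84),(2,0,109),(2,0,106),(1,0,105),(1,0,103),(1,0,104),(1,0,119),(1,0,117),(1,0,108),(1,0,113),(2,0,136),(1,0,140),(1,0,167),(1,0,166),(2,0,168),(1,0,184),(2,0,182),(1,0,180),(1,0,177),(2,0,180),(2,0,174),(2,0,159),(1,0,126),(2,0,120),(1,0,118),(1,0,109),(2,0,70),(1,0,69),(1,0,67),(1,0,68),(1,0,94),(1,0,83),(1,0,82),(1,0,88),(2,0,144),(1,0,145),(1,0,149),(1,0,148),(2,0,147),(2,0,165),(2,0,156),(2,0,121),(2,0,103),(2,0,57),(2,0,45),(1,0,1),(1,0,2),(1,0,7),(1,0,6),(1,0,5),(1,0,4),(1,0,3),(2,0,1),(2,0,0)]),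
  ([2,1],[(1,0,12),(1,0,13)],[(1,0,37),(1,0,80),(1,0,79),(2,0,78),(1,0,86),(2,0,84),(2,0,109),(2,0,106),(1,0,105),(1,0,103),(1,0,104),(1,0,119),(1,0,117),(1,0,108),(1,0,113),(2,0,136),(1,0,140),(1,0,167),(1,0,166),(2,0,168),(1,0,184),(2,0,182),(1,0,180),(1,0,177),(2,0,180),(2,0,174),(2,0,159),(1,0,126),(2,0,120),(1,0,118),(1,0,109),(2,0,70),(1,0,69),(1,0,67),(1,0,68),(1,0,94),(1,0,83),(1,0,82),(1,0,88),(2,0,144),(1,0,145),(1,0,149),(1,0,148),(2,0,147),(2,0,165),(2,0,156),(2,0,121),(2,0,103),(2,0,57),(2,0,45),(1,0,1),(1,0,2),(1,0,7),(1,0,6),(1,0,5),(1,0,4),(1,0,3),(2,0,1),(2,0,0),(1,0,11),(1,0,10),(1,0,9),(1,0,8),(1,0,12),(1,0,13),(1,0,14)]),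
  ([2,1,3,2],[(1,0,12),(1,0,13),(1,0,17),(1,0,18)],[(1,0,22),(1,0,21),(1,0,23),(1,0,24),(1,0,27),(1,0,26),(1,0,25),(1,0,28),(1,0,29),(1,0,30),(1,0,34),(1,0,33),(1,0,32),(1,0,31),(1,0,36),(1,0,35),(2,0,30),(1,0,97),(2,0,95),(1,0,129),(2,0,127),(1,0,156),(1,0,157),(1,0,124),(1,0,107),(1,0,62),(1,0,101),(1,0,64),(2,0,55),(1,0,54),(1,0,53),(1,0,51),(1,0,52),(2,0,65),(1,0,73),(1,0,77),(1,0,90),(2,0,89),(1,0,102),(1,0,96),(1,0,130),(2,0,128),(2,0,123),(1,0,121),(1,0,122),(1,0,155),(1,0,152),(1,0,146),(1,0,127),(1,0,135),(1,0,136),(1,0,114),(1,0,71),(1,0,56),(2,0,66),(1,0,74),(2,0,37),(1,0,16),(1,0,15),(1,0,17),(1,0,18),(1,0,20),(1,0,19)]),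
  ([2,1,3,2,4,3],[(1,0,12),(1,0,13),(1,0,17),(1,0,18),(1,0,23),(1,0,24)],[(1,0,28),(1,0,29),(1,0,30),(1,0,34),(1,0,33),(1,0,32),(1,0,31),(1,0,36),(1,0,35),(2,0,30),(1,0,97),(2,0,95),(1,0,129),(2,0,127),(1,0,156),(1,0,157),(1,0,124),(1,0,107),(1,0,62),(1,0,101),(1,0,64),(2,0,55),(1,0,54),(1,0,53),(1,0,51),(1,0,52),(2,0,65),(1,0,73),(1,0,77),(1,0,90),(2,0,89),(1,0,102),(1,0,96),(1,0,130),(2,0,128),(2,0,123),(1,0,121),(1,0,122),(1,0,155),(1,0,152),(1,0,146),(1,0,127),(1,0,135),(1,0,136),(1,0,114),(1,0,71),(1,0,56),(2,0,66),(1,0,74),(2,0,37),(1,0,16),(1,0,15),(1,0,17),(1,0,18),(1,0,20),(1,0,19),(1,0,22),(1,0,21),(1,0,23),(1,0,24),(1,0,27),(1,0,26),(1,0,25)]),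
  ([2,1,3,2,4,3,5,4],[(1,0,12),(1,0,13),(1,0,17),(1,0,18),(1,0,23),(1,0,24),(1,0,29),(1,0,30)],[(1,0,36),(1,0,35),(2,0,30),(1,0,97),(2,0,95),(1,0,129),(2,0,127),(1,0,156),(1,0,157),(1,0,124),(1,0,107),(1,0,62),(1,0,101),(1,0,64),(2,0,55),(1,0,54),(1,0,53),(1,0,51),(1,0,52),(2,0,65),(1,0,73),(1,0,77),(1,0,90),(2,0,89),(1,0,102),(1,0,96),(1,0,130),(2,0,128),(2,0,123),(1,0,121),(1,0,122),(1,0,155),(1,0,152),(1,0,146),(1,0,127),(1,0,135),(1,0,136),(1,0,114),(1,0,71),(1,0,56),(2,0,66),(1,0,74),(2,0,37),(1,0,16),(1,0,15),(1,0,17),(1,0,18),(1,0,20),(1,0,19),(1,0,22),(1,0,21),(1,0,23),(1,0,24),(1,0,27),(1,0,26),(1,0,25),(1,0,28),(1,0,29),(1,0,30),(1,0,34),(1,0,33),(1,0,32),(1,0,31)]),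
  ([2,1,6,2],[(1,0,12),(1,0,13),(1,0,37),(1,0,38)],[(1,0,44),(1,0,43),(1,0,42),(1,0,41),(2,0,38),(1,0,66),(2,0,64),(2,0,61),(1,0,60),(1,0,59),(1,0,57),(1,0,58),(1,0,81),(1,0,63),(1,0,70),(1,0,115),(2,0,114),(1,0,116),(1,0,132),(1,0,151),(2,0,161),(1,0,154),(1,0,174),(1,0,175),(2,0,192),(1,0,194),(2,0,200),(1,0,202),(1,0,203),(2,0,198),(1,0,195),(2,0,188),(1,0,179),(1,0,171),(1,0,161),(1,0,133),(1,0,163),(1,0,164),(2,0,186),(1,0,187),(1,0,197),(2,0,196),(1,0,201),(2,0,191),(1,0,173),(2,0,172),(2,0,153),(1,0,150),(1,0,128),(2,0,113),(1,0,111),(1,0,112),(1,0,134),(1,0,131),(2,0,129),(1,0,141),(1,0,143),(1,0,144),(1,0,89),(1,0,78),(1,0,38),(1,0,40),(1,0,39)])]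

theorem cert_ok : certOK data adj 1 extras defs facts word goals = true := by decide +kernel

end CentThree
end FiTwoTwo
end H99
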