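import Cfsg.Agent.H99.FiTwoTwo.Derive

/-!
The ninth power of a Coxeter element of the first diagram of type E7 is central (generated data).
-/

set_option autoImplicit false
set_option maxRecDepth 100000
set_option linter.all false

namespace H99
namespace FiTwoTwo
namespace CentTwo

open H93.Coset

/-- the diagram on a b c d e f h -/
def adjList : List (ℕ × ℕ) := [(0,1),(1,0),(1,2),(2,1),(2,3),(3,2),(3,4),(3,6),(4,3),(4,5),(5,4),(6,3)]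
def adj (i j : ℕ) : Bool := adjList.contains (i, j)
def word : List ℕ := [6,5,4,3,2,1,0,6,5,4,3,2,1,0,6,5,4,3,2,1,0,6,5,4,3,2,1,0,6,5,4,3,2,1,0,6,5,4,3,2,1,0,6,5,4,3,2,1,0,6,5,4,3,2,1,0,6,5,4,3,2,1,0]
def extras : List (List ℕ) := []
def words : List (List ℕ) := [[0,0],[1,1],[2,2],[3,3],[4,4],[5,5],[6,6],[0,1,0,1,0,1],[0,2,0,2],[0,3,0,3],[0,4,0,4],[0,5,0,5],[0,6,0,6],[1,2,1,2,1,2],[1,3,1,3],[1,4,1,4],[1,5,1,5],[1,6,1,6],[2,3,2,3,2,3],[2,4,2,4],[2,5,2,5],[2,6,2,6],[3,4,3,4,3,4],[3,5,3,5],[3,6,3,6,3,6],[4,5,4,5,4,5],[4,6,4,6],[5,6,5,6],[1,2,0,1,0,1,0,2,1],[1,2,0,1,2,1,0,2,1],[1,2,0,1,3,1,0,2,1],[1,2,0,1,4,1,0,2,1],[1,2,0,1,5,1,0,2,1],[1,2,0,1,6,1,0,2,1],[1,2,1,2,1],[1,2,3,2,1],[1,2,4,2,1],[1,2,5,2,1],[1,2,6,2,1],[0],[2],[4],[5],[6],[3,2,0,2,3],[3,2,1,2,3],[3,2,3,2,3],[3,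2,5,2,3],[3,2,4,3,0,3,4,2,3],[3,2,4,3,1,3,4,2,3],[3,2,4,3,2,3,4,2,3],[3,2,4,3,4,3,4,2,3],[3,2,4,3,6,3,4,2,3],[3,2,4,3,5,4,0,4,5,3,4,2,3],[3,2,4,3,5,4,1,4,5,3,4,2,3],[3,2,4,3,5,4,2,4,5,3,4,2,3],[3,2,4,3,5,4,3,4,5,3,4,2,3],[3,2,4,3,5,4,5,4,5,3,4,2,3],[3,2,4,3,5,4,6,4,5,3,4,2,3],[3,2,6,3,0,3,6,2,3],[3,2,6,3,1,3,6,2,3],[3,2,6,3,2,3,6,2,3],[3,2,6,3,4,3,6,2,3],[3,2,6,3,5,3,6,2,3],[3,2,6,3,6,3,6,2,3]]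
def data : Data := ⟨1, 7, fun _ _ => 0, fun _ _ => 0, fun _ _ => 0, fun _ => 0, words, 28, []⟩
def defs0 : List (ℕ × ℕ) := [(0,1),(1,2),(2,0),(3,1),(0,3),(5,2),(6,4),(7,3),(8,5),(9,4),(6,6),(11,3),(1,0),(1,3),(5,4),(5,6),(13,3),(14,4),(14,6),(15,5),(15,6),(7,5),(7,6),(22,6),(17,4),(17,6),(18,5),(18,6),(21,3),(20,6),(25,5),(25,6),(28,3),(27,6),(30,3),(32,3),(31,6),(34,3),(33,2),(35,4),(37,3),(36,2),(39,5),(38,4),(42,5),(43,4),(45,4)]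
def defs : List (ℕ × ℕ) := defs0
def facts0 : List Fact := [(0,1,1,0,[],[]),(1,2,2,0,[],[]),(2,0,3,0,[],[]),(3,1,4,0,[],[]),(4,0,4,30,[(1,0,0),(1,0,1),(1,0,2),(1,0,3)],[(1,0,0),(1,0,1),(1,0,2),(1,0,3)]),(4,2,4,31,[(1,0,0),(1,0,1),(1,0,2),(1,0,3)],[(1,0,0),(1,0,1),(1,0,2),(1,0,3)]),(4,3,4,32,[(1,0,0),(1,0,1),(1,0,2),(1,0,3)],[(1,0,0),(1,0,1),(1,0,2),(1,0,3)]),(4,4,4,33,[(1,0,0),(1,0,1),(1,0,2),(1,0,3)],[(1,0,0),(1,0,1),(1,0,2),(1,0,3)]),(4,5,4,34,[(1,0,0),(1,0,1),(1,0,2),(1,0,3)],[(1,0,0),(1,0,1),(1,0,2),(1,0,3)]),(4,6,4,35,[(1,0,0),(1,0,1),(1,0,2),(1,0,3)],[(1,0,0),(1,0,1),(1,0,2),(1,0,3)]),(2,3,2,37,[(1,0,0),(1,0,1)],[(1,0,0),(1,0,1)]),(2,4,2,38,[(1,0,0),(1,0,1)],[(1,0,0),(1,0,1)]),(2,5,2,39,[(1,0,0),(1,0,1)],[(1,0,0),(1,0,1)]),(2,6,2,40,[(1,0,0),(1,0,1)],[(1,0,0),(1,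0,1)]),(0,0,0,41,[],[]),(0,4,0,43,[],[]),(0,5,0,44,[],[]),(0,6,0,45,[],[]),(0,3,5,0,[],[]),(5,2,6,0,[],[]),(6,0,6,46,[(1,0,18),(1,0,19)],[(1,0,18),(1,0,19)]),(6,1,6,47,[(1,0,18),(1,0,19)],[(1,0,18),(1,0,19)]),(6,5,6,49,[(1,0,18),(1,0,19)],[(1,0,18),(1,0,19)]),(6,4,7,0,[],[]),(7,3,8,0,[],[]),(8,0,8,50,[(1,0,18),(1,0,19),(1,0,23),(1,0,24)],[(1,0,18),(1,0,19),(1,0,23),(1,0,24)]),(8,1,8,51,[(1,0,18),(1,0,19),(1,0,23),(1,0,24)],[(1,0,18),(1,0,19),(1,0,23),(1,0,24)]),(8,2,8,52,[(1,0,18),(1,0,19),(1,0,23),(1,0,24)],[(1,0,18),(1,0,19),(1,0,23),(1,0,24)]),(8,6,8,54,[(1,0,18),(1,0,19),(1,0,23),(1,0,24)],[(1,0,18),(1,0,19),(1,0,23),(1,0,24)]),(8,5,9,0,[],[]),(9,4,10,0,[],[]),(10,0,10,55,[(1,0,18),(1,0,19),(1,0,23),(1,0,24),(1,0,29),(1,0,30)],[(1,0,18),(1,0,19),(1,0,23),(1,0,24),(1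,0,29),(1,0,30)]),(10,1,10,56,[(1,0,18),(1,0,19),(1,0,23),(1,0,24),(1,0,29),(1,0,30)],[(1,0,18),(1,0,19),(1,0,23),(1,0,24),(1,0,29),(1,0,30)]),(10,2,10,57,[(1,0,18),(1,0,19),(1,0,23),(1,0,24),(1,0,29),(1,0,30)],[(1,0,18),(1,0,19),(1,0,23),(1,0,24),(1,0,29),(1,0,30)]),(10,3,10,58,[(1,0,18),(1,0,19),(1,0,23),(1,0,24),(1,0,29),(1,0,30)],[(1,0,18),(1,0,19),(1,0,23),(1,0,24),(1,0,29),(1,0,30)]),(10,5,10,59,[(1,0,18),(1,0,19),(1,0,23),(1,0,24),(1,0,29),(1,0,30)],[(1,0,18),(1,0,19),(1,0,23),(1,0,24),(1,0,29),(1,0,30)]),(10,6,10,60,[(1,0,18),(1,0,19),(1,0,23),(1,0,24),(1,0,29),(1,0,30)],[(1,0,18),(1,0,19),(1,0,23),(1,0,24),(1,0,29),(1,0,30)]),(6,6,11,0,[],[]),(11,3,12,0,[],[]),(12,0,12,61,[(1,0,18),(1,0,19),(1,0,37),(1,0,38)],[(1,0,18),(1,0,19),(1,0,37),(1,0,38)]),(12,1,12,62,[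(1,0,18),(1,0,19),(1,0,37),(1,0,38)],[(1,0,18),(1,0,19),(1,0,37),(1,0,38)]),(12,2,12,63,[(1,0,18),(1,0,19),(1,0,37),(1,0,38)],[(1,0,18),(1,0,19),(1,0,37),(1,0,38)]),(12,4,12,64,[(1,0,18),(1,0,19),(1,0,37),(1,0,38)],[(1,0,18),(1,0,19),(1,0,37),(1,0,38)]),(12,5,12,65,[(1,0,18),(1,0,19),(1,0,37),(1,0,38)],[(1,0,18),(1,0,19),(1,0,37),(1,0,38)]),(12,6,12,66,[(1,0,18),(1,0,19),(1,0,37),(1,0,38)],[(1,0,18),(1,0,19),(1,0,37),(1,0,38)]),(1,0,13,0,[],[]),(5,0,5,11,[(1,0,14),(1,0,18)],[(1,0,18)]),(1,3,14,0,[],[]),(14,1,5,16,[(1,0,0),(1,0,47)],[(1,0,18)]),(1,4,1,17,[(1,0,0)],[(1,0,15),(1,0,0)]),(1,5,1,18,[(1,0,0)],[(1,0,16),(1,0,0)]),(1,6,1,19,[(1,0,0)],[(1,0,17),(1,0,0)]),(5,4,15,0,[],[]),(15,3,15,24,[(1,0,18),(1,0,52)],[(1,0,15),(1,0,18),(1,0,52)]),(5,5,5,25,[(1,0,18)],[(1,0,16),(1,0,18)]),(5,6,16,0,[],[]),(16,3,16,26,[(1,0,18),(1,0,55)],[(1,0,17),(1,0,18),(1,0,55)]),(13,2,3,10,[(1,0,45)],[(1,0,1),(1,0,2)]),(13,3,17,0,[],[]),(17,0,14,11,[(1,0,45),(1,0,58)],[(1,0,47)])]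
def facts60 : List Fact := [(13,4,13,12,[(1,0,45)],[(1,0,49),(1,0,45)]),(13,5,13,13,[(1,0,45)],[(1,0,50),(1,0,45)]),(13,6,13,14,[(1,0,45)],[(1,0,51),(1,0,45)]),(14,4,18,0,[],[]),(18,3,18,24,[(1,0,47),(1,0,63)],[(1,0,49),(1,0,47),(1,0,63)]),(14,5,14,25,[(1,0,47)],[(1,0,50),(1,0,47)]),(14,6,19,0,[],[]),(19,3,19,26,[(1,0,47),(1,0,66)],[(1,0,51),(1,0,47),(1,0,66)]),(3,3,3,11,[(1,0,2)],[(1,0,10),(1,0,2)]),(17,2,17,20,[(2,0,57),(1,0,58)],[(1,0,68),(2,0,57),(1,0,58)]),(15,0,15,12,[(1,0,46),(1,0,52)],[(1,0,52)]),(16,0,16,14,[(1,0,46),(1,0,55)],[(1,0,55)]),(18,1,15,17,[(2,0,48),(1,0,63)],[(1,0,52)]),(19,1,16,19,[(2,0,48),(1,0,66)],[(1,0,55)]),(7,2,15,21,[(1,0,19),(1,0,23)],[(1,0,52)]),(11,2,16,23,[(1,0,19),(1,0,37)],[(1,0,55)]),(15,5,20,0,[],[]),(20,4,20,27,[(1,0,52),(1,0,76)],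[(1,0,54),(1,0,52),(1,0,76)]),(15,6,21,0,[],[]),(21,4,16,28,[(1,0,52),(1,0,78)],[(1,0,55)]),(16,5,16,29,[(1,0,54),(1,0,55)],[(1,0,55)]),(7,0,7,12,[(1,0,20),(1,0,23)],[(1,0,23)]),(11,0,11,14,[(1,0,20),(1,0,37)],[(1,0,37)]),(7,1,7,17,[(1,0,21),(1,0,23)],[(1,0,23)]),(11,1,11,19,[(1,0,21),(1,0,37)],[(1,0,37)]),(7,5,22,0,[],[]),(7,6,23,0,[],[]),(23,4,11,28,[(1,0,23),(1,0,86)],[(1,0,37)]),(11,5,11,29,[(1,0,22),(1,0,37)],[(1,0,37)]),(22,0,22,13,[(1,0,81),(1,0,85)],[(1,0,85)]),(18,2,18,15,[(1,0,83),(1,0,74),(2,0,72)],[(1,0,74),(2,0,72)]),(22,1,22,18,[(1,0,83),(1,0,85)],[(1,0,85)]),(20,2,22,22,[(1,0,74),(1,0,76)],[(1,0,85)]),(21,2,23,23,[(1,0,74),(1,0,78)],[(1,0,86)]),(9,3,22,25,[(1,0,24),(1,0,29)],[(1,0,85)]),(23,3,23,26,[(1,0,24),(1,0,28),(2,0,24),(1,0,86)],[(1,0,86)]),(22,6,2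4,0,[],[]),(24,5,23,29,[(1,0,85),(1,0,96)],[(1,0,86)]),(9,2,9,22,[(1,0,27),(1,0,29)],[(1,0,29)]),(9,6,9,29,[(1,0,29)],[(1,0,28),(1,0,29)]),(20,3,20,20,[(1,0,98),(1,0,94),(2,0,92)],[(1,0,94),(2,0,92)]),(24,3,24,26,[(1,0,94),(1,0,96)],[(1,0,99),(1,0,94),(1,0,96)]),(19,2,19,15,[(1,0,84),(1,0,75),(2,0,73)],[(1,0,75),(2,0,73)]),(24,4,24,27,[(2,0,87),(2,0,97)],[(1,0,88),(2,0,87),(2,0,97)]),(17,4,25,0,[],[]),(25,3,25,24,[(1,0,58),(1,0,104)],[(1,0,60),(1,0,58),(1,0,104)]),(17,5,17,25,[(1,0,58)],[(1,0,61),(1,0,58)]),(17,6,26,0,[],[]),(26,3,26,26,[(1,0,58),(1,0,107)],[(1,0,62),(1,0,58),(1,0,107)]),(25,0,18,12,[(2,0,59),(1,0,104)],[(1,0,63)]),(26,0,19,14,[(2,0,59),(1,0,107)],[(1,0,66)]),(18,5,27,0,[],[]),(27,4,27,27,[(1,0,63),(1,0,111)],[(1,0,65),(1,0,63),(1,0,111)]),(18,6,28,0,[],[]),(28,4,19,28,[(1,0,63),(1,0,113)],[(1,0,66)]),(19,5,19,29,[(1,0,65),(1,0,66)],[(1,0,66)]),(25,1,25,9,[(1,0,70),(2,0,72),(2,0,109)],[(2,0,72),(2,0,109)]),(20,0,20,13,[(1,0,70),(1,0,76)],[(1,0,76)]),(21,0,21,14,[(1,0,70),(1,0,78)],[(1,0,78)]),(27,1,20,18,[(2,0,72),(1,0,111)],[(1,0,76)])]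
def facts120 : List Fact := [(28,1,21,19,[(2,0,72),(1,0,113)],[(1,0,78)]),(21,3,29,0,[],[]),(20,6,30,0,[],[]),(30,5,21,29,[(1,0,76),(1,0,122)],[(1,0,78)]),(26,1,26,9,[(1,0,71),(2,0,73),(2,0,110)],[(2,0,73),(2,0,110)]),(30,4,30,27,[(2,0,79),(2,0,123)],[(1,0,80),(2,0,79),(2,0,123)]),(25,2,25,21,[(1,0,69),(1,0,104)],[(1,0,104)]),(26,2,26,23,[(1,0,69),(1,0,107)],[(1,0,107)]),(25,5,31,0,[],[]),(31,4,31,27,[(1,0,104),(1,0,128)],[(1,0,106),(1,0,104),(1,0,128)]),(25,6,32,0,[],[]),(32,4,26,28,[(1,0,104),(1,0,130)],[(1,0,107)]),(31,0,27,13,[(2,0,109),(1,0,128)],[(1,0,111)]),(32,0,28,14,[(2,0,109),(1,0,130)],[(1,0,113)]),(27,2,27,22,[(1,0,90),(1,0,111)],[(1,0,111)]),(28,2,28,23,[(1,0,90),(1,0,113)],[(1,0,113)]),(27,3,27,25,[(1,0,64),(1,0,111)],[(1,0,111)]),(28,3,33,0,[],[]),(33,6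,33,26,[(1,0,64),(1,0,113),(1,0,137)],[(1,0,113),(1,0,137)]),(27,6,34,0,[],[]),(34,5,28,29,[(1,0,111),(1,0,139)],[(1,0,113)]),(33,4,33,24,[(1,0,67),(2,0,114),(1,0,137)],[(2,0,114),(1,0,137)]),(34,4,34,27,[(2,0,114),(2,0,140)],[(1,0,115),(2,0,114),(2,0,140)]),(31,1,31,9,[(1,0,117),(2,0,119),(2,0,132)],[(2,0,119),(2,0,132)]),(34,1,30,19,[(2,0,119),(1,0,139)],[(1,0,122)]),(24,2,30,23,[(1,0,92),(1,0,96)],[(1,0,122)]),(30,3,35,0,[],[]),(32,1,32,9,[(1,0,118),(2,0,120),(2,0,133)],[(2,0,120),(2,0,133)]),(29,0,29,11,[(1,0,118),(1,0,121)],[(1,0,121)]),(33,1,29,16,[(2,0,120),(1,0,137)],[(1,0,121)]),(29,5,35,25,[(1,0,121)],[(2,0,123),(1,0,146)]),(35,2,35,20,[(1,0,145),(1,0,146)],[(1,0,101),(1,0,145),(1,0,146)]),(31,2,31,22,[(1,0,126),(1,0,128)],[(1,0,128)]),(32,2,32,23,[(1,0,126),(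1,0,130)],[(1,0,130)]),(31,3,31,25,[(1,0,105),(1,0,128)],[(1,0,128)]),(32,3,36,0,[],[]),(31,6,37,0,[],[]),(37,5,32,29,[(1,0,128),(1,0,156)],[(1,0,130)]),(36,4,36,24,[(1,0,108),(2,0,131),(1,0,155)],[(2,0,131),(1,0,155)]),(37,0,34,14,[(2,0,132),(1,0,156)],[(1,0,139)]),(34,3,38,0,[],[]),(38,6,38,26,[(1,0,136),(1,0,139),(1,0,160)],[(1,0,139),(1,0,160)]),(36,0,33,11,[(2,0,133),(1,0,155)],[(1,0,137)]),(33,2,39,0,[],[]),(33,5,38,25,[(1,0,137)],[(2,0,140),(1,0,160)]),(36,1,36,9,[(1,0,148),(2,0,149),(2,0,162)],[(2,0,149),(2,0,162)]),(35,0,35,13,[(1,0,148),(1,0,150)],[(1,0,150)]),(38,1,35,18,[(2,0,149),(1,0,164)],[(1,0,150)]),(35,4,40,0,[],[]),(37,2,37,23,[(1,0,152),(1,0,156)],[(1,0,156)]),(37,3,41,0,[],[]),(41,6,41,26,[(1,0,154),(1,0,156),(1,0,170)],[(1,0,156),(1,0,170)]),(36,2,42,0,[],[]),(42,3,42,20,[(1,0,153),(1,0,155),(1,0,172)],[(1,0,155),(1,0,172)]),(36,5,41,25,[(1,0,155)],[(2,0,157),(1,0,170)]),(41,0,38,13,[(2,0,162),(1,0,174)],[(1,0,164)]),(39,5,43,0,[],[]),(43,2,38,22,[(1,0,163),(1,0,176)],[(1,0,164)]),(38,4,44,0,[],[]),(44,3,44,24,[(1,0,160),(1,0,178)],[(1,0,142),(1,0,160),(1,0,178)])]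
def facts180 : List Fact := [(41,1,41,9,[(1,0,166),(2,0,167),(2,0,175)],[(2,0,167),(2,0,175)]),(43,1,43,15,[(2,0,167),(2,0,177)],[(1,0,151),(2,0,167),(2,0,177)]),(44,1,40,17,[(2,0,167),(1,0,178)],[(1,0,168)]),(40,2,40,21,[(1,0,151),(1,0,168)],[(1,0,168)]),(42,4,42,21,[(1,0,172)],[(1,0,158),(1,0,172)]),(42,5,45,0,[],[]),(45,2,41,22,[(1,0,172),(1,0,185)],[(1,0,174)]),(45,3,45,20,[(1,0,169),(1,0,170),(2,0,186)],[(1,0,170),(2,0,186)]),(45,0,43,10,[(2,0,175),(2,0,186)],[(2,0,177)]),(43,4,46,0,[],[]),(46,2,44,21,[(2,0,177),(1,0,189)],[(1,0,178)]),(46,1,46,15,[(2,0,182),(2,0,190)],[(1,0,183),(2,0,182),(2,0,190)]),(45,4,47,0,[],[]),(45,6,45,23,[(2,0,186)],[(1,0,171),(2,0,186)]),(47,5,47,27,[(1,0,184),(1,0,185),(1,0,192)],[(1,0,185),(1,0,192)]),(47,0,46,12,[(2,0,188),(1,0,192)],[(1,0,189)]),(47,6,47,28,[(1,0,192)],[(1,0,193),(1,0,192)])]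
def facts : List Fact := facts0 ++ facts60 ++ facts120 ++ facts180
def goals : List Goal := [
  ([1,2,0,1],[(1,0,0),(1,0,1),(1,0,2),(1,0,3)],[(1,0,9),(1,0,8),(1,0,7),(1,0,6),(1,0,5),(2,0,3),(2,0,2),(1,0,13),(1,0,12),(1,0,11),(1,0,10),(2,0,1),(2,0,0),(1,0,14),(1,0,17),(1,0,16),(1,0,15),(1,0,18),(1,0,19),(1,0,21),(1,0,20),(1,0,37),(1,0,88),(2,0,87),(1,0,95),(2,0,93),(2,0,120),(2,0,133),(2,0,130),(1,0,128),(1,0,129),(1,0,154),(1,0,152),(1,0,143),(1,0,132),(1,0,139),(1,0,140),(1,0,114),(1,0,67),(1,0,102),(1,0,73),(1,0,71),(2,0,55),(1,0,54),(1,0,52),(1,0,53),(2,0,74),(1,0,83),(1,0,81),(1,0,86),(2,0,97),(1,0,103),(1,0,101),(1,0,145),(2,0,144),(2,0,159),(2,0,156),(2,0,128),(2,0,104),(2,0,58),(1,0,57),(1,0,3),(1,0,4)]),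
  ([1,2],[(1,0,0),(1,0,1)],[(1,0,13),(1,0,12),(1,0,11),(1,0,10),(2,0,1),(2,0,0),(1,0,14),(1,0,17),(1,0,16),(1,0,15),(1,0,18),(1,0,19),(1,0,21),(1,0,20),(1,0,37),(1,0,88),(2,0,87),(1,0,95),(2,0,93),(2,0,120),(2,0,133),(2,0,130),(1,0,128),(1,0,129),(1,0,154),(1,0,152),(1,0,143),(1,0,132),(1,0,139),(1,0,140),(1,0,114),(1,0,67),(1,0,102),(1,0,73),(1,0,71),(2,0,55),(1,0,54),(1,0,52),(1,0,53),(2,0,74),(1,0,83),(1,0,81),(1,0,86),(2,0,97),(1,0,103),(1,0,101),(1,0,145),(2,0,144),(2,0,159),(2,0,156),(2,0,128),(2,0,104),(2,0,58),(1,0,57),(1,0,3),(1,0,4),(1,0,9),(1,0,8),(1,0,7),(1,0,6),(1,0,5),(2,0,3),(2,0,2)]),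
  ([],[],[(1,0,17),(1,0,16),(1,0,15),(1,0,18),(1,0,19),(1,0,21),(1,0,20),(1,0,37),(1,0,88),(2,0,87),(1,0,95),(2,0,93),(2,0,120),(2,0,133),(2,0,130),(1,0,128),(1,0,129),(1,0,154),(1,0,152),(1,0,143),(1,0,132),(1,0,139),(1,0,140),(1,0,114),(1,0,67),(1,0,102),(1,0,73),(1,0,71),(2,0,55),(1,0,54),(1,0,52),(1,0,53),(2,0,74),(1,0,83),(1,0,81),(1,0,86),(2,0,97),(1,0,103),(1,0,101),(1,0,145),(2,0,144),(2,0,159),(2,0,156),(2,0,128),(2,0,104),(2,0,58),(1,0,57),(1,0,3),(1,0,4),(1,0,9),(1,0,8),(1,0,7),(1,0,6),(1,0,5),(2,0,3),(2,0,2),(1,0,13),(1,0,12),(1,0,11),(1,0,10),(2,0,1),(2,0,0),(1,0,14)]),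
  ([3,2],[(1,0,18),(1,0,19)],[(1,0,37),(1,0,88),(2,0,87),(1,0,95),(2,0,93),(2,0,120),(2,0,133),(2,0,130),(1,0,128),(1,0,129),(1,0,154),(1,0,152),(1,0,143),(1,0,132),(1,0,139),(1,0,140),(1,0,114),(1,0,67),(1,0,102),(1,0,73),(1,0,71),(2,0,55),(1,0,54),(1,0,52),(1,0,53),(2,0,74),(1,0,83),(1,0,81),(1,0,86),(2,0,97),(1,0,103),(1,0,101),(1,0,145),(2,0,144),(2,0,159),(2,0,156),(2,0,128),(2,0,104),(2,0,58),(1,0,57),(1,0,3),(1,0,4),(1,0,9),(1,0,8),(1,0,7),(1,0,6),(1,0,5),(2,0,3),(2,0,2),(1,0,13),(1,0,12),(1,0,11),(1,0,10),(2,0,1),(2,0,0),(1,0,14),(1,0,17),(1,0,16),(1,0,15),(1,0,18),(1,0,19),(1,0,21),(1,0,20)]),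
  ([3,2,4,3],[(1,0,18),(1,0,19),(1,0,23),(1,0,24)],[(1,0,28),(1,0,29),(1,0,30),(1,0,34),(1,0,33),(1,0,32),(1,0,31),(1,0,36),(1,0,35),(2,0,30),(1,0,94),(2,0,92),(2,0,119),(2,0,132),(1,0,156),(1,0,157),(1,0,131),(1,0,108),(1,0,127),(1,0,124),(1,0,110),(2,0,66),(1,0,65),(1,0,63),(1,0,64),(1,0,90),(1,0,72),(1,0,70),(1,0,78),(2,0,123),(1,0,125),(1,0,146),(1,0,151),(2,0,167),(2,0,175),(1,0,171),(2,0,174),(1,0,158),(2,0,155),(1,0,153),(1,0,147),(1,0,133),(2,0,113),(1,0,111),(1,0,112),(1,0,136),(1,0,134),(1,0,119),(1,0,117),(1,0,122),(1,0,123),(1,0,79),(1,0,56),(2,0,75),(1,0,84),(1,0,82),(2,0,37),(1,0,22),(1,0,23),(1,0,24),(1,0,27),(1,0,26),(1,0,25)]),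
  ([3,2,4,3,5,4],[(1,0,18),(1,0,19),(1,0,23),(1,0,24),(1,0,29),(1,0,30)],[(1,0,36),(1,0,35),(2,0,30),(1,0,94),(2,0,92),(2,0,119),(2,0,132),(1,0,156),(1,0,157),(1,0,131),(1,0,108),(1,0,127),(1,0,124),(1,0,110),(2,0,66),(1,0,65),(1,0,63),(1,0,64),(1,0,90),(1,0,72),(1,0,70),(1,0,78),(2,0,123),(1,0,125),(1,0,146),(1,0,151),(2,0,167),(2,0,175),(1,0,171),(2,0,174),(1,0,158),(2,0,155),(1,0,153),(1,0,147),(1,0,133),(2,0,113),(1,0,111),(1,0,112),(1,0,136),(1,0,134),(1,0,119),(1,0,117),(1,0,122),(1,0,123),(1,0,79),(1,0,56),(2,0,75),(1,0,84),(1,0,82),(2,0,37),(1,0,22),(1,0,23),(1,0,24),(1,0,27),(1,0,26),(1,0,25),(1,0,28),(1,0,29),(1,0,30),(1,0,34),(1,0,33),(1,0,32),(1,0,31)]),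
  ([3,2,6,3],[(1,0,18),(1,0,19),(1,0,37),(1,0,38)],[(1,0,44),(1,0,43),(1,0,42),(2,0,38),(1,0,75),(2,0,73),(2,0,110),(2,0,107),(1,0,106),(1,0,104),(1,0,105),(1,0,126),(1,0,116),(1,0,109),(1,0,113),(2,0,140),(1,0,142),(1,0,160),(2,0,177),(1,0,181),(2,0,188),(1,0,193),(2,0,185),(1,0,184),(1,0,173),(2,0,172),(1,0,165),(1,0,162),(1,0,138),(1,0,164),(1,0,178),(1,0,179),(2,0,190),(1,0,191),(2,0,195),(1,0,196),(1,0,194),(2,0,192),(1,0,187),(1,0,186),(1,0,180),(1,0,175),(1,0,161),(2,0,164),(1,0,141),(2,0,137),(1,0,135),(1,0,120),(1,0,118),(2,0,78),(1,0,76),(1,0,77),(1,0,100),(1,0,92),(1,0,91),(1,0,89),(1,0,96),(1,0,97),(1,0,87),(1,0,38),(1,0,41),(1,0,40),(1,0,39)])]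

theorem cert_ok : certOK data adj 2 extras defs facts word goals = true := by decide +kernel

end CentTwo
end FiTwoTwo
end H99
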